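import Mathlib.GroupTheory.SpecificGroups.Alternating
import Mathlib.GroupTheory.Perm.Cycle.Concrete

/-!
# An endomorphism of `A₆` exchanging the two classes of elements of order three

The six totals (sets of five disjoint synthemes) are permuted by `S₆`.
-/

set_option autoImplicit false
set_option maxRecDepth 100000

namespace Cfsg.Agent.WidthFour

open Equiv

/-- The alternating group of degree 6. -/
abbrev A6 : Type := ↥(alternatingGroup (Fin 6))

/-- `(0 1 2)` -/
def cA : A6 := ⟨swap 0 1 * swap 1 2, Perm.mem_alternatingGroup.2 (by decide)⟩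
/-- `(3 4 5)` -/
def cB : A6 := ⟨swap 3 4 * swap 4 5, Perm.mem_alternatingGroup.2 (by decide)⟩

theorem cA_cB : cA * cB = cB * cA := by decide +kernel
theorem cA_three : cA * cA * cA = 1 := by decide +kernel
theorem cB_three : cB * cB * cB = 1 := by decide +kernel

namespace Outer

/-- The totals, each as five synthemes given by their values. -/
def totals : Fin 6 → Fin 5 → Fin 6 → Fin 6 :=
  ![![![1, 0, 3, 2, 5, 4], ![2, 4, 0, 5, 1, 3], ![3, 5, 4, 0, 2, 1], ![4, 3, 5, 1, 0, 2],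
      ![5, 2, 1, 4, 3, 0]],
    ![![1, 0, 4, 5, 2, 3], ![2, 5, 0, 4, 3, 1], ![3, 2, 1, 0, 5, 4], ![4, 3, 5, 1, 0, 2],
      ![5, 4, 3, 2, 1, 0]],
    ![![1, 0, 5, 4, 3, 2], ![2, 3, 0, 1, 5, 4], ![3, 5, 4, 0, 2, 1], ![4, 2, 1, 5, 0, 3],
      ![5, 4, 3, 2, 1, 0]],
    ![![1, 0, 3, 2, 5, 4], ![2, 5, 0, 4, 3, 1], ![3, 4, 5, 0, 1, 2], ![4, 2, 1, 5, 0, 3],
      ![5, 3, 4, 1, 2, 0]],
    ![![1, 0, 5, 4, 3, 2], ![2, 4, 0, 5, 1, 3], ![3, 2, 1, 0, 5, 4], ![4, 5, 3, 2, 0, 1],
      ![5, 3, 4, 1, 2, 0]],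
    ![![1, 0, 4, 5, 2, 3], ![2, 3, 0, 1, 5, 4], ![3, 4, 5, 0, 1, 2], ![4, 5, 3, 2, 0, 1],
      ![5, 2, 1, 4, 3, 0]]]

/-- `g` maps total `i` into total `j`. -/
def Moves (g : Perm (Fin 6)) (i j : Fin 6) : Prop :=
  ∀ s : Fin 5, ∃ t : Fin 5, ∀ x, g (totals i s x) = totals j t (g x)

instance (g : Perm (Fin 6)) (i j : Fin 6) : Decidable (Moves g i j) :=
  inferInstanceAs (Decidable (∀ s : Fin 5, ∃ t : Fin 5, ∀ x, g (totals i s x) = totals j t (g x)))

theorem two_synthemes : ∀ j j' : Fin 6, ∀ t₁ t₂ t₁' t₂' : Fin 5, t₁ ≠ t₂ →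
    (∀ x, totals j t₁ x = totals j' t₁' x) → (∀ x, totals j t₂ x = totals j' t₂' x) → j = j' := by
  decide +kernel

theorem totals_ne : ∀ i : Fin 6, ∃ x, totals i 0 x ≠ totals i 1 x := by decide +kernel

theorem moves_unique {g : Perm (Fin 6)} {i j j' : Fin 6} (h : Moves g i j) (h' : Moves g i j') :
    j = j' := by
  obtain ⟨t₁, e₁⟩ := h 0
  obtain ⟨t₂, e₂⟩ := h 1
  obtain ⟨t₁', e₁'⟩ := h' 0
  obtain ⟨t₂', e₂'⟩ := h' 1
  refine two_synthemes j j' t₁ t₂ t₁' t₂' (fun e => ?_) (fun x => ?_) (fun x => ?_)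
  · obtain ⟨x, hx⟩ := totals_ne i
    exact hx (g.injective (by rw [e₁, e₂, e]))
  · have := (e₁ (g.symm x)).symm.trans (e₁' (g.symm x))
    simpa using this
  · have := (e₂ (g.symm x)).symm.trans (e₂' (g.symm x))
    simpa using this

theorem moves_swap : ∀ a b i : Fin 6, ∃ j, Moves (swap a b) i j := by decide +kernel

theorem moves_one (i : Fin 6) : Moves 1 i i := fun s => ⟨s, fun _ => rfl⟩

theorem moves_mul {g h : Perm (Fin 6)} {i j k : Fin 6} (hg : Moves g i j) (hh : Moves h j k) :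
    Moves (h * g) i k := fun s => by
  obtain ⟨t, ht⟩ := hg s
  obtain ⟨u, hu⟩ := hh t
  exact ⟨u, fun x => by rw [Perm.mul_apply, Perm.mul_apply, ht, hu]⟩

theorem moves_exists (g : Perm (Fin 6)) : ∀ i, ∃ j, Moves g i j := by
  induction g using Perm.swap_induction_on with
  | one => exact fun i => ⟨i, moves_one i⟩
  | swap_mul f a b _ ih =>
    intro i
    obtain ⟨j, hj⟩ := ih i
    obtain ⟨k, hk⟩ := moves_swap a b j
    exact ⟨k, moves_mul hj hk⟩

/-- The image of total `i`. -/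
noncomputable def img (g : Perm (Fin 6)) (i : Fin 6) : Fin 6 := (moves_exists g i).choose

theorem img_eq {g : Perm (Fin 6)} {i j : Fin 6} (h : Moves g i j) : img g i = j :=
  moves_unique (moves_exists g i).choose_spec h

theorem img_mul (g h : Perm (Fin 6)) (i : Fin 6) : img (g * h) i = img g (img h i) :=
  img_eq (moves_mul (moves_exists h i).choose_spec (moves_exists g _).choose_spec)

theorem img_one (i : Fin 6) : img 1 i = i := img_eq (moves_one i)

/-- The action on totals. -/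
noncomputable def phi : Perm (Fin 6) →* Perm (Fin 6) where
  toFun g :=
    { toFun := img g
      invFun := img g⁻¹
      left_inv := fun i => by rw [← img_mul, inv_mul_cancel, img_one]
      right_inv := fun i => by rw [← img_mul, mul_inv_cancel, img_one] }
  map_one' := Equiv.ext img_one
  map_mul' g h := Equiv.ext (img_mul g h)

theorem phi_cA : phi (cA : Perm (Fin 6)) = (cA * cB : A6) := by
  have h : ∀ i : Fin 6, Moves (cA : Perm (Fin 6)) i (((cA * cB : A6) : Perm (Fin 6)) i) := by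
    decide +kernel
  exact Equiv.ext fun i => img_eq (h i)

theorem phi_cB : phi (cB : Perm (Fin 6)) = (cA * (cB * cB) : A6) := by
  have h : ∀ i : Fin 6, Moves (cB : Perm (Fin 6)) i (((cA * (cB * cB) : A6) : Perm (Fin 6)) i) := by
    decide +kernel
  exact Equiv.ext fun i => img_eq (h i)

theorem sign_phi (g : A6) : Perm.sign (phi (g : Perm (Fin 6))) = 1 := by
  have hle : Subgroup.closure {σ : Perm (Fin 6) | σ.IsThreeCycle} ≤
      (Perm.sign.comp phi).ker := by
    rw [Subgroup.closure_le]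
    intro σ hσ
    have h3 : σ ^ 3 = 1 := by rw [← hσ.orderOf]; exact pow_orderOf_eq_one σ
    have e : σ = (σ ^ 2) ^ 2 := by rw [← pow_mul, show 2 * 2 = 3 + 1 from rfl, pow_succ, h3, one_mul]
    show Perm.sign (phi σ) = 1
    rw [e, map_pow, map_pow, Int.units_pow_two]
  rw [Perm.closure_three_cycles_eq_alternating] at hle
  exact hle g.2

/-- The outer endomorphism of `A₆`. -/
noncomputable def phiA : A6 →* A6 :=
  (phi.comp (alternatingGroup (Fin 6)).subtype).codRestrict _ fun g => sign_phi g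

theorem phiA_cA : phiA cA = cA * cB := Subtype.ext phi_cA

theorem phiA_cB : phiA cB = cA * (cB * cB) := Subtype.ext phi_cB

end Outer

end Cfsg.Agent.WidthFour
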