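import Cfsg.Agent.Lib.WidthFour.Form
import Cfsg.Agent.Lib.WidthFour.OuterSix
import Mathlib.GroupTheory.SpecificGroups.Alternating.Simple

/-!
# Modules of the alternating group of degree 6 in characteristic 2

* `SixRep.trivial_of_small`: the action on at most eight elements is trivial.
* `SixRep.zero_of_invariant`: an invariant quadratic form on sixteen elements vanishes.
* `SixRep.exists_split`: for a faithful action on 256 elements commuting with a fixed-point-free
  map of order 3, after possibly composing with an outer endomorphism the subgroup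
  `⟨(0 1 2), (3 4 5)⟩` fixes nothing and `(0 1 2)(3 4 5)` fixes nothing.
-/

set_option autoImplicit false
set_option maxRecDepth 100000

namespace Cfsg.Agent.WidthFour

open Equiv

/-- An action of `A₆` by additive maps. -/
structure SixRep (V : Type*) [AddCommGroup V] where
  /-- the action -/
  act : A6 → V →+ V
  one' : ∀ x, act 1 x = x
  mul' : ∀ a b x, act (a * b) x = act a (act b x)

/-- `(0 1 2 3 4)` -/
def cF : A6 := ⟨swap 0 1 * swap 1 2 * swap 2 3 * swap 3 4, Perm.mem_alternatingGroup.2 (by decide)⟩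
/-- `(1 2)(4 5)` -/
def tInv : A6 := ⟨swap 1 2 * swap 4 5, Perm.mem_alternatingGroup.2 (by decide)⟩
/-- `(0 3)(1 4 2 5)` -/
def tSwap : A6 := ⟨swap 0 3 * (swap 1 4 * swap 4 2 * swap 2 5), Perm.mem_alternatingGroup.2 (by decide)⟩

theorem cF_five : cF * cF * cF * cF * cF = 1 ∧ cF ≠ 1 := by decide +kernel
theorem tInv_rel : tInv * cA = cA * cA * tInv ∧ tInv * cB = cB * cB * tInv ∧ tInv * tInv = 1 := by
  decide +kernel
theorem tSwap_rel : tSwap * cA = cB * tSwap ∧ tSwap * cB = cA * cA * tSwap ∧
    tSwap * (tSwap * (tSwap * tSwap)) = 1 := by decide +kernel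
theorem cAB_ne : cA ≠ 1 ∧ cB ≠ 1 := by decide +kernel

theorem z2_nsmul {V : Type*} [AddCommGroup V] (F : Form V) (x : V) :
    (2 : ℕ) • x = 0 ∧ (3 : ℕ) • x = x ∧ (4 : ℕ) • x = 0 ∧ (5 : ℕ) • x = x ∧ (6 : ℕ) • x = 0 := by
  have h : (2 : ℕ) • x = 0 := by rw [two_nsmul, F.two]
  refine ⟨h, ?_, ?_, ?_, ?_⟩
  · rw [show 3 = 2 + 1 from rfl, add_nsmul, h, zero_add, one_nsmul]
  · rw [show 4 = 2 * 2 from rfl, mul_nsmul, h, nsmul_zero]
  · rw [show 5 = 2 * 2 + 1 from rfl, add_nsmul, mul_nsmul, h, nsmul_zero, zero_add, one_nsmul]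
  · rw [show 6 = 2 * 3 from rfl, mul_nsmul, h, nsmul_zero]

theorem z2_zsmul {V : Type*} [AddCommGroup V] (F : Form V) (x : V) :
    (2 : ℤ) • x = 0 ∧ (3 : ℤ) • x = x ∧ (4 : ℤ) • x = 0 ∧ (5 : ℤ) • x = x ∧ (6 : ℤ) • x = 0 := by
  simp only [ofNat_zsmul]
  exact z2_nsmul F x

theorem isSimpleA6 : IsSimpleGroup A6 :=
  alternatingGroup.isSimpleGroup (by simp)

namespace SixRep

variable {V : Type*} [AddCommGroup V] (ρ : SixRep V)

/-- `W` is invariant. -/
def Inv (W : AddSubgroup V) : Prop := ∀ g, ∀ x ∈ W, ρ.act g x ∈ W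

theorem act_inv_act (g : A6) (x : V) : ρ.act g⁻¹ (ρ.act g x) = x := by
  rw [← ρ.mul', inv_mul_cancel, ρ.one']

theorem act_injective (g : A6) : Function.Injective (ρ.act g) := fun x y e => by
  rw [← ρ.act_inv_act g x, e, ρ.act_inv_act]

/-- The elements trivial on `W`. -/
def kerOn (W : AddSubgroup V) : Subgroup A6 where
  carrier := {g | ∀ x ∈ W, ρ.act g x = x}
  one_mem' := fun x _ => ρ.one' x
  mul_mem' := fun ha hb x hx => by rw [ρ.mul', hb x hx, ha x hx]
  inv_mem' := fun {a} ha x hx => by conv_lhs => rw [← ha x hx, ρ.act_inv_act]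

theorem kerOn_normal {W : AddSubgroup V} (hW : ρ.Inv W) : (ρ.kerOn W).Normal :=
  ⟨fun g hg a x hx => by
    rw [ρ.mul', ρ.mul', hg _ (hW _ x hx), ← ρ.mul', mul_inv_cancel, ρ.one']⟩

theorem trivial_of_ker {W : AddSubgroup V} (hW : ρ.Inv W) {g : A6} (hg : g ≠ 1)
    (hgW : ∀ x ∈ W, ρ.act g x = x) : ∀ a, ∀ x ∈ W, ρ.act a x = x := by
  haveI := isSimpleA6
  rcases (ρ.kerOn_normal hW).eq_bot_or_eq_top with e | e
  · have h : g ∈ ρ.kerOn W := hgW
    rw [e, Subgroup.mem_bot] at h
    exact absurd h hg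
  · intro a
    have h : a ∈ ρ.kerOn W := by rw [e]; trivial
    exact h

theorem act_iter {g : A6} (n : ℕ) (x : V) : (ρ.act g)^[n] x = ρ.act (g ^ n) x := by
  induction n with
  | zero => rw [pow_zero, ρ.one']; rfl
  | succ n ih => rw [Function.iterate_succ_apply', ih, pow_succ', ρ.mul']

theorem act_cF_five (x : V) : (ρ.act cF)^[5] x = x := by
  rw [ρ.act_iter, show cF ^ 5 = cF * cF * cF * cF * cF by simp [pow_succ], cF_five.1, ρ.one']

theorem act_cA_three (x : V) : ρ.act cA (ρ.act cA (ρ.act cA x)) = x := by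
  rw [← ρ.mul', ← ρ.mul', cA_three, ρ.one']

theorem act_cB_three (x : V) : ρ.act cB (ρ.act cB (ρ.act cB x)) = x := by
  rw [← ρ.mul', ← ρ.mul', cB_three, ρ.one']

theorem act_comm (x : V) : ρ.act cB (ρ.act cA x) = ρ.act cA (ρ.act cB x) := by
  rw [← ρ.mul', ← ρ.mul', cA_cB]

/-- The action on at most eight elements is trivial. -/
theorem trivial_of_small [Finite V] (two : ∀ x : V, x + x = 0) {W : AddSubgroup V}
    (hW : ρ.Inv W) (h8 : Nat.card W ≤ 8) : ∀ a, ∀ x ∈ W, ρ.act a x = x := by
  refine ρ.trivial_of_ker hW cF_five.2 fun x hx => ?_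
  set Fx := fixIn W (ρ.act cF)
  have h5 := card_fixIn_modEq (f := ρ.act cF) Nat.prime_five (hW cF) (fun y _ => ρ.act_cF_five y)
  have hle : Fx ≤ W := fun y hy => hy.1
  have hcard : Nat.card Fx = Nat.card W := by
    obtain ⟨k, hk⟩ := card_two_pow two W
    obtain ⟨j, hj⟩ := card_two_pow two Fx
    have hjk : Nat.card Fx ≤ Nat.card W := AddSubgroup.card_le_of_le hle
    rw [hk, hj] at h5 hjk
    rw [hk] at h8
    have hk3 : k ≤ 3 := (Nat.pow_le_pow_iff_right (by norm_num)).mp (h8.trans_eq (by norm_num))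
    have hj3 : j ≤ k := (Nat.pow_le_pow_iff_right (by norm_num)).mp hjk
    rw [hk, hj]
    interval_cases k <;> interval_cases j <;> first | rfl | (norm_num at h5)
  have : W ≤ Fx := (AddSubgroup.eq_of_le_of_card_ge hle hcard.ge).ge
  exact (this hx).2

/-- An invariant form on sixteen elements not all fixed vanishes there. -/
theorem zero_of_invariant [Finite V] (F : Form V) {W : AddSubgroup V} (hW : ρ.Inv W)
    (h16 : Nat.card W = 16) {g : A6} {x₀ : V} (hx₀ : x₀ ∈ W) (hg : ρ.act g x₀ ≠ x₀)
    (hq : ∀ a x, x ∈ W → F.q (ρ.act a x) = F.q x) : ∀ x ∈ W, F.q x = 0 := by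
  classical
  have := Fintype.ofFinite V
  -- the orbits on nonzero elements have at least six elements, in multiples of five
  have hfix : ∀ x ∈ W, x ≠ 0 → ρ.act cF x ≠ x := by
    intro x hx hx0 hfx
    set Fx := fixIn W (ρ.act cF)
    have h5 := card_fixIn_modEq (f := ρ.act cF) Nat.prime_five (hW cF) (fun y _ => ρ.act_cF_five y)
    have hle : Fx ≤ W := fun y hy => hy.1
    obtain ⟨j, hj⟩ := card_two_pow F.two Fx
    have hjk : Nat.card Fx ≤ 16 := h16 ▸ AddSubgroup.card_le_of_le hle
    have h2 : 2 ≤ Nat.card Fx := by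
      have : Nontrivial Fx := ⟨⟨0, ⟨x, hx, hfx⟩, fun e => hx0 (congrArg Subtype.val e).symm⟩⟩
      exact Finite.one_lt_card
    rw [h16, hj] at h5
    rw [hj] at hjk h2
    have hj4 : j ≤ 4 := (Nat.pow_le_pow_iff_right (by norm_num)).mp (hjk.trans_eq (by norm_num))
    have hj' : j = 4 := by interval_cases j <;> omega
    have hFW : Fx = W := AddSubgroup.eq_of_le_of_card_ge hle (by rw [h16, hj, hj']; norm_num)
    refine hg (ρ.trivial_of_ker hW cF_five.2 (fun y hy => ?_) g x₀ hx₀)
    rw [← hFW] at hy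
    exact hy.2
  let orb : V → Finset V := fun x => Finset.univ.image (fun a : A6 => ρ.act a x)
  have horb : ∀ x, ∀ y ∈ orb x, orb y = orb x := fun x y hy => by
    obtain ⟨a, -, rfl⟩ := Finset.mem_image.mp hy
    ext v
    simp only [orb, Finset.mem_image, Finset.mem_univ, true_and]
    constructor
    · rintro ⟨b, rfl⟩; exact ⟨b * a, ρ.mul' _ _ _⟩
    · rintro ⟨b, rfl⟩; exact ⟨b * a⁻¹, by rw [← ρ.mul', mul_assoc, inv_mul_cancel, mul_one]⟩
  have horbW : ∀ x ∈ W, x ≠ 0 → ∀ y ∈ orb x, y ∈ W ∧ y ≠ 0 := fun x hx hx0 y hy => by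
    obtain ⟨a, -, rfl⟩ := Finset.mem_image.mp hy
    exact ⟨hW a x hx, fun e => hx0 (ρ.act_injective a (e.trans (map_zero _).symm))⟩
  have hsize : ∀ x ∈ W, x ≠ 0 → 6 ≤ (orb x).card ∧ (orb x).card % 5 = 0 := by
    intro x hx hx0
    have hmem : x ∈ orb x := Finset.mem_image.mpr ⟨1, Finset.mem_univ _, ρ.one' x⟩
    refine ⟨?_, ?_⟩
    · by_contra hlt
      -- the kernel of the action on the orbit is everything
      let S := {y // y ∈ orb x}
      let f : A6 →* Perm S :=
        { toFun := fun a =>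
            { toFun := fun y => ⟨ρ.act a y, by
                obtain ⟨b, -, e⟩ := Finset.mem_image.mp y.2
                exact Finset.mem_image.mpr ⟨a * b, Finset.mem_univ _, by rw [ρ.mul', e]⟩⟩
              invFun := fun y => ⟨ρ.act a⁻¹ y, by
                obtain ⟨b, -, e⟩ := Finset.mem_image.mp y.2
                exact Finset.mem_image.mpr ⟨a⁻¹ * b, Finset.mem_univ _, by rw [ρ.mul', e]⟩⟩
              left_inv := fun y => Subtype.ext (ρ.act_inv_act a y)
              right_inv := fun y => Subtype.ext (by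
                show ρ.act a (ρ.act a⁻¹ (y : V)) = y
                rw [← ρ.mul', mul_inv_cancel, ρ.one']) }
          map_one' := Equiv.ext fun y => Subtype.ext (ρ.one' _)
          map_mul' := fun a b => Equiv.ext fun y => Subtype.ext (ρ.mul' a b _) }
      haveI := isSimpleA6
      rcases f.normal_ker.eq_bot_or_eq_top with e | e
      · have h := Nat.card_le_card_of_injective f (f.ker_eq_bot_iff.mp e)
        rw [Nat.card_perm, show Nat.card S = (orb x).card from by simp [S]] at h
        have h360 : Nat.card A6 = 360 := by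
          rw [nat_card_alternatingGroup, Nat.card_eq_fintype_card, Fintype.card_fin]; rfl
        rw [h360] at h
        have := Nat.factorial_le (show (orb x).card ≤ 5 by omega)
        rw [show Nat.factorial 5 = 120 from rfl] at this
        omega
      · refine hfix x hx hx0 ?_
        have h : cF ∈ f.ker := by rw [e]; trivial
        exact congrArg Subtype.val (Equiv.congr_fun h ⟨x, hmem⟩)
    · let u : V →+ V := ρ.act cF
      have hu : ∀ y ∈ orb x, u y ∈ orb x := fun y hy => by
        obtain ⟨b, -, rfl⟩ := Finset.mem_image.mp hy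
        exact Finset.mem_image.mpr ⟨cF * b, Finset.mem_univ _, ρ.mul' _ _ _⟩
      let F0 : Function.End {y // y ∈ orb x} := fun y => ⟨u y, hu y y.2⟩
      have hpow : ∀ (n : ℕ) (y : {y // y ∈ orb x}), ((F0 ^ n) y : V) = u^[n] y := by
        intro n
        induction n with
        | zero => intro y; rfl
        | succ n ih => intro y; rw [pow_succ', Function.iterate_succ_apply', ← ih y]; rfl
      have : Fact (Nat.Prime 5) := ⟨Nat.prime_five⟩
      have hone : F0 ^ 5 ^ 1 = 1 := by
        funext y; apply Subtype.ext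
        rw [pow_one, hpow]; exact ρ.act_cF_five y
      have h := Equiv.Perm.card_fixedPoints_modEq hone
      have : IsEmpty (Function.fixedPoints F0) := ⟨fun y => hfix _ (horbW x hx hx0 _ y.1.2).1
        (horbW x hx hx0 _ y.1.2).2 (congrArg Subtype.val y.2)⟩
      rw [Fintype.card_eq_zero (α := Function.fixedPoints F0), Fintype.card_coe] at h
      exact h
  have hT : ((Finset.univ.filter (· ∈ W)).erase (0 : V)).card = 15 := by
    rw [Finset.card_erase_of_mem (by simp [W.zero_mem]),
      show (Finset.univ.filter (· ∈ W)).card = 16 by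
        rw [← h16, Nat.card_eq_fintype_card, Fintype.card_subtype]]
  have hall : ∀ x ∈ W, x ≠ 0 → ∀ y ∈ W, y ≠ 0 → y ∈ orb x := by
    intro x hx hx0 y hy hy0
    by_contra hno
    have hdis : Disjoint (orb x) (orb y) := Finset.disjoint_left.mpr fun v hv hv' => hno (by
      rw [← horb x v hv, horb y v hv']
      exact Finset.mem_image.mpr ⟨1, Finset.mem_univ _, ρ.one' y⟩)
    have hsub : orb x ∪ orb y ⊆ (Finset.univ.filter (· ∈ W)).erase (0 : V) := by
      intro v hv
      rcases Finset.mem_union.mp hv with h | h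
      · simp [(horbW x hx hx0 v h).1, (horbW x hx hx0 v h).2]
      · simp [(horbW y hy hy0 v h).1, (horbW y hy hy0 v h).2]
    have h := Finset.card_le_card hsub
    rw [hT, Finset.card_union_of_disjoint hdis] at h
    have := hsize x hx hx0
    have := hsize y hy hy0
    omega
  have hx00 : x₀ ≠ 0 := fun e => hg (by rw [e, map_zero])
  refine F.eq_zero_of_const (by omega) (c := F.q x₀) fun y hy hy0 => ?_
  obtain ⟨a, -, rfl⟩ := Finset.mem_image.mp (hall x₀ hx₀ hx00 y hy hy0)
  exact hq a x₀ hx₀

/-- Composition with the outer endomorphism. -/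
noncomputable def twist : SixRep V where
  act g := ρ.act (Outer.phiA g)
  one' x := by rw [map_one, ρ.one']
  mul' a b x := by rw [map_mul, ρ.mul']

/-- No vector is fixed by `(0 1 2)` and `(3 4 5)`, none by `(0 1 2)(3 4 5)` and none by
`(0 1 2)(3 5 4)`. -/
structure Split : Prop where
  no_P : ∀ x, ρ.act cA x = x → ρ.act cB x = x → x = 0
  no_AB : ∀ x, ρ.act cA (ρ.act cB x) = x → x = 0
  no_AB' : ∀ x, ρ.act cA (ρ.act cB (ρ.act cB x)) = x → x = 0

theorem twist_injective (hinj : ∀ g, (∀ x, ρ.act g x = x) → g = 1) :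
    ∀ g, (∀ x, ρ.twist.act g x = x) → g = 1 := by
  intro g hg
  have h := hinj _ hg
  haveI := isSimpleA6
  rcases (Outer.phiA.normal_ker).eq_bot_or_eq_top with e | e
  · exact (Outer.phiA.ker_eq_bot_iff.mp e) (h.trans (map_one _).symm)
  · have : cA ∈ Outer.phiA.ker := by rw [e]; trivial
    rw [MonoidHom.mem_ker, Outer.phiA_cA] at this
    exact absurd this (by decide +kernel)

/-- One of the action and its twist splits. -/
theorem exists_split [Finite V] (F : Form V) (s : V →+ V) (hcard : Nat.card V = 256)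
    (hs3 : ∀ x, s^[3] x = x) (hfpf : ∀ x, s x = x → x = 0)
    (hsρ : ∀ g x, s (ρ.act g x) = ρ.act g (s x))
    (hinj : ∀ g, (∀ x, ρ.act g x = x) → g = 1) : ρ.Split ∨ ρ.twist.Split := by
  set a := ρ.act cA with ha
  set b := ρ.act cB with hb
  have a3 : ∀ x, a (a (a x)) = x := ρ.act_cA_three
  have b3 : ∀ x, b (b (b x)) = x := ρ.act_cB_three
  have ab : ∀ x, b (a x) = a (b x) := ρ.act_comm
  set eA := avgThree a
  set eB := avgThree b
  set c := a.comp b with hc
  set d := a.comp (b.comp b) with hd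
  set eC := avgThree c
  set eD := avgThree d
  set eP := eA.comp eB
  have add3 : ∀ x : V, x + x + x = x := fun x => by rw [F.two, zero_add]
  have dec : ∀ x, eA x + eB x + eC x + eD x + eP x = x := by
    intro x
    simp only [eA, eB, eC, eD, eP, avgThree_apply, AddMonoidHom.coe_comp, Function.comp_apply,
      hc, hd, map_add, ab, a3, b3]
    abel_nf
    simp [z2_zsmul F, z2_nsmul F]
  -- the five components
  let P0 : AddSubgroup V := fixIn ⊤ a ⊓ fixIn ⊤ b
  let CA : AddSubgroup V := fixIn ⊤ a ⊓ kerIn ⊤ eP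
  let CB : AddSubgroup V := fixIn ⊤ b ⊓ kerIn ⊤ eP
  let CC : AddSubgroup V := fixIn ⊤ c ⊓ kerIn ⊤ eP
  let CD : AddSubgroup V := fixIn ⊤ d ⊓ kerIn ⊤ eP
  have hP0 : ∀ x ∈ P0, eA x = x ∧ eB x = x ∧ eC x = x ∧ eD x = x ∧ eP x = x := by
    rintro x ⟨⟨-, h1⟩, ⟨-, h2⟩⟩
    simp only [eA, eB, eC, eD, eP, avgThree_apply, AddMonoidHom.coe_comp, Function.comp_apply,
      hc, hd, h1, h2, add3, and_self]
  have hAc : ∀ x ∈ CA, eA x = x ∧ eB x = 0 ∧ eC x = 0 ∧ eD x = 0 := by
    rintro x ⟨⟨-, h1⟩, ⟨-, h2⟩⟩
    have e : eB x = 0 := by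
      have : eP x = eB x := by
        simp only [eP, eA, eB, avgThree_apply, AddMonoidHom.coe_comp, Function.comp_apply,
          map_add, ← ab, h1, add3]
      rw [← this, h2]
    refine ⟨by simp only [eA, avgThree_apply, h1, add3], e, ?_, ?_⟩ <;>
      rw [← e] <;> simp only [eC, eD, eB, avgThree_apply, AddMonoidHom.coe_comp,
        Function.comp_apply, hc, hd, ← ab, h1, b3]
    abel
  have hBc : ∀ x ∈ CB, eB x = x ∧ eA x = 0 ∧ eC x = 0 ∧ eD x = 0 := by
    rintro x ⟨⟨-, h1⟩, ⟨-, h2⟩⟩
    have e : eA x = 0 := by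
      have : eP x = eA x := by
        simp only [eP, eA, eB, avgThree_apply, AddMonoidHom.coe_comp, Function.comp_apply, h1, add3]
      rw [← this, h2]
    refine ⟨by simp only [eB, avgThree_apply, h1, add3], e, ?_, ?_⟩ <;>
      rw [← e] <;> simp only [eC, eD, eA, avgThree_apply, AddMonoidHom.coe_comp,
        Function.comp_apply, hc, hd, ab, h1]
  have hCc : ∀ x ∈ CC, eC x = x ∧ eA x = 0 ∧ eB x = 0 ∧ eD x = 0 := by
    rintro x ⟨⟨-, h1⟩, ⟨-, h2⟩⟩
    have h1' : a (b x) = x := h1
    have h1'' : b x = a (a x) := by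
      conv_rhs => rw [← h1', a3]
    have e : eA x = 0 := by
      have : eP x = eA x := by
        simp only [eP, eA, eB, avgThree_apply, AddMonoidHom.coe_comp, Function.comp_apply,
          map_add, h1'', ab, a3]
        abel_nf
        simp [z2_zsmul F, z2_nsmul F]
      rw [← this, h2]
    refine ⟨by simp only [eC, avgThree_apply, hc, AddMonoidHom.coe_comp, Function.comp_apply,
      h1', add3], e, ?_, ?_⟩ <;>
      rw [← e] <;> simp only [eD, eB, eA, avgThree_apply, AddMonoidHom.coe_comp,
        Function.comp_apply, hd, map_add, h1'', ab, a3] <;> abel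
  have hDc : ∀ x ∈ CD, eD x = x ∧ eA x = 0 ∧ eB x = 0 ∧ eC x = 0 := by
    rintro x ⟨⟨-, h1⟩, ⟨-, h2⟩⟩
    have h1' : a (b (b x)) = x := h1
    have h1'' : b x = a x := by
      conv_lhs => rw [← h1', ab, b3]
    have e : eA x = 0 := by
      have : eP x = eA x := by
        simp only [eP, eA, eB, avgThree_apply, AddMonoidHom.coe_comp, Function.comp_apply,
          map_add, h1'', ab, a3]
        abel_nf
        simp [z2_zsmul F, z2_nsmul F]
      rw [← this, h2]
    refine ⟨by simp only [eD, avgThree_apply, hd, AddMonoidHom.coe_comp, Function.comp_apply,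
      h1', add3], e, ?_, ?_⟩ <;>
      rw [← e] <;> simp only [eC, eB, eA, avgThree_apply, AddMonoidHom.coe_comp,
        Function.comp_apply, hc, map_add, h1'', ab, a3]
    abel
  -- the sum of the components is direct
  let sum5 : P0 × CA × CB × CC × CD → V := fun p => p.1 + p.2.1 + p.2.2.1 + p.2.2.2.1 + p.2.2.2.2
  have hinj5 : Function.Injective sum5 := by
    intro p p' e
    have pr : ∀ p : P0 × CA × CB × CC × CD,
        eP (sum5 p) = p.1 ∧ eA (sum5 p) = p.1 + p.2.1 ∧ eB (sum5 p) = p.1 + p.2.2.1 ∧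
          eC (sum5 p) = p.1 + p.2.2.2.1 ∧ eD (sum5 p) = p.1 + p.2.2.2.2 := by
      intro p
      obtain ⟨p0, p1, p2, p3, p4⟩ := p
      have q0 := hP0 _ p0.2
      have q1 := hAc _ p1.2
      have q2 := hBc _ p2.2
      have q3 := hCc _ p3.2
      have q4 := hDc _ p4.2
      simp only [sum5, map_add, q0.1, q0.2.1, q0.2.2.1, q0.2.2.2.1, q0.2.2.2.2, q1.1, q1.2.1,
        q1.2.2.1, q1.2.2.2, q2.1, q2.2.1, q2.2.2.1, q2.2.2.2, q3.1, q3.2.1, q3.2.2.1, q3.2.2.2,
        q4.1, q4.2.1, q4.2.2.1, q4.2.2.2, p1.2.2.2, p2.2.2.2, p3.2.2.2, p4.2.2.2, add_zero,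
        and_self]
    obtain ⟨e0, e1, e2, e3, e4⟩ := pr p
    obtain ⟨f0, f1, f2, f3, f4⟩ := pr p'
    rw [e] at e0 e1 e2 e3 e4
    have g0 : (p.1 : V) = p'.1 := e0.symm.trans f0
    refine Prod.ext (Subtype.ext g0) (Prod.ext (Subtype.ext ?_) (Prod.ext (Subtype.ext ?_)
      (Prod.ext (Subtype.ext ?_) (Subtype.ext ?_))))
    · exact add_left_cancel ((e1.symm.trans f1).trans (by rw [g0]))
    · exact add_left_cancel ((e2.symm.trans f2).trans (by rw [g0]))
    · exact add_left_cancel ((e3.symm.trans f3).trans (by rw [g0]))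
    · exact add_left_cancel ((e4.symm.trans f4).trans (by rw [g0]))
  have hle : Nat.card P0 * (Nat.card CA * (Nat.card CB * (Nat.card CC * Nat.card CD))) ≤ 256 := by
    rw [← hcard, ← Nat.card_prod, ← Nat.card_prod, ← Nat.card_prod, ← Nat.card_prod]
    exact Nat.card_le_card_of_injective sum5 hinj5
  -- the swap and the inversion
  set t := ρ.act tSwap with ht
  set i := ρ.act tInv with hi
  have ta : ∀ x, t (a x) = b (t x) := fun x => by rw [← ρ.mul', tSwap_rel.1, ρ.mul']
  have tb : ∀ x, t (b x) = a (a (t x)) := fun x => by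
    rw [← ρ.mul', tSwap_rel.2.1, ρ.mul', ρ.mul']
  have ia : ∀ x, i (a x) = a (a (i x)) := fun x => by
    rw [← ρ.mul', tInv_rel.1, ρ.mul', ρ.mul']
  have ib : ∀ x, i (b x) = b (b (i x)) := fun x => by
    rw [← ρ.mul', tInv_rel.2.1, ρ.mul', ρ.mul']
  have sa : ∀ x, s (a x) = a (s x) := hsρ cA
  have sb : ∀ x, s (b x) = b (s x) := hsρ cB
  have seP : ∀ x, eP (s x) = s (eP x) := fun x => by
    simp only [eP, eA, eB, avgThree_apply, AddMonoidHom.coe_comp, Function.comp_apply, map_add, sa,
      sb]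
  have ieP : ∀ x, eP (i x) = i (eP x) := fun x => by
    simp only [eP, eA, eB, avgThree_apply, AddMonoidHom.coe_comp, Function.comp_apply, map_add, ia,
      ib, a3, b3]
    simp only [← ab, a3, b3]
    abel
  have teP : ∀ x, eP (t x) = t (eP x) := fun x => by
    simp only [eP, eA, eB, avgThree_apply, AddMonoidHom.coe_comp, Function.comp_apply, map_add, ta,
      tb, ab, a3, b3]
    abel
  have big : ∀ (W : AddSubgroup V) (u : V →+ V), (∀ x ∈ W, s x ∈ W) → (∀ x ∈ W, i x ∈ W) →
      (∀ x ∈ W, u x ∈ W) → (∀ x, u (u (u x)) = x) → (∀ x, i (u x) = u (u (i x))) →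
      (∀ x, s (u x) = u (s x)) → (∀ x ∈ W, u x = x → x = 0) → Nat.card W = 1 ∨ 16 ≤ Nat.card W := by
    intro W u hsW hiW huW hu3 hiu hsu hufix
    obtain ⟨k, hk⟩ := card_two_pow F.two W
    have h3 := card_fixIn_modEq (f := s) Nat.prime_three hsW (fun x _ => hs3 x)
    rw [show fixIn W s = ⊥ from (AddSubgroup.eq_bot_iff_forall _).mpr fun x hx => hfpf x hx.2,
      AddSubgroup.card_bot] at h3
    by_contra hcon
    push Not at hcon
    have h4 : Nat.card W = 4 := by
      rw [hk] at h3 hcon ⊢
      have : k < 4 := (Nat.pow_lt_pow_iff_right (by norm_num)).mp (hcon.2.trans_eq (by norm_num))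
      interval_cases k <;> omega
    obtain ⟨x, hx, hx0⟩ : ∃ x ∈ W, x ≠ 0 := by
      by_contra hno
      push Not at hno
      exact hcon.1 (by rw [(AddSubgroup.eq_bot_iff_forall _).mpr hno, AddSubgroup.card_bot])
    classical
    have := Fintype.ofFinite V
    let T : Finset V := (Finset.univ.filter (· ∈ W)).erase 0
    have hT : T.card = 3 := by
      rw [Finset.card_erase_of_mem (by simp [W.zero_mem]),
        show (Finset.univ.filter (· ∈ W)).card = 4 by
          rw [← h4, Nat.card_eq_fintype_card, Fintype.card_subtype]]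
    have s3 : ∀ y, s (s (s y)) = y := hs3
    have sne : ∀ y, y ≠ 0 → s y ≠ 0 := fun y hy e => hy (by rw [← s3 y, e, map_zero, map_zero])
    have hT3 : T = {x, s x, s (s x)} := by
      refine (Finset.eq_of_subset_of_card_le ?_ ?_).symm
      · intro y hy
        simp only [Finset.mem_insert, Finset.mem_singleton] at hy
        rcases hy with rfl | rfl | rfl
        · simp [T, hx, hx0]
        · simp [T, hsW _ hx, sne _ hx0]
        · simp [T, hsW _ (hsW _ hx), sne _ (sne _ hx0)]
      · rw [hT, Finset.card_insert_of_notMem, Finset.card_insert_of_notMem, Finset.card_singleton]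
        · simp only [Finset.mem_singleton]
          intro e
          exact sne _ hx0 (hfpf _ e.symm)
        · simp only [Finset.mem_insert, Finset.mem_singleton, not_or]
          refine ⟨fun e => hx0 (hfpf x e.symm), fun e => hx0 (hfpf x ?_)⟩
          calc s x = s (s (s x)) := by rw [← e]
            _ = x := s3 x
    have hux : u x ∈ T := by
      have : u x ≠ 0 := fun e => hx0 (by rw [← hu3 x, e, map_zero, map_zero])
      simp [T, huW _ hx, this]
    rw [hT3, Finset.mem_insert, Finset.mem_insert, Finset.mem_singleton] at hux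
    -- on `W` the map `u` is a power of `s`, which commutes with `i`
    have hall : ∀ f : V →+ V, (∀ y, s (f y) = f (s y)) → (∀ y, s (u y) = u (s y)) → f x = u x →
        ∀ y ∈ W, u y = f y := by
      intro f hf _ hfx y hy
      by_cases hy0 : y = 0
      · rw [hy0, map_zero, map_zero]
      have : y ∈ T := by simp [T, hy, hy0]
      rw [hT3, Finset.mem_insert, Finset.mem_insert, Finset.mem_singleton] at this
      rcases this with rfl | rfl | rfl
      · exact hfx.symm
      · rw [← hsu, ← hf, hfx]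
      · rw [← hsu, ← hsu, ← hf, ← hf, hfx]
    have hix0 : ∀ v, s (s v) = s v → v = 0 := fun v e => by
      rw [← s3 v, hfpf _ e, map_zero, map_zero]
    rcases hux with e | e | e
    · exact hx0 (hufix x hx e)
    · have h := hall s (fun _ => rfl) hsu e.symm
      have h' : s (i x) = s (s (i x)) := by
        have e1 := hiu x
        rw [h x hx, h _ (hiW x hx), h _ (hsW _ (hiW x hx))] at e1
        rw [← hsρ] at e1
        exact e1
      exact hx0 (ρ.act_injective tInv ((hix0 _ h'.symm).trans (map_zero _).symm))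
    · have h := hall (s.comp s) (fun _ => rfl) hsu e.symm
      have h' : s (s (i x)) = s (i x) := by
        have e1 : i (u x) = u (u (i x)) := hiu x
        rw [h x hx, h (i x) (hiW x hx), h _ ?_] at e1
        · simp only [AddMonoidHom.coe_comp, Function.comp_apply] at e1
          rw [← hsρ, ← hsρ, s3] at e1
          exact e1
        · exact hsW _ (hsW _ (hiW x hx))
      exact hx0 (ρ.act_injective tInv ((hix0 _ h').trans (map_zero _).symm))
  have hCA : Nat.card CA = 1 ∨ 16 ≤ Nat.card CA := by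
    refine big CA b (fun x hx => ?_) (fun x hx => ?_) (fun x hx => ?_) b3 ib sb (fun x hx e => ?_)
    · exact ⟨⟨trivial, by rw [← sa, hx.1.2]⟩, trivial, by rw [seP, hx.2.2, map_zero]⟩
    · exact ⟨⟨trivial, by
        show a (i x) = i x
        conv_rhs => rw [← hx.1.2, ← hx.1.2]
        rw [ia, ia, a3]⟩, trivial, by rw [ieP, hx.2.2, map_zero]⟩
    · exact ⟨⟨trivial, by show a (b x) = b x; rw [← ab, hx.1.2]⟩, trivial, by
        show eP (b x) = 0
        have h0 : eP x = 0 := hx.2.2
        have : eP (b x) = b (eP x) := by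
          simp only [eP, eA, eB, avgThree_apply, AddMonoidHom.coe_comp, Function.comp_apply,
            map_add, ab]
        rw [this, h0, map_zero]⟩
    · have h := (hP0 x ⟨⟨trivial, hx.1.2⟩, trivial, e⟩).2.2.2.2
      rw [hx.2.2] at h
      exact h.symm
  have hCC : Nat.card CC = 1 ∨ 16 ≤ Nat.card CC := by
    refine big CC b (fun x hx => ?_) (fun x hx => ?_) (fun x hx => ?_) b3 ib sb (fun x hx e => ?_)
    · exact ⟨⟨trivial, by show a (b (s x)) = s x; rw [← sb, ← sa]; exact congrArg s hx.1.2⟩,
        trivial, by rw [seP, hx.2.2, map_zero]⟩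
    · exact ⟨⟨trivial, by
        show a (b (i x)) = i x
        have h1 : a (b x) = x := hx.1.2
        have e2 : i x = a (a (b (b (i x)))) := by
          conv_lhs => rw [← h1, ia, ib]
        conv_lhs => rw [e2]
        simp only [ab, a3, b3]⟩, trivial, by rw [ieP, hx.2.2, map_zero]⟩
    · exact ⟨⟨trivial, by show a (b (b x)) = b x; rw [← ab]; exact congrArg b hx.1.2⟩, trivial, by
        show eP (b x) = 0
        have h0 : eP x = 0 := hx.2.2
        have : eP (b x) = b (eP x) := by
          simp only [eP, eA, eB, avgThree_apply, AddMonoidHom.coe_comp, Function.comp_apply,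
            map_add, ab]
        rw [this, h0, map_zero]⟩
    · have h1 : a (b x) = x := hx.1.2
      rw [e] at h1
      have h := (hP0 x ⟨⟨trivial, h1⟩, trivial, e⟩).2.2.2.2
      rw [hx.2.2] at h
      exact h.symm
  have hAB : Nat.card CA = Nat.card CB := by
    refine le_antisymm ?_ ?_
    · refine Nat.card_le_card_of_injective (fun x : CA => (⟨t x, ⟨trivial, ?_⟩, trivial, ?_⟩ : CB))
        fun x y e => Subtype.ext (ρ.act_injective _ (congrArg Subtype.val e))
      · rw [← ta, x.2.1.2]
      · rw [teP, x.2.2.2, map_zero]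
    · refine Nat.card_le_card_of_injective (fun x : CB => (⟨t x, ⟨trivial, ?_⟩, trivial, ?_⟩ : CA))
        fun x y e => Subtype.ext (ρ.act_injective _ (congrArg Subtype.val e))
      · have h1 : b (x : V) = x := x.2.1.2
        show a (t x) = t x
        conv_lhs => rw [← h1, tb, a3]
      · rw [teP, x.2.2.2, map_zero]
  have hCD : Nat.card CC = Nat.card CD := by
    refine le_antisymm ?_ ?_
    · refine Nat.card_le_card_of_injective (fun x : CC => (⟨t x, ⟨trivial, ?_⟩, trivial, ?_⟩ : CD))
        fun x y e => Subtype.ext (ρ.act_injective _ (congrArg Subtype.val e))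
      · show a (b (b (t x))) = t x
        have h1 : a (b (x : V)) = x := x.2.1.2
        have e1 : t x = b (a (a (t x))) := by conv_lhs => rw [← h1, ta, tb]
        conv_lhs => rw [e1]
        simp only [ab, a3, b3]
      · rw [teP, x.2.2.2, map_zero]
    · refine Nat.card_le_card_of_injective (fun x : CD => (⟨t x, ⟨trivial, ?_⟩, trivial, ?_⟩ : CC))
        fun x y e => Subtype.ext (ρ.act_injective _ (congrArg Subtype.val e))
      · show a (b (t x)) = t x
        have h1 : a (b (b (x : V))) = x := x.2.1.2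
        have e1 : t x = b (a (a (a (a (t x))))) := by conv_lhs => rw [← h1, ta, tb, tb]
        conv_rhs => rw [e1]
        simp only [ab, a3, b3]
      · rw [teP, x.2.2.2, map_zero]
  have pP0 : 1 ≤ Nat.card P0 := Nat.card_pos
  have bot_of : ∀ W : AddSubgroup V, Nat.card W = 1 → ∀ x ∈ W, x = 0 := fun W h x hx => by
    rw [AddSubgroup.eq_bot_of_card_eq W h, AddSubgroup.mem_bot] at hx; exact hx
  rw [← hAB, ← hCD] at hle
  -- the components of a vector
  have hcomp : ∀ x, eP x ∈ P0 ∧ eA x + eP x ∈ CA ∧ eB x + eP x ∈ CB ∧ eC x + eP x ∈ CC ∧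
      eD x + eP x ∈ CD := by
    intro x
    have fa : a (eP x) = eP x := by
      simp only [eP, eA, eB, avgThree_apply, AddMonoidHom.coe_comp, Function.comp_apply, map_add, a3]
      abel
    have fb : b (eP x) = eP x := by
      simp only [eP, eA, eB, avgThree_apply, AddMonoidHom.coe_comp, Function.comp_apply, map_add, ab,
        a3, b3]
      abel
    have hP : eP x ∈ P0 := ⟨⟨trivial, fa⟩, trivial, fb⟩
    obtain ⟨iA, iB, iC, iD, iP⟩ := hP0 _ hP
    have eAA : ∀ y, eA (eA y) = eA y := fun y => by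
      simp only [eA, avgThree_apply, map_add, a3]
      have h : y + a y + a (a y) + (a y + a (a y) + y) + (a (a y) + y + a y) =
          y + a y + a (a y) + ((y + y) + (a y + a y) + (a (a y) + a (a y))) := by abel
      rw [h]; simp [F.two]
    have eBB : ∀ y, eB (eB y) = eB y := fun y => by
      simp only [eB, avgThree_apply, map_add, b3]
      have h : y + b y + b (b y) + (b y + b (b y) + y) + (b (b y) + y + b y) =
          y + b y + b (b y) + ((y + y) + (b y + b y) + (b (b y) + b (b y))) := by abel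
      rw [h]; simp [F.two]
    have comm : ∀ y, eA (eB y) = eB (eA y) := fun y => by
      simp only [eA, eB, avgThree_apply, map_add, ab]; abel
    have kA : eP (eA x) = eP x := by
      show eA (eB (eA x)) = eA (eB x)
      rw [← comm, eAA]
    have kB : eP (eB x) = eP x := by
      show eA (eB (eB x)) = eA (eB x)
      rw [eBB]
    have kC : eP (eC x) = eP x := by
      simp only [eC, avgThree_apply, hc, AddMonoidHom.coe_comp, Function.comp_apply, map_add]
      have k1 : ∀ y, eP (a y) = eP y := fun y => by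
        simp only [eP, eA, eB, avgThree_apply, AddMonoidHom.coe_comp, Function.comp_apply, map_add,
          ab, a3]
        abel
      have k2 : ∀ y, eP (b y) = eP y := fun y => by
        simp only [eP, eA, eB, avgThree_apply, AddMonoidHom.coe_comp, Function.comp_apply, map_add,
          b3]
        abel
      simp only [k1, k2, add3]
    have kD : eP (eD x) = eP x := by
      simp only [eD, avgThree_apply, hd, AddMonoidHom.coe_comp, Function.comp_apply, map_add]
      have k1 : ∀ y, eP (a y) = eP y := fun y => by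
        simp only [eP, eA, eB, avgThree_apply, AddMonoidHom.coe_comp, Function.comp_apply, map_add,
          ab, a3]
        abel
      have k2 : ∀ y, eP (b y) = eP y := fun y => by
        simp only [eP, eA, eB, avgThree_apply, AddMonoidHom.coe_comp, Function.comp_apply, map_add,
          b3]
        abel
      simp only [k1, k2, add3]
    refine ⟨hP, ⟨⟨trivial, ?_⟩, trivial, by rw [map_add, kA, iP, F.two]⟩,
      ⟨⟨trivial, ?_⟩, trivial, by rw [map_add, kB, iP, F.two]⟩,
      ⟨⟨trivial, ?_⟩, trivial, by rw [map_add, kC, iP, F.two]⟩,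
      ⟨⟨trivial, ?_⟩, trivial, by rw [map_add, kD, iP, F.two]⟩⟩
    · rw [map_add, fa]; simp only [eA, avgThree_apply, map_add, a3]; abel
    · rw [map_add, fb]; simp only [eB, avgThree_apply, map_add, b3]; abel
    · show a (b (eC x + eP x)) = eC x + eP x
      rw [map_add, map_add, fb, fa]
      simp only [eC, avgThree_apply, hc, AddMonoidHom.coe_comp, Function.comp_apply, map_add, ab,
        a3, b3]
      abel
    · show a (b (b (eD x + eP x))) = eD x + eP x
      rw [map_add, map_add, map_add, fb, fb, fa]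
      simp only [eD, avgThree_apply, hd, AddMonoidHom.coe_comp, Function.comp_apply, map_add, ab,
        a3, b3]
      abel
  have notboth : ¬ (Nat.card CA = 1 ∧ Nat.card CC = 1) := by
    rintro ⟨h1, h2⟩
    apply cAB_ne.1
    refine hinj _ fun x => ?_
    obtain ⟨m0, m1, m2, m3, m4⟩ := hcomp x
    have hx : eP x = x := by
      have e1 := bot_of _ h1 _ m1
      have e2 := bot_of _ (hAB ▸ h1) _ m2
      have e3 := bot_of _ h2 _ m3
      have e4 := bot_of _ (hCD ▸ h2) _ m4
      have := dec x
      rw [(eq_neg_of_add_eq_zero_left e1).trans (F.neg_eq _),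
        (eq_neg_of_add_eq_zero_left e2).trans (F.neg_eq _),
        (eq_neg_of_add_eq_zero_left e3).trans (F.neg_eq _),
        (eq_neg_of_add_eq_zero_left e4).trans (F.neg_eq _), F.two, zero_add, F.two, zero_add] at this
      exact this
    have := m0.1.2
    rwa [hx] at this
  have mem_comp : ∀ x, (a x = x → eP x = 0 → x ∈ CA) ∧ (c x = x → eP x = 0 → x ∈ CC) ∧
      (d x = x → eP x = 0 → x ∈ CD) ∧ (b x = x → eP x = 0 → x ∈ CB) := fun x =>
    ⟨fun h h' => ⟨⟨trivial, h⟩, trivial, h'⟩, fun h h' => ⟨⟨trivial, h⟩, trivial, h'⟩,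
      fun h h' => ⟨⟨trivial, h⟩, trivial, h'⟩, fun h h' => ⟨⟨trivial, h⟩, trivial, h'⟩⟩
  rcases hCA with hA1 | hA16
  · -- `(0 1 2)` and `(3 4 5)` fix nothing: twist
    right
    have hC16 : 16 ≤ Nat.card CC := hCC.resolve_left fun h => notboth ⟨hA1, h⟩
    have hP1 : Nat.card P0 = 1 := by
      rw [hA1] at hle
      have h1 : Nat.card P0 * (16 * 16) ≤ Nat.card P0 * (1 * (1 * (Nat.card CC * Nat.card CC))) := by
        rw [one_mul, one_mul]; gcongr
      omega
    have fa0 : ∀ x, a x = x → x = 0 := fun x hx => by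
      refine bot_of _ hA1 x ((mem_comp x).1 hx ?_)
      exact bot_of _ hP1 _ (hcomp x).1
    have fb0 : ∀ x, b x = x → x = 0 := fun x hx => by
      refine bot_of _ (hAB ▸ hA1) x ((mem_comp x).2.2.2 hx ?_)
      exact bot_of _ hP1 _ (hcomp x).1
    refine ⟨fun x h1 h2 => ?_, fun x h => ?_, fun x h => ?_⟩
    · have h1' : a (b x) = x := by
        have : ρ.act (cA * cB) x = x := by rw [← Outer.phiA_cA]; exact h1
        rwa [ρ.mul'] at this
      have h2' : a (b (b x)) = x := by
        have : ρ.act (cA * (cB * cB)) x = x := by rw [← Outer.phiA_cB]; exact h2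
        rwa [ρ.mul', ρ.mul'] at this
      refine fb0 x ?_
      have : a (b (b x)) = a (b x) := h2'.trans h1'.symm
      have := ρ.act_injective cA this
      exact ρ.act_injective cB this
    · refine fa0 x ?_
      have h' : ρ.act (Outer.phiA (cA * cB)) x = x := by rw [map_mul, ρ.mul']; exact h
      rw [map_mul, Outer.phiA_cA, Outer.phiA_cB,
        show cA * cB * (cA * (cB * cB)) = cA * cA by decide +kernel, ρ.mul'] at h'
      calc a x = a (a (a x)) := by rw [h']
        _ = x := a3 x
    · refine fb0 x ?_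
      have h' : ρ.act (Outer.phiA (cA * (cB * cB))) x = x := by
        rw [map_mul, map_mul, ρ.mul', ρ.mul']; exact h
      rw [map_mul, map_mul, Outer.phiA_cA, Outer.phiA_cB,
        show cA * cB * (cA * (cB * cB) * (cA * (cB * cB))) = cB * cB by decide +kernel,
        ρ.mul'] at h'
      calc b x = b (b (b x)) := by rw [h']
        _ = x := b3 x
  · left
    have h1 : Nat.card P0 = 1 ∧ Nat.card CC = 1 := by
      have hC : 1 ≤ Nat.card CC := Nat.card_pos
      have h0 : Nat.card P0 * (16 * (16 * (Nat.card CC * Nat.card CC))) ≤ 256 :=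
        le_trans (by gcongr) hle
      constructor <;> nlinarith
    refine ⟨fun x h1' h2' => bot_of _ h1.1 x ⟨⟨trivial, h1'⟩, trivial, h2'⟩, fun x h => ?_, fun x h => ?_⟩
    · exact bot_of _ h1.2 x ((mem_comp x).2.1 h (bot_of _ h1.1 _ (hcomp x).1))
    · exact bot_of _ (hCD ▸ h1.2) x ((mem_comp x).2.2.1 h (bot_of _ h1.1 _ (hcomp x).1))

end SixRep

end Cfsg.Agent.WidthFour
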