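import Cfsg.Agent.Lib.WidthFour.Main
import Cfsg.Agent.Lib.TI.Extraspecial
import Cfsg.Agent.Lib.LargeExtraspecial.Smith

/-!
# The setting of width four from a quotient isomorphism
-/

set_option autoImplicit false

namespace Cfsg.Agent.WidthFour

open Subgroup LargeExtraspecial Equiv

variable {G : Type*} [Group G] {z : G}

theorem extraspecial_map {K : Subgroup G} {P : Subgroup ↥K} (h : Cfsg.IsExtraspecial 2 ↥P) :
    Cfsg.IsExtraspecial 2 ↥(P.map K.subtype) :=
  TI.isExtraspecial_congr (P.equivMapOfInjective K.subtype K.subtype_injective) h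

/-- The setting from an isomorphism of the quotient with a group between `A₃ × A₆` and `S₃ × S₆`. -/
noncomputable def Setting.build (P : Subgroup ↥(centralizer ({z} : Set G))) [P.Normal]
    (hub : Hub (P.map (centralizer ({z} : Set G)).subtype) z) (hP : Nat.card P = 2 ^ 9)
    {K : Type*} [Group K] (e : ↥(centralizer ({z} : Set G)) ⧸ P ≃* K) (ι : K →* Top)
    (hι : Function.Injective ι)
    (halt : ∀ (a : Perm (Fin 3)) (b : Perm (Fin 6)), Perm.sign a = 1 → Perm.sign b = 1 →
      ∃ k, ι k = (a, b))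
    (hodd : ∃ k, Perm.sign (ι k).1 = -1) : Setting G where
  z := z
  Q := P.map (centralizer ({z} : Set G)).subtype
  hub := hub
  le := map_subtype_le _
  card := by rw [card_map_of_injective (centralizer ({z} : Set G)).subtype_injective, hP]; norm_num
  pr := (ι.comp e.toMonoidHom).comp (QuotientGroup.mk' P)
  ker c := by
    show ι (e (QuotientGroup.mk' P c)) = 1 ↔ _
    rw [← map_one ι, hι.eq_iff, ← map_one e, e.injective.eq_iff, QuotientGroup.mk'_apply,
      QuotientGroup.eq_one_iff]
    exact ⟨fun h => ⟨c, h, rfl⟩, fun ⟨d, hd, hdc⟩ => by rwa [show c = d from Subtype.ext hdc.symm]⟩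
  alt a b ha hb := by
    obtain ⟨k, hk⟩ := halt a b ha hb
    obtain ⟨x, hx⟩ := e.surjective k
    obtain ⟨c, rfl⟩ := QuotientGroup.mk'_surjective P x
    exact ⟨c, by rw [← hk, ← hx]; rfl⟩
  odd := by
    obtain ⟨k, hk⟩ := hodd
    obtain ⟨x, hx⟩ := e.surjective k
    obtain ⟨c, rfl⟩ := QuotientGroup.mk'_surjective P x
    exact ⟨c, by rw [← hk, ← hx]; rfl⟩

end Cfsg.Agent.WidthFour
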