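import Mathlib.GroupTheory.Perm.Cycle.Type
import Mathlib.GroupTheory.PGroup
import Mathlib.Dynamics.PeriodicPts.Defs
import Mathlib.Data.ZMod.Basic
import Mathlib.Algebra.CharP.Two
import Mathlib.Tactic

/-!
# Quadratic forms on finite elementary abelian 2-groups and isometries of small odd order

* `Form`: a quadratic form with nondegenerate polar form.
* `Form.five_trivial`: on a space with a fixed-point-free isometry of order 3 and at most 64
  elements, a commuting isometry of order 5 is trivial.
-/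

set_option autoImplicit false

namespace Cfsg.Agent.WidthFour

theorem z2_cases : ∀ a : ZMod 2, a = 0 ∨ a = 1 := by decide
theorem z2_add_self : ∀ a : ZMod 2, a + a = 0 := by decide

variable {V : Type*} [AddCommGroup V]

/-- The elements of `W` fixed by `f`. -/
def fixIn (W : AddSubgroup V) (f : V →+ V) : AddSubgroup V where
  carrier := {x | x ∈ W ∧ f x = x}
  zero_mem' := ⟨W.zero_mem, map_zero f⟩
  add_mem' := fun ha hb => ⟨W.add_mem ha.1 hb.1, by rw [map_add, ha.2, hb.2]⟩
  neg_mem' := fun ha => ⟨W.neg_mem ha.1, by rw [map_neg, ha.2]⟩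

/-- The elements of `W` killed by `f`. -/
def kerIn (W : AddSubgroup V) (f : V →+ V) : AddSubgroup V where
  carrier := {x | x ∈ W ∧ f x = 0}
  zero_mem' := ⟨W.zero_mem, map_zero f⟩
  add_mem' := fun ha hb => ⟨W.add_mem ha.1 hb.1, by rw [map_add, ha.2, hb.2, add_zero]⟩
  neg_mem' := fun ha => ⟨W.neg_mem ha.1, by rw [map_neg, ha.2, neg_zero]⟩

theorem mem_fixIn {W : AddSubgroup V} {f : V →+ V} {x : V} :
    x ∈ fixIn W f ↔ x ∈ W ∧ f x = x := Iff.rfl

theorem mem_kerIn {W : AddSubgroup V} {f : V →+ V} {x : V} :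
    x ∈ kerIn W f ↔ x ∈ W ∧ f x = 0 := Iff.rfl

theorem iterate_mem {W : AddSubgroup V} {f : V →+ V} (hW : ∀ x ∈ W, f x ∈ W) {x : V} (hx : x ∈ W) :
    ∀ n : ℕ, f^[n] x ∈ W
  | 0 => hx
  | n + 1 => by rw [Function.iterate_succ_apply']; exact hW _ (iterate_mem hW hx n)

theorem card_fixIn_modEq [Finite V] {p : ℕ} (hp : p.Prime) {W : AddSubgroup V} {f : V →+ V}
    (hW : ∀ x ∈ W, f x ∈ W) (hf : ∀ x ∈ W, f^[p] x = x) :
    Nat.card W % p = Nat.card (fixIn W f) % p := by
  classical
  have := Fintype.ofFinite W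
  have : Fact p.Prime := ⟨hp⟩
  let F : Function.End W := fun x => ⟨f x, hW x x.2⟩
  have hpow : ∀ (n : ℕ) (x : W), (((F ^ n) x : W) : V) = f^[n] (x : V) := by
    intro n
    induction n with
    | zero => intro x; rfl
    | succ n ih =>
      intro x
      rw [pow_succ', Function.iterate_succ_apply', ← ih x]
      rfl
  have hone : F ^ p ^ 1 = 1 := by
    funext x
    apply Subtype.ext
    rw [pow_one, hpow]
    exact hf x x.2
  have h := Equiv.Perm.card_fixedPoints_modEq hone
  rw [← Nat.card_eq_fintype_card, ← Nat.card_eq_fintype_card] at h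
  have e : Nat.card (Function.fixedPoints F) = Nat.card (fixIn W f) := by
    refine Nat.card_congr
      { toFun := fun x => ⟨(x : W), (x : W).2, congrArg Subtype.val x.2⟩
        invFun := fun x => ⟨⟨x, x.2.1⟩, Subtype.ext x.2.2⟩
        left_inv := fun x => rfl
        right_inv := fun x => rfl }
  rw [← e]
  exact h

theorem card_two_pow [Finite V] (two : ∀ x : V, x + x = 0) (W : AddSubgroup V) :
    ∃ k : ℕ, Nat.card W = 2 ^ k := by
  have : Fact (Nat.Prime 2) := ⟨Nat.prime_two⟩
  have h : IsPGroup 2 (Multiplicative W) := fun x => ⟨1, by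
    show Multiplicative.ofAdd ((2 ^ 1 : ℕ) • (Multiplicative.toAdd x)) = 1
    rw [pow_one, two_nsmul, show Multiplicative.toAdd x + Multiplicative.toAdd x = 0 from
      Subtype.ext (two _)]
    rfl⟩
  obtain ⟨k, hk⟩ := h.exists_card_eq
  exact ⟨k, hk ▸ (Nat.card_congr Multiplicative.ofAdd)⟩

/-- `W = Fix ⊕ Ker e` for an idempotent `e`. -/
theorem card_eq_fix_mul_ker (W : AddSubgroup V) (g e : V →+ V)
    (he : ∀ x ∈ W, e x ∈ fixIn W g) (hfix : ∀ x ∈ fixIn W g, e x = x) :
    Nat.card W = Nat.card (fixIn W g) * Nat.card (kerIn W e) := by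
  rw [← Nat.card_prod]
  exact Nat.card_congr
    { toFun := fun x => (⟨e x, he x x.2⟩, ⟨x - e x, W.sub_mem x.2 (he x x.2).1,
        by rw [map_sub, hfix _ (he x x.2), sub_self]⟩)
      invFun := fun p => ⟨(p.1 : V) + p.2, W.add_mem p.1.2.1 p.2.2.1⟩
      left_inv := fun x => Subtype.ext (add_sub_cancel _ _)
      right_inv := fun p => by
        have h : e ((p.1 : V) + p.2) = p.1 := by rw [map_add, hfix _ p.1.2, p.2.2.2, add_zero]
        refine Prod.ext (Subtype.ext h) (Subtype.ext ?_)
        show (p.1 : V) + p.2 - e ((p.1 : V) + p.2) = p.2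
        rw [h, add_sub_cancel_left] }

/-- The averaging map of a map of order 5. -/
def avgFive (g : V →+ V) : V →+ V :=
  AddMonoidHom.id V + g + g.comp g + g.comp (g.comp g) + g.comp (g.comp (g.comp g))

theorem avgFive_apply (g : V →+ V) (x : V) :
    avgFive g x = x + g x + g (g x) + g (g (g x)) + g (g (g (g x))) := rfl

/-- The averaging map of a map of order 3. -/
def avgThree (g : V →+ V) : V →+ V := AddMonoidHom.id V + g + g.comp g

theorem avgThree_apply (g : V →+ V) (x : V) : avgThree g x = x + g x + g (g x) := rfl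

/-- A quadratic form with nondegenerate polar form. -/
structure Form (V : Type*) [AddCommGroup V] where
  /-- the form -/
  q : V → ZMod 2
  /-- its polar -/
  B : V → V → ZMod 2
  two : ∀ x : V, x + x = 0
  add_left : ∀ x y w, B (x + y) w = B x w + B y w
  polar : ∀ x y, q (x + y) = q x + q y + B x y
  nondeg : ∀ x, (∀ y, B x y = 0) → x = 0

namespace Form

variable (F : Form V)

include F in
theorem neg_eq (x : V) : -x = x := (eq_neg_of_add_eq_zero_left (F.two x)).symm

include F in
theorem sub_eq (x y : V) : x - y = x + y := by rw [sub_eq_add_neg, F.neg_eq]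

include F in
theorem add_cancel (x y : V) : x + (x + y) = y := by rw [← add_assoc, F.two, zero_add]

theorem symm (x y : V) : F.B x y = F.B y x := by
  have h := (F.polar x y).symm.trans ((congrArg F.q (add_comm x y)).trans (F.polar y x))
  linear_combination h

theorem add_right (x y w : V) : F.B x (y + w) = F.B x y + F.B x w := by
  rw [F.symm x, F.add_left, F.symm y, F.symm w]

theorem zero_left (y : V) : F.B 0 y = 0 := by
  have h := F.add_left 0 0 y
  rw [add_zero] at h
  linear_combination -h

theorem zero_right (y : V) : F.B y 0 = 0 := by rw [F.symm, F.zero_left]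

theorem q_zero : F.q 0 = 0 := by
  have h := F.polar 0 0
  rw [add_zero, F.zero_left, add_zero, z2_add_self] at h
  exact h

theorem self (x : V) : F.B x x = 0 := by
  have h := F.polar x x
  rw [F.two, F.q_zero, z2_add_self, zero_add] at h
  exact h.symm

theorem isom_B {g : V →+ V} (hg : ∀ x, F.q (g x) = F.q x) (x y : V) : F.B (g x) (g y) = F.B x y := by
  have h1 := F.polar (g x) (g y)
  rw [← map_add, hg, hg, hg, F.polar x y] at h1
  linear_combination -h1

/-- A form constant off zero on at least eight elements is zero there. -/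
theorem eq_zero_of_const [Finite V] {W : AddSubgroup V} (h8 : 8 ≤ Nat.card W) {c : ZMod 2}
    (hc : ∀ x ∈ W, x ≠ 0 → F.q x = c) : ∀ x ∈ W, F.q x = 0 := by
  classical
  have := Fintype.ofFinite W
  rw [Nat.card_eq_fintype_card] at h8
  have pick : ∀ T : Finset W, T.card < 8 → ∃ x : W, x ∉ T := fun T hT => by
    by_contra hcon
    push Not at hcon
    rw [Finset.eq_univ_of_forall hcon, Finset.card_univ] at hT
    omega
  obtain ⟨x, hx⟩ := pick {0} (by simp)
  obtain ⟨y, hy⟩ := pick {0, x} ((Finset.card_le_two).trans_lt (by norm_num))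
  obtain ⟨w, hw⟩ := pick {0, x, y, x + y} ((Finset.card_le_four).trans_lt (by norm_num))
  simp only [Finset.mem_insert, Finset.mem_singleton, not_or] at hx hy hw
  have hne : ∀ a b : W, a ≠ b → (a + b : W) ≠ 0 := fun a b h e => h (Subtype.ext (by
    have := congrArg Subtype.val e
    exact (eq_neg_of_add_eq_zero_left this).trans (F.neg_eq _)))
  have hB : ∀ a b : W, a ≠ 0 → b ≠ 0 → a ≠ b → F.B a b = c := fun a b ha hb hab => by
    have h := F.polar (a : V) b
    rw [hc ((a : V) + b) (a + b).2 (fun e => hne a b hab (Subtype.ext e)), hc _ a.2 (fun e => ha (Subtype.ext e)),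
      hc _ b.2 (fun e => hb (Subtype.ext e))] at h
    rcases z2_cases c with rfl | rfl
    · simpa using h.symm
    · rcases z2_cases (F.B (a : V) b) with e | e
      · rw [e] at h; exact absurd h (by decide)
      · exact e
  have hxyw : x ≠ y + w := fun e => hw.2.2.2 (Subtype.ext (by
    have h' := congrArg Subtype.val e
    show (w : V) = x + y
    rw [show ((x : V)) = y + w from h', add_comm ((y : V) + w), F.add_cancel]))

  have h1 := hB x y hx hy.1 (Ne.symm hy.2)
  have h2 := hB x w hx hw.1 (Ne.symm hw.2.1)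
  have h3 := hB x (y + w) hx (hne y w (Ne.symm hw.2.2.1)) hxyw
  rw [show ((y + w : W) : V) = (y : V) + w from rfl, F.add_right, h1, h2, z2_add_self] at h3
  intro v hv
  by_cases hv0 : v = 0
  · rw [hv0, F.q_zero]
  · rw [hc v hv hv0, h3]

theorem totally_zero {W : AddSubgroup V} (h : ∀ x ∈ W, F.q x = 0) : ∀ x ∈ W, ∀ y ∈ W, F.B x y = 0 := by
  intro x hx y hy
  have h' := F.polar x y
  rw [h _ (W.add_mem hx hy), h x hx, h y hy] at h'
  linear_combination -h'

/-- On `W`, fixed points of an isometry of order 5 are orthogonal to the kernel of its average. -/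
theorem fix_orth {g : V →+ V} (hg : ∀ x, F.q (g x) = F.q x) {a n : V} (ha : g a = a)
    (hn : avgFive g n = 0) : F.B a n = 0 := by
  have h : F.B a (avgFive g n) = 0 := by rw [hn, F.zero_right]
  have e : ∀ v, F.B a (g v) = F.B a v := fun v => by conv_lhs => rw [← ha, F.isom_B hg]
  rw [avgFive_apply, F.add_right, F.add_right, F.add_right, F.add_right, e, e, e, e, e, e, e, e, e,
    e] at h
  linear_combination h - (2 * F.B a n) * (by decide : (1 : ZMod 2) + 1 = 0)

/-- A fixed-point-free isometry of order 3 and a commuting isometry of order 5 of a nondegenerate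
space of at most 64 elements: the second is trivial. -/
theorem five_trivial [Finite V] {W : AddSubgroup V} (hcard : Nat.card W ≤ 64)
    (hnd : ∀ x ∈ W, x ≠ 0 → ∃ w ∈ W, F.B x w = 1) {s g : V →+ V}
    (hsW : ∀ x ∈ W, s x ∈ W) (hgW : ∀ x ∈ W, g x ∈ W)
    (hs3 : ∀ x ∈ W, s^[3] x = x) (hg5 : ∀ x ∈ W, g^[5] x = x)
    (hfpf : ∀ x ∈ W, s x = x → x = 0) (hsg : ∀ x ∈ W, s (g x) = g (s x))
    (hsq : ∀ x, F.q (s x) = F.q x) (hgq : ∀ x, F.q (g x) = F.q x) :
    ∀ x ∈ W, g x = x := by
  classical
  have g5 : ∀ x ∈ W, g (g (g (g (g x)))) = x := fun x hx => hg5 x hx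
  have hfix : ∀ x ∈ fixIn W g, avgFive g x = x := fun x hx => by
    rw [avgFive_apply, hx.2, hx.2, hx.2, hx.2, F.two, zero_add, F.two, zero_add]
  have heW : ∀ x ∈ W, avgFive g x ∈ fixIn W g := fun x hx => by
    refine ⟨?_, ?_⟩
    · rw [avgFive_apply]
      exact W.add_mem (W.add_mem (W.add_mem (W.add_mem hx (hgW _ hx)) (hgW _ (hgW _ hx)))
        (hgW _ (hgW _ (hgW _ hx)))) (hgW _ (hgW _ (hgW _ (hgW _ hx))))
    · simp only [avgFive_apply, map_add, g5 x hx]; abel
  have hmul := card_eq_fix_mul_ker W g (avgFive g) heW hfix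
  set N := kerIn W (avgFive g) with hN
  have hNW : ∀ x ∈ N, x ∈ W := fun x hx => hx.1
  have hsN : ∀ x ∈ N, s x ∈ N := fun x hx => ⟨hsW _ hx.1, by
    have e : avgFive g (s x) = s (avgFive g x) := by
      simp only [avgFive_apply, map_add]
      rw [hsg x hx.1, hsg _ (hgW _ hx.1), hsg x hx.1, hsg _ (hgW _ (hgW _ hx.1)),
        hsg _ (hgW _ hx.1), hsg x hx.1, hsg _ (hgW _ (hgW _ (hgW _ hx.1)))]
      rw [hsg _ (hgW _ (hgW _ hx.1)), hsg _ (hgW _ hx.1), hsg x hx.1]
    rw [e, hx.2, map_zero]⟩
  have hgN : ∀ x ∈ N, g x ∈ N := fun x hx => ⟨hgW _ hx.1, by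
    have e : avgFive g (g x) = g (avgFive g x) := by simp only [avgFive_apply, map_add]
    rw [e, hx.2, map_zero]⟩
  have hgN0 : ∀ x ∈ N, g x = x → x = 0 := fun x hx e => (hfix x ⟨hx.1, e⟩).symm.trans hx.2
  -- the sizes
  obtain ⟨k, hk⟩ := card_two_pow F.two N
  obtain ⟨j, hj⟩ := card_two_pow F.two W
  have h5 := card_fixIn_modEq (W := N) (f := g) Nat.prime_five hgN (fun x hx => hg5 x hx.1)
  have h3 := card_fixIn_modEq (W := N) (f := s) Nat.prime_three hsN (fun x hx => hs3 x hx.1)
  have hz : ∀ f : V →+ V, (∀ x ∈ N, f x = x → x = 0) → Nat.card (fixIn N f) = 1 := fun f hf => by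
    rw [show fixIn N f = ⊥ from (AddSubgroup.eq_bot_iff_forall _).mpr fun x hx => hf x hx.1 hx.2,
      AddSubgroup.card_bot]
  rw [hz g hgN0] at h5
  rw [hz s (fun x hx => hfpf x hx.1)] at h3
  have hle : Nat.card N ≤ 64 :=
    le_trans (Nat.le_of_dvd Nat.card_pos ⟨_, (hmul.trans (mul_comm _ _))⟩) hcard
  have hk' : k = 0 ∨ k = 4 := by
    have : k ≤ 6 := by
      by_contra hk6
      have : 2 ^ 7 ≤ 2 ^ k := Nat.pow_le_pow_right (by norm_num) (by omega)
      omega
    rw [hk] at h5
    interval_cases k <;> omega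
  rcases hk' with rfl | rfl
  · intro x hx
    have hb : N = ⊥ := AddSubgroup.eq_bot_of_card_eq N (by rw [hk]; rfl)
    have hm : x - avgFive g x ∈ N :=
      ⟨W.sub_mem hx (heW x hx).1, by rw [map_sub, hfix _ (heW x hx), sub_self]⟩
    rw [hb, AddSubgroup.mem_bot, sub_eq_zero] at hm
    rw [hm]; exact (heW x hx).2
  exfalso
  norm_num at hk
  -- a nonzero element of `N`
  obtain ⟨x, hxN, hx0⟩ : ∃ x ∈ N, x ≠ 0 := by
    by_contra hcon
    push Not at hcon
    rw [(AddSubgroup.eq_bot_iff_forall _).mpr hcon, AddSubgroup.card_bot] at hk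
    omega
  let u : V → V := fun v => g (s v)
  have huN : ∀ v ∈ N, u v ∈ N := fun v hv => hgN _ (hsN v hv)
  have hgi : ∀ (m : ℕ) (v : V), v ∈ N → u^[m] v = g^[m] (s^[m] v) ∧ u^[m] v ∈ N := by
    intro m
    induction m with
    | zero => intro v hv; exact ⟨rfl, hv⟩
    | succ m ih =>
      intro v hv
      have hcomm : ∀ (i : ℕ) (w : V), w ∈ N → s (g^[i] w) = g^[i] (s w) := by
        intro i
        induction i with
        | zero => intro w _; rfl
        | succ i ihi =>
          intro w hw
          rw [Function.iterate_succ_apply', Function.iterate_succ_apply', hsg _ (hNW _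
            (iterate_mem hgN hw i)), ihi w hw]
      refine ⟨?_, ?_⟩
      · rw [Function.iterate_succ_apply', (ih v hv).1]
        show g (s (g^[m] (s^[m] v))) = _
        rw [hcomm m _ (iterate_mem hsN hv m), Function.iterate_succ_apply' (f := ⇑g),
          Function.iterate_succ_apply' (f := ⇑s)]
      · rw [Function.iterate_succ_apply']; exact huN _ (ih v hv).2
  have hs5 : s^[5] x = s (s x) := by
    rw [show 5 = 2 + 3 from rfl, Function.iterate_add_apply, hs3 x hxN.1]; rfl
  have hp15 : Function.IsPeriodicPt u 15 x := by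
    show u^[15] x = x
    rw [(hgi 15 x hxN).1, show 15 = 3 + 3 + 3 + 3 + 3 from rfl]
    simp only [Function.iterate_add_apply, hs3 x hxN.1]
    rw [← Function.iterate_add_apply, ← Function.iterate_add_apply, ← Function.iterate_add_apply,
      ← Function.iterate_add_apply, show 3 + 3 + 3 + 3 + 3 = 5 + (5 + 5) from rfl,
      Function.iterate_add_apply, Function.iterate_add_apply, hg5 x hxN.1, hg5 x hxN.1, hg5 x hxN.1]
  have hn5 : ¬ Function.IsPeriodicPt u 5 x := fun e => by
    have h1 : u^[5] x = x := e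
    rw [(hgi 5 x hxN).1, hs5, hg5 _ (hsW _ (hsW _ hxN.1))] at h1
    refine hx0 (hfpf x hxN.1 ?_)
    calc s x = s (s (s x)) := by rw [h1]
      _ = x := hs3 x hxN.1
  have hn3 : ¬ Function.IsPeriodicPt u 3 x := fun e => by
    have h1 : u^[3] x = x := e
    rw [(hgi 3 x hxN).1, hs3 x hxN.1] at h1
    refine hx0 (hgN0 x hxN ?_)
    have h2 : g^[6] x = x := by rw [show 6 = 3 + 3 from rfl, Function.iterate_add_apply, h1, h1]
    rwa [show 6 = 1 + 5 from rfl, Function.iterate_add_apply, hg5 x hxN.1] at h2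
  have hmp : Function.minimalPeriod u x = 15 := by
    have hd := hp15.minimalPeriod_dvd
    have hper := Function.isPeriodicPt_minimalPeriod u x
    have hle' : Function.minimalPeriod u x ≤ 15 := Nat.le_of_dvd (by norm_num) hd
    interval_cases hm : Function.minimalPeriod u x <;> first
      | rfl
      | omega
      | exact absurd (hper.mul_const 3) hn3
      | exact absurd hper hn3
      | exact absurd hper hn5
  have hinj := Function.iterate_injOn_Iio_minimalPeriod (f := u) (x := x)
  rw [hmp] at hinj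
  have := Fintype.ofFinite V
  let T := (Finset.range 15).image (fun m => u^[m] x)
  have hT : T.card = 15 := by
    rw [Finset.card_image_of_injOn, Finset.card_range]
    intro a ha b hb e
    exact hinj (Finset.mem_range.mp ha) (Finset.mem_range.mp hb) e
  have hu0 : ∀ m, u^[m] x ≠ 0 := fun m e => by
    refine hx0 ?_
    have h15 : u^[15 * m] x = x := hp15.mul_const m
    have e' : 15 * m = 14 * m + m := by ring
    rw [e', Function.iterate_add_apply, e] at h15
    rw [← h15]
    refine Function.iterate_fixed ?_ _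
    show g (s 0) = 0
    rw [map_zero, map_zero]
  have hTN : T = (Finset.univ.filter (· ∈ N)).erase 0 := by
    refine Finset.eq_of_subset_of_card_le ?_ ?_
    · intro v hv
      obtain ⟨m, -, rfl⟩ := Finset.mem_image.mp hv
      simp [hu0 m, (hgi m x hxN).2]
    · rw [hT, Finset.card_erase_of_mem (by simp [N.zero_mem])]
      have : (Finset.univ.filter (· ∈ N)).card = 16 := by
        rw [← hk, Nat.card_eq_fintype_card, Fintype.card_subtype]
      omega
  have hq : ∀ v ∈ N, v ≠ 0 → F.q v = F.q x := fun v hv hv0 => by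
    have : v ∈ T := by rw [hTN]; simp [hv, hv0]
    obtain ⟨m, -, rfl⟩ := Finset.mem_image.mp this
    clear this hv hv0
    induction m with
    | zero => rfl
    | succ m ih =>
      rw [Function.iterate_succ_apply']
      show F.q (g (s _)) = _
      rw [hgq, hsq, ih]
  have h0 := F.totally_zero (F.eq_zero_of_const (by omega) hq)
  obtain ⟨w, hw, hB⟩ := hnd x hxN.1 hx0
  have h1 : F.B x w = 0 := by
    have e : w = avgFive g w + (w - avgFive g w) := (add_sub_cancel _ _).symm
    rw [e, F.add_right, F.symm x (avgFive g w), F.fix_orth hgq (heW w hw).2 hxN.2, zero_add]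
    exact h0 x hxN _ ⟨W.sub_mem hw (heW w hw).1, by rw [map_sub, hfix _ (heW w hw), sub_self]⟩
  rw [h1] at hB
  exact absurd hB (by decide)

end Form

end Cfsg.Agent.WidthFour
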