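import Cfsg.Agent.Lib.LargeExtraspecial.Setting
import Cfsg.Agent.Lib.WidthFour.Form
import Mathlib.LinearAlgebra.Dual.Lemmas
import Mathlib.Algebra.Module.ZMod
import Mathlib.LinearAlgebra.Dimension.Free
import Mathlib.LinearAlgebra.Dimension.Finite

/-!
# The setting of width four and the quadratic space `Q / ⟨z⟩`

* `Setting`: an involution whose centraliser has an extraspecial subgroup of order `2⁹` with
  quotient between `A₃ × A₆` and `S₃ × S₆`.
* `Setting.bar`, `Setting.form`, `Setting.rho`: the space, its form and the action of the centraliser.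
* `Setting.rho_eq_one_iff`: the action of the quotient is faithful.
-/

set_option autoImplicit false

namespace Cfsg.Agent.WidthFour

open Subgroup LargeExtraspecial Equiv

/-- `S₃ × S₆`. -/
abbrev Top : Type := Perm (Fin 3) × Perm (Fin 6)

/-- The setting. -/
structure Setting (G : Type*) [Group G] where
  /-- the involution -/
  z : G
  /-- the extraspecial subgroup -/
  Q : Subgroup G
  hub : Hub Q z
  le : Q ≤ centralizer ({z} : Set G)
  card : Nat.card Q = 512
  /-- the quotient map -/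
  pr : ↥(centralizer ({z} : Set G)) →* Top
  ker : ∀ c, pr c = 1 ↔ (c : G) ∈ Q
  alt : ∀ (a : Perm (Fin 3)) (b : Perm (Fin 6)), Perm.sign a = 1 → Perm.sign b = 1 → ∃ c, pr c = (a, b)
  odd : ∃ c, Perm.sign (pr c).1 = -1

/-- Homomorphisms to a group of order two are at most as many as the elements. -/
theorem card_hom_le {A : Type*} [AddCommGroup A] [Finite A] (two : ∀ x : A, x + x = 0) :
    Nat.card (A →+ ZMod 2) ≤ Nat.card A := by
  letI : Module (ZMod 2) A := AddCommGroup.zmodModule (fun x => by rw [two_nsmul]; exact two x)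
  rw [Nat.card_congr (AddMonoidHom.toZModLinearMapEquiv 2).toEquiv,
    Module.natCard_eq_pow_finrank (K := ZMod 2) (V := A →ₗ[ZMod 2] ZMod 2),
    Module.natCard_eq_pow_finrank (K := ZMod 2) (V := A)]
  exact le_of_eq (congrArg _ Subspace.dual_finrank_eq)

/-- A totally isotropic subgroup of a nondegenerate subspace. -/
theorem Form.card_sq_le {V : Type*} [AddCommGroup V] [Finite V] (F : Form V) {W E : AddSubgroup V}
    (hEW : E ≤ W) (hnd : ∀ x ∈ W, x ≠ 0 → ∃ w ∈ W, F.B x w = 1)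
    (h0 : ∀ x ∈ E, ∀ y ∈ E, F.B x y = 0) : Nat.card E * Nat.card E ≤ Nat.card W := by
  let E' : AddSubgroup W := E.addSubgroupOf W
  have hEE : Nat.card E' = Nat.card E := Nat.card_congr (AddSubgroup.addSubgroupOfEquivOfLe hEW).toEquiv
  let f : E → (W ⧸ E' →+ ZMod 2) := fun e => QuotientAddGroup.lift E'
    { toFun := fun w : W => F.B e w
      map_zero' := F.zero_right _
      map_add' := fun a b => F.add_right _ _ _ }
    (fun w hw => h0 e e.2 w hw)
  have hf : Function.Injective f := fun a b e => by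
    by_contra hab
    have hne : (a : V) + b ≠ 0 := fun h => hab (Subtype.ext
      ((eq_neg_of_add_eq_zero_left h).trans (F.neg_eq _)))
    obtain ⟨w, hw, hB⟩ := hnd _ (hEW (E.add_mem a.2 b.2)) hne
    have h' : F.B (a : V) w = F.B (b : V) w := DFunLike.congr_fun e (QuotientAddGroup.mk (⟨w, hw⟩ : W) : W ⧸ E')
    rw [F.add_left, h', z2_add_self] at hB
    exact absurd hB (by decide)
  have : Finite (W ⧸ E' →+ ZMod 2) := Finite.of_injective _ DFunLike.coe_injective
  have h1 := (Nat.card_le_card_of_injective f hf).trans (card_hom_le (A := W ⧸ E') fun x => by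
    obtain ⟨w, rfl⟩ := QuotientAddGroup.mk'_surjective E' x
    rw [← map_add, show w + w = 0 from Subtype.ext (F.two _), map_zero])
  have h2 := AddSubgroup.card_eq_card_quotient_mul_card_addSubgroup E'
  rw [h2, hEE]
  exact Nat.mul_le_mul_right _ h1

namespace Setting

variable {G : Type*} [Group G] (S : Setting G)

/-- `⟨z⟩` inside `Q`. -/
def K : Subgroup ↥S.Q := (zpowers S.z).subgroupOf S.Q

theorem mem_zpowers_z {w : G} : w ∈ zpowers S.z ↔ w = 1 ∨ w = S.z := by
  refine ⟨fun hw => ?_, fun hw => ?_⟩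
  · obtain ⟨n, rfl⟩ := mem_zpowers_iff.mp hw
    rcases Int.even_or_odd n with ⟨m, rfl⟩ | ⟨m, rfl⟩
    · left; rw [← two_mul, zpow_mul, zpow_two, S.hub.sq, one_zpow]
    · right; rw [zpow_add, zpow_one, zpow_mul, zpow_two, S.hub.sq, one_zpow, one_mul]
  · rcases hw with rfl | rfl
    exacts [one_mem _, mem_zpowers _]

theorem mem_K {a : ↥S.Q} : a ∈ S.K ↔ (a : G) = 1 ∨ (a : G) = S.z := S.mem_zpowers_z

instance K_normal : S.K.Normal :=
  ⟨fun n hn g => S.mem_K.mpr <| by
    rcases S.mem_K.mp hn with h | h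
    · left; simp [h]
    · right
      rw [Subgroup.coe_mul, Subgroup.coe_mul, Subgroup.coe_inv, h, (S.hub.central g g.2).eq]
      group⟩

theorem mul_comm_quot (a b : ↥S.Q ⧸ S.K) : a * b = b * a := by
  obtain ⟨x, rfl⟩ := QuotientGroup.mk'_surjective S.K a
  obtain ⟨y, rfl⟩ := QuotientGroup.mk'_surjective S.K b
  rw [← map_mul, ← map_mul, QuotientGroup.mk'_apply, QuotientGroup.mk'_apply, QuotientGroup.eq,
    S.mem_K]
  have e : (((x * y)⁻¹ * (y * x) : ↥S.Q) : G) = (y : G)⁻¹ * ((x : G)⁻¹ * y * x) := by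
    simp [mul_assoc]
  rw [e]
  rcases S.hub.comm (x : G)⁻¹ (inv_mem x.2) y y.2 with h | h
  · rw [inv_inv] at h; left; rw [h, inv_mul_cancel]
  · rw [inv_inv] at h; right; rw [h, inv_mul_cancel_left]

instance instCommGroupQuot : CommGroup (↥S.Q ⧸ S.K) :=
  { (inferInstance : Group (↥S.Q ⧸ S.K)) with mul_comm := S.mul_comm_quot }

/-- The space `Q / ⟨z⟩`. -/
abbrev V : Type _ := Additive (↥S.Q ⧸ S.K)

open scoped Classical in
/-- The image of an element of `Q`, zero outside. -/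
noncomputable def bar (a : G) : S.V :=
  if h : a ∈ S.Q then Additive.ofMul (QuotientGroup.mk' S.K ⟨a, h⟩) else 0

theorem bar_of_mem {a : G} (h : a ∈ S.Q) :
    S.bar a = Additive.ofMul (QuotientGroup.mk' S.K ⟨a, h⟩) := dif_pos h

theorem bar_mul {a b : G} (ha : a ∈ S.Q) (hb : b ∈ S.Q) : S.bar (a * b) = S.bar a + S.bar b := by
  rw [S.bar_of_mem ha, S.bar_of_mem hb, S.bar_of_mem (mul_mem ha hb)]
  exact congrArg Additive.ofMul (map_mul (QuotientGroup.mk' S.K) ⟨a, ha⟩ ⟨b, hb⟩)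

theorem bar_one : S.bar 1 = 0 := by
  rw [S.bar_of_mem (one_mem _)]
  exact congrArg Additive.ofMul (map_one (QuotientGroup.mk' S.K))

theorem bar_surj (v : S.V) : ∃ a ∈ S.Q, S.bar a = v := by
  obtain ⟨a, ha⟩ := QuotientGroup.mk'_surjective S.K (Additive.toMul v)
  exact ⟨a, a.2, by rw [S.bar_of_mem a.2]; exact congrArg Additive.ofMul ha⟩

theorem bar_eq {a b : G} (ha : a ∈ S.Q) (hb : b ∈ S.Q) :
    S.bar a = S.bar b ↔ a = b ∨ a = b * S.z := by
  rw [S.bar_of_mem ha, S.bar_of_mem hb, Equiv.apply_eq_iff_eq, eq_comm, QuotientGroup.mk'_apply,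
    QuotientGroup.mk'_apply, QuotientGroup.eq, S.mem_K]
  constructor
  · rintro (h | h)
    · exact Or.inl (inv_mul_eq_one.mp h).symm
    · exact Or.inr (inv_mul_eq_iff_eq_mul.mp h)
  · rintro (rfl | rfl)
    · exact Or.inl (inv_mul_cancel _)
    · exact Or.inr (inv_mul_cancel_left _ _)

theorem bar_z : S.bar S.z = 0 := by
  rw [← S.bar_one, S.bar_eq S.hub.mem (one_mem _), one_mul]; exact Or.inr rfl

theorem bar_eq_zero {a : G} (ha : a ∈ S.Q) : S.bar a = 0 ↔ a = 1 ∨ a = S.z := by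
  rw [← S.bar_one, S.bar_eq ha (one_mem _), one_mul]

/-- A representative. -/
noncomputable def rep (v : S.V) : G := (S.bar_surj v).choose

theorem rep_mem (v : S.V) : S.rep v ∈ S.Q := (S.bar_surj v).choose_spec.1

theorem bar_rep (v : S.V) : S.bar (S.rep v) = v := (S.bar_surj v).choose_spec.2

theorem rep_bar {a : G} (ha : a ∈ S.Q) : S.rep (S.bar a) = a ∨ S.rep (S.bar a) = a * S.z :=
  (S.bar_eq (S.rep_mem _) ha).mp (S.bar_rep _)

theorem two (v : S.V) : v + v = 0 := by
  obtain ⟨a, ha, rfl⟩ := S.bar_surj v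
  rw [← S.bar_mul ha ha, S.bar_eq_zero (mul_mem ha ha)]
  exact S.hub.sq_cases a ha

theorem zmul_sq {a : G} (ha : a ∈ S.Q) : a * S.z * (a * S.z) = a * a := by
  rw [mul_assoc a S.z, ← mul_assoc S.z a, ← (S.hub.central a ha).eq, mul_assoc a S.z S.z, S.hub.sq,
    mul_one]

open scoped Classical in
/-- The squaring map. -/
noncomputable def qf (v : S.V) : ZMod 2 := if S.rep v * S.rep v = 1 then 0 else 1

open scoped Classical in
theorem qf_bar {a : G} (ha : a ∈ S.Q) : S.qf (S.bar a) = if a * a = 1 then 0 else 1 := by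
  rcases S.rep_bar ha with e | e <;> rw [qf, e]
  rw [S.zmul_sq ha]

theorem qf_bar_zero {a : G} (ha : a ∈ S.Q) : S.qf (S.bar a) = 0 ↔ a * a = 1 := by
  classical
  rw [S.qf_bar ha]; split_ifs with h <;> simp [h]

theorem commute_z_iff {a b : G} (hb : b ∈ S.Q) : Commute (a * S.z) b ↔ Commute a b := by
  have hzb : Commute S.z b := (S.hub.central b hb).symm
  exact ⟨fun h => by simpa [mul_assoc, S.hub.sq] using h.mul_left hzb, fun h => h.mul_left hzb⟩

open scoped Classical in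
/-- The commutator map. -/
noncomputable def bf (v w : S.V) : ZMod 2 := if Commute (S.rep v) (S.rep w) then 0 else 1

open scoped Classical in
theorem bf_bar {a b : G} (ha : a ∈ S.Q) (hb : b ∈ S.Q) :
    S.bf (S.bar a) (S.bar b) = if Commute a b then 0 else 1 := by
  refine if_congr ?_ rfl rfl
  have hx : ∀ x : G, x ∈ S.Q → (Commute a x ↔ Commute (S.rep (S.bar a)) x) := fun x hx => by
    rcases S.rep_bar ha with e | e <;> rw [e]
    exact (S.commute_z_iff hx).symm
  rw [← hx _ (S.rep_mem _)]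
  rcases S.rep_bar hb with e | e <;> rw [e]
  exact ⟨fun h => ((S.commute_z_iff ha).mp h.symm).symm, fun h => ((S.commute_z_iff ha).mpr h.symm).symm⟩

theorem bf_bar_zero {a b : G} (ha : a ∈ S.Q) (hb : b ∈ S.Q) :
    S.bf (S.bar a) (S.bar b) = 0 ↔ Commute a b := by
  classical
  rw [S.bf_bar ha hb]; split_ifs with h <;> simp [h]

theorem bf_bar_one {a b : G} (ha : a ∈ S.Q) (hb : b ∈ S.Q) :
    S.bf (S.bar a) (S.bar b) = 1 ↔ a * b * a⁻¹ = b * S.z := by
  classical
  rw [S.bf_bar ha hb]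
  constructor
  · intro h
    refine (S.hub.comm a ha b hb).resolve_left fun e => ?_
    rw [if_pos (show Commute a b from mul_inv_eq_iff_eq_mul.mp e)] at h
    exact absurd h (by decide)
  · intro h
    refine if_neg fun e : Commute a b => S.hub.ne_one ?_
    rw [e.eq, mul_inv_cancel_right] at h
    exact mul_eq_left.mp h.symm

theorem bf_add_left (u v w : S.V) : S.bf (u + v) w = S.bf u w + S.bf v w := by
  obtain ⟨a, ha, rfl⟩ := S.bar_surj u
  obtain ⟨b, hb, rfl⟩ := S.bar_surj v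
  obtain ⟨c, hc, rfl⟩ := S.bar_surj w
  rw [← S.bar_mul ha hb]
  have e : a * b * c * (a * b)⁻¹ = a * (b * c * b⁻¹) * a⁻¹ := by group
  have hz : a * (c * S.z) * a⁻¹ = a * c * a⁻¹ * S.z := by
    calc a * (c * S.z) * a⁻¹ = a * c * a⁻¹ * (a * S.z * a⁻¹) := by group
      _ = _ := by rw [(S.hub.central a ha).eq, mul_inv_cancel_right]
  rcases z2_cases (S.bf (S.bar a) (S.bar c)) with h1 | h1 <;>
    rcases z2_cases (S.bf (S.bar b) (S.bar c)) with h2 | h2 <;> rw [h1, h2]
  · rw [add_zero, S.bf_bar_zero (mul_mem ha hb) hc]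
    exact ((S.bf_bar_zero ha hc).mp h1).mul_left ((S.bf_bar_zero hb hc).mp h2)
  · rw [zero_add, S.bf_bar_one (mul_mem ha hb) hc, e, (S.bf_bar_one hb hc).mp h2, hz,
      ((S.bf_bar_zero ha hc).mp h1).eq, mul_inv_cancel_right]
  · rw [add_zero, S.bf_bar_one (mul_mem ha hb) hc, e, ((S.bf_bar_zero hb hc).mp h2).eq,
      mul_inv_cancel_right, (S.bf_bar_one ha hc).mp h1]
  · rw [z2_add_self, S.bf_bar_zero (mul_mem ha hb) hc]
    refine mul_inv_eq_iff_eq_mul.mp ?_
    rw [e, (S.bf_bar_one hb hc).mp h2, hz, (S.bf_bar_one ha hc).mp h1, mul_assoc, S.hub.sq, mul_one]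

theorem qf_add (u v : S.V) : S.qf (u + v) = S.qf u + S.qf v + S.bf u v := by
  classical
  obtain ⟨a, ha, rfl⟩ := S.bar_surj u
  obtain ⟨b, hb, rfl⟩ := S.bar_surj v
  rw [← S.bar_mul ha hb, S.qf_bar ha, S.qf_bar hb, S.qf_bar (mul_mem ha hb), S.bf_bar ha hb]
  have hz : ∀ x ∈ S.Q, Commute S.z x := fun x hx => (S.hub.central x hx).symm
  by_cases h : Commute a b
  · have e : a * b * (a * b) = a * a * (b * b) := h.symm.mul_mul_mul_comm a b
    rcases S.hub.sq_cases a ha with x | x <;> rcases S.hub.sq_cases b hb with y | y <;>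
      simp [e, x, y, h, S.hub.ne_one, S.hub.sq, z2_add_self]
  · have hc : b * a * b⁻¹ = a * S.z := (S.hub.comm b hb a ha).resolve_left fun e =>
      h (Commute.symm (mul_inv_eq_iff_eq_mul.mp e))
    have e : a * b * (a * b) = a * a * (b * b) * S.z := by
      calc a * b * (a * b) = a * (b * a * b⁻¹) * (b * b) := by group
        _ = a * a * (S.z * (b * b)) := by rw [hc]; group
        _ = _ := by rw [((hz b hb).mul_right (hz b hb)).eq]; group
    rcases S.hub.sq_cases a ha with x | x <;> rcases S.hub.sq_cases b hb with y | y <;>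
      simp [e, x, y, h, S.hub.ne_one, S.hub.sq, z2_add_self]

theorem bf_nondeg (u : S.V) (h : ∀ v, S.bf u v = 0) : u = 0 := by
  obtain ⟨a, ha, rfl⟩ := S.bar_surj u
  rw [S.bar_eq_zero ha]
  exact S.hub.self a fun q hq => (S.bf_bar_zero ha hq).mp (h _)

/-- The quadratic space. -/
noncomputable def form : Form S.V :=
  ⟨S.qf, S.bf, S.two, S.bf_add_left, S.qf_add, S.bf_nondeg⟩

theorem card_K : Nat.card S.K = 2 := by
  rw [K, Nat.card_congr (Subgroup.subgroupOfEquivOfLe (zpowers_le.mpr S.hub.mem)).toEquiv,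
    Nat.card_zpowers]
  exact orderOf_eq_prime (by rw [pow_two]; exact S.hub.sq) S.hub.ne_one

theorem card_V : Nat.card S.V = 256 := by
  have h := S.K.card_eq_card_quotient_mul_card_subgroup
  rw [S.card, S.card_K] at h
  have : Nat.card S.V = Nat.card (↥S.Q ⧸ S.K) := rfl
  omega

/-- The centraliser. -/
abbrev H : Subgroup G := centralizer ({S.z} : Set G)

theorem comm_z (c : S.H) : Commute (c : G) S.z := mem_centralizer_singleton_iff.mp c.2

theorem conj_z (c : S.H) : (c : G) * S.z * (c : G)⁻¹ = S.z := by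
  rw [(S.comm_z c).eq, mul_inv_cancel_right]

theorem conj_mem (c : S.H) {a : G} (ha : a ∈ S.Q) : (c : G) * a * (c : G)⁻¹ ∈ S.Q :=
  S.hub.normalizes _ (S.comm_z c) a ha

/-- The action of the centraliser. -/
noncomputable def rho (c : S.H) : S.V →+ S.V where
  toFun v := S.bar ((c : G) * S.rep v * (c : G)⁻¹)
  map_zero' := by
    rw [S.bar_eq_zero (S.conj_mem c (S.rep_mem _))]
    have h := S.rep_bar (one_mem S.Q)
    rw [S.bar_one, one_mul] at h
    rcases h with e | e <;> rw [e]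
    · exact Or.inl (by group)
    · exact Or.inr (S.conj_z c)
  map_add' u v := by
    have h : S.rep (u + v) = S.rep u * S.rep v ∨ S.rep (u + v) = S.rep u * S.rep v * S.z :=
      (S.bar_eq (S.rep_mem _) (mul_mem (S.rep_mem _) (S.rep_mem _))).mp (by
        rw [S.bar_rep, S.bar_mul (S.rep_mem _) (S.rep_mem _), S.bar_rep, S.bar_rep])
    rw [← S.bar_mul (S.conj_mem c (S.rep_mem _)) (S.conj_mem c (S.rep_mem _)),
      S.bar_eq (S.conj_mem c (S.rep_mem _)) (mul_mem (S.conj_mem c (S.rep_mem _)) (S.conj_mem c (S.rep_mem _)))]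
    rcases h with e | e <;> rw [e]
    · exact Or.inl (by group)
    · right
      calc (c : G) * (S.rep u * S.rep v * S.z) * (c : G)⁻¹
          = (c : G) * S.rep u * (c : G)⁻¹ * ((c : G) * S.rep v * (c : G)⁻¹) *
              ((c : G) * S.z * (c : G)⁻¹) := by group
        _ = _ := by rw [S.conj_z c]

theorem rho_bar (c : S.H) {a : G} (ha : a ∈ S.Q) :
    S.rho c (S.bar a) = S.bar ((c : G) * a * (c : G)⁻¹) := by
  show S.bar _ = _
  rw [S.bar_eq (S.conj_mem c (S.rep_mem _)) (S.conj_mem c ha)]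
  rcases S.rep_bar ha with e | e <;> rw [e]
  · exact Or.inl rfl
  · right
    calc (c : G) * (a * S.z) * (c : G)⁻¹ = (c : G) * a * (c : G)⁻¹ * ((c : G) * S.z * (c : G)⁻¹) := by
          group
      _ = _ := by rw [S.conj_z c]

theorem rho_mul (c d : S.H) (v : S.V) : S.rho (c * d) v = S.rho c (S.rho d v) := by
  obtain ⟨a, ha, rfl⟩ := S.bar_surj v
  rw [S.rho_bar _ ha, S.rho_bar _ ha, S.rho_bar _ (S.conj_mem d ha)]
  congr 1
  simp [mul_assoc]

theorem rho_one (v : S.V) : S.rho 1 v = v := by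
  obtain ⟨a, ha, rfl⟩ := S.bar_surj v
  rw [S.rho_bar _ ha]; simp

theorem rho_q (c : S.H) (v : S.V) : S.form.q (S.rho c v) = S.form.q v := by
  classical
  obtain ⟨a, ha, rfl⟩ := S.bar_surj v
  show S.qf _ = S.qf _
  rw [S.rho_bar _ ha, S.qf_bar (S.conj_mem c ha), S.qf_bar ha]
  refine if_congr ?_ rfl rfl
  rw [show (c : G) * a * (c : G)⁻¹ * ((c : G) * a * (c : G)⁻¹) = (c : G) * (a * a) * (c : G)⁻¹ by group]
  exact ⟨fun h => by simpa [mul_assoc] using congrArg (fun x => (c : G)⁻¹ * x * c) h, fun h => by rw [h]; group⟩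

theorem rho_mem (c : S.H) (hc : (c : G) ∈ S.Q) (v : S.V) : S.rho c v = v := by
  obtain ⟨a, ha, rfl⟩ := S.bar_surj v
  rw [S.rho_bar _ ha, S.bar_eq (S.conj_mem c ha) ha]
  exact S.hub.comm _ hc a ha

/-- The action is faithful. -/
theorem rho_eq_one_iff (c : S.H) : (∀ v, S.rho c v = v) ↔ (c : G) ∈ S.Q := by
  refine ⟨fun h => ?_, S.rho_mem c⟩
  have hcases : ∀ a ∈ S.Q, (c : G) * a * (c : G)⁻¹ = a ∨ (c : G) * a * (c : G)⁻¹ = a * S.z :=
    fun a ha => (S.bar_eq (S.conj_mem c ha) ha).mp (by rw [← S.rho_bar _ ha]; exact h _)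
  by_cases hall : ∀ a ∈ S.Q, (c : G) * a * (c : G)⁻¹ = a
  · rcases S.hub.self c (fun q hq => mul_inv_eq_iff_eq_mul.mp (hall q hq)) with e | e <;> rw [e]
    exacts [one_mem _, S.hub.mem]
  push Not at hall
  obtain ⟨x, hx, hxne⟩ := hall
  have hcx := (hcases x hx).resolve_left hxne
  have hDQ : S.Q ⊓ centralizer ({(c : G)} : Set G) ≤ S.Q := inf_le_left
  have hzD : S.z ∈ S.Q ⊓ centralizer ({(c : G)} : Set G) :=
    ⟨S.hub.mem, mem_centralizer_singleton_iff.mpr (S.comm_z c).eq.symm⟩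
  obtain ⟨w, hw, hwD, hwx⟩ : ∃ w ∈ S.Q, (∀ d ∈ S.Q ⊓ centralizer ({(c : G)} : Set G), Commute w d) ∧
      ¬ Commute x w := by
    by_contra hcon
    push Not at hcon
    have hm := S.hub.dcc _ hDQ hzD x hx hcon
    exact hxne (by rw [← (mem_centralizer_singleton_iff.mp hm.2), mul_inv_cancel_right])
  have hwx' : w * x * w⁻¹ = x * S.z :=
    (S.hub.comm w hw x hx).resolve_left fun e => hwx (Commute.symm (mul_inv_eq_iff_eq_mul.mp e))
  -- conjugation by `w` and by `c` agree on `Q`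
  have hagree : ∀ a ∈ S.Q, w * a * w⁻¹ = (c : G) * a * (c : G)⁻¹ := by
    intro a ha
    rcases hcases a ha with e | e
    · rw [e]
      exact mul_inv_eq_iff_eq_mul.mpr
        (hwD a ⟨ha, mem_centralizer_singleton_iff.mpr (mul_inv_eq_iff_eq_mul.mp e).symm⟩).eq
    · have hxa : x * a ∈ S.Q ⊓ centralizer ({(c : G)} : Set G) := by
        refine ⟨mul_mem hx ha, mem_centralizer_singleton_iff.mpr (mul_inv_eq_iff_eq_mul.mp ?_).symm⟩
        calc (c : G) * (x * a) * (c : G)⁻¹ = (c : G) * x * (c : G)⁻¹ * ((c : G) * a * (c : G)⁻¹) := by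
              group
          _ = x * (S.z * (a * S.z)) := by rw [hcx, e]; group
          _ = x * a := by rw [(S.hub.central a ha).eq, ← mul_assoc S.z, S.hub.sq, one_mul]
      rw [e]
      calc w * a * w⁻¹ = (w * x * w⁻¹)⁻¹ * (w * (x * a) * w⁻¹) := by group
        _ = (x * S.z)⁻¹ * (x * a) := by
          rw [hwx', mul_inv_eq_iff_eq_mul.mpr (hwD _ hxa).eq]
        _ = _ := by rw [mul_inv_rev, S.hub.inv_z, mul_assoc, inv_mul_cancel_left, (S.hub.central a ha).eq]
  have h1 : w⁻¹ * (c : G) = 1 ∨ w⁻¹ * (c : G) = S.z := S.hub.self _ fun q hq => by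
    refine mul_inv_eq_iff_eq_mul.mp ?_
    calc w⁻¹ * (c : G) * q * (w⁻¹ * (c : G))⁻¹ = w⁻¹ * ((c : G) * q * (c : G)⁻¹) * w := by group
      _ = q := by rw [← hagree q hq]; group
  rcases h1 with e | e
  · rw [(inv_mul_eq_one.mp e).symm]; exact hw
  · rw [inv_mul_eq_iff_eq_mul.mp e]; exact mul_mem hw S.hub.mem

theorem rho_congr {c d : S.H} (h : S.pr c = S.pr d) (v : S.V) : S.rho c v = S.rho d v := by
  have hm : ((d⁻¹ * c : S.H) : G) ∈ S.Q := (S.ker _).mp (by rw [map_mul, map_inv, h, inv_mul_cancel])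
  conv_lhs => rw [show c = d * (d⁻¹ * c) by group, S.rho_mul, S.rho_mem _ hm]

theorem rho_faithful {c : S.H} (h : ∀ v, S.rho c v = v) : S.pr c = 1 :=
  (S.ker c).mpr ((S.rho_eq_one_iff c).mp h)

end Setting

end Cfsg.Agent.WidthFour
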