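import Cfsg.Agent.Lib.LargeExtraspecial.PairStructure
import Cfsg.Agent.Lib.WidthFour.Space
import Mathlib.GroupTheory.Index

/-!
# Conjugates of `z` in `Q`

* `Setting.Pt`: an element `g` with `g z g⁻¹ ∈ Q ∖ {z}`; its vector `t`, the subspace `E` given by
  `Q ∩ Q^g` and the group `A` given by `Q^g ∩ C(z)`.
* `Pt.congr`: these depend on the vector only; `Pt.move`: transport by the centraliser.
* `Pt.exists_reverse`, `Pt.exists_sum`: the symmetry and the third point.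
-/

set_option autoImplicit false

namespace Cfsg.Agent.WidthFour

open Subgroup LargeExtraspecial

namespace Setting

variable {G : Type*} [Group G] (S : Setting G)

/-- A conjugate of `z` in `Q`, other than `z`. -/
structure Pt where
  /-- the conjugating element -/
  g : G
  mem : g * S.z * g⁻¹ ∈ S.Q
  ne : g * S.z * g⁻¹ ≠ S.z

variable {S}

namespace Pt

variable (p : S.Pt)

/-- The conjugate. -/
def y : G := p.g * S.z * p.g⁻¹

/-- The conjugate of `Q`. -/
def Q' : Subgroup G := S.Q.map (MulAut.conj p.g).toMonoidHom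

theorem hub' : Hub p.Q' p.y := S.hub.conj p.g

theorem y_mem : p.y ∈ S.Q := p.mem

theorem y_sq : p.y * p.y = 1 := p.hub'.sq

theorem card' [Finite G] : Nat.card p.Q' = 512 := by
  rw [Q', card_map_of_injective (MulAut.conj p.g).injective, S.card]

theorem pair [Finite G] : Pair S.Q p.Q' S.z p.y :=
  Pair.of_conj S.hub p.g p.mem p.ne
    (S.hub.exists_noncommuting_pair (by rw [S.card]; norm_num) p.mem p.y_sq)

/-- The vector. -/
noncomputable def t : S.V := S.bar p.y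

theorem t_ne : p.t ≠ 0 := fun h => by
  rcases (S.bar_eq_zero p.y_mem).mp h with e | e
  · exact p.hub'.ne_one e
  · exact p.ne e

theorem t_sing : S.form.q p.t = 0 := (S.qf_bar_zero p.y_mem).mpr p.y_sq

/-- The subspace given by `Q ∩ Q^g`. -/
noncomputable def E : AddSubgroup S.V where
  carrier := {v | ∃ a, a ∈ S.Q ∧ a ∈ p.Q' ∧ S.bar a = v}
  zero_mem' := ⟨1, one_mem _, one_mem _, S.bar_one⟩
  add_mem' := by
    rintro _ _ ⟨a, ha, ha', rfl⟩ ⟨b, hb, hb', rfl⟩
    exact ⟨a * b, mul_mem ha hb, mul_mem ha' hb', S.bar_mul ha hb⟩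
  neg_mem' := by
    rintro v ⟨a, ha, ha', rfl⟩
    exact ⟨a, ha, ha', (S.form.neg_eq _).symm⟩

theorem mem_E_iff {v : S.V} : v ∈ p.E ↔ ∃ a, a ∈ S.Q ∧ a ∈ p.Q' ∧ S.bar a = v := Iff.rfl

/-- The image of `Q^g ∩ C(z)`. -/
noncomputable def A : Subgroup Top := (p.Q'.subgroupOf S.H).map S.pr

theorem mem_A_iff {a : Top} : a ∈ p.A ↔ ∃ c : S.H, (c : G) ∈ p.Q' ∧ S.pr c = a := Iff.rfl

theorem mem_A {c : S.H} (hc : (c : G) ∈ p.Q') : S.pr c ∈ p.A := ⟨c, hc, rfl⟩

variable [Finite G]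

theorem z_mem : S.z ∈ p.Q' := p.pair.hz

/-- Every lift of an element of `E` lies in `Q^g`. -/
theorem mem_of_bar {a : G} (ha : a ∈ S.Q) (h : S.bar a ∈ p.E) : a ∈ p.Q' := by
  obtain ⟨b, hb, hb', e⟩ := h
  rcases (S.bar_eq ha hb).mp e.symm with rfl | rfl
  exacts [hb', mul_mem hb' p.z_mem]

theorem t_mem : p.t ∈ p.E := ⟨p.y, p.y_mem, p.hub'.mem, rfl⟩

theorem E_sing : ∀ v ∈ p.E, S.form.q v = 0 := by
  rintro v ⟨a, ha, ha', rfl⟩
  exact (S.qf_bar_zero ha).mpr (p.pair.E_sq ⟨ha, ha'⟩)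

theorem E_orth : ∀ v ∈ p.E, ∀ w ∈ p.E, S.form.B v w = 0 := S.form.totally_zero p.E_sing

theorem card_inf : Nat.card ↥(S.Q ⊓ p.Q') = Nat.card p.E * 2 := by
  let f : ↥(S.Q ⊓ p.Q') →* Multiplicative S.V :=
    MonoidHom.mk' (fun a => Multiplicative.ofAdd (S.bar a)) fun a b => by
      show Multiplicative.ofAdd (S.bar ((a : G) * b)) = _
      rw [S.bar_mul a.2.1 b.2.1]; rfl
  have h := f.ker.card_eq_card_quotient_mul_card_subgroup
  rw [Nat.card_congr (QuotientGroup.quotientKerEquivRange f).toEquiv] at h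
  have hr : Nat.card f.range = Nat.card p.E := Nat.card_congr
    { toFun := fun x => ⟨Multiplicative.toAdd (x : Multiplicative S.V), by
        obtain ⟨a, ha⟩ := x.2
        exact ⟨a, a.2.1, a.2.2, by rw [← ha]; rfl⟩⟩
      invFun := fun v => ⟨Multiplicative.ofAdd (v : S.V), by
        obtain ⟨a, ha, ha', e⟩ := v.2
        exact ⟨⟨a, ha, ha'⟩, congrArg Multiplicative.ofAdd e⟩⟩
      left_inv := fun x => rfl
      right_inv := fun v => rfl }
  have hk : Nat.card f.ker = 2 := by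
    rw [Nat.card_eq_two_iff]
    refine ⟨⟨1, one_mem _⟩, ⟨⟨S.z, S.hub.mem, p.z_mem⟩, S.bar_z⟩, fun e => ?_, ?_⟩
    · exact S.hub.ne_one (congrArg (fun x : f.ker => ((x : ↥(S.Q ⊓ p.Q')) : G)) e).symm
    · refine Set.eq_univ_of_forall fun x => ?_
      rcases (S.bar_eq_zero x.1.2.1).mp x.2 with e | e
      · exact Set.mem_insert_iff.mpr (Or.inl (Subtype.ext (Subtype.ext e)))
      · exact Set.mem_insert_iff.mpr (Or.inr (Subtype.ext (Subtype.ext e)))
  rw [h, hr, hk]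

theorem card_A_mul : Nat.card p.A * Nat.card p.E = 128 := by
  obtain ⟨b, hb, hnb⟩ := p.hub'.exists_not_commute S.hub.ne_one (Ne.symm p.ne)
  have hbz : b * S.z * b⁻¹ = S.z * p.y := (p.hub'.comm b hb S.z p.z_mem).resolve_left fun e =>
    hnb (Commute.symm (mul_inv_eq_iff_eq_mul.mp e))
  let P : Subgroup ↥p.Q' := S.H.subgroupOf p.Q'
  have hind : P.index = 2 := by
    rw [index_eq_two_iff]
    refine ⟨⟨b, hb⟩, fun x => ?_⟩
    have hP : ∀ w : ↥p.Q', w ∈ P ↔ Commute (w : G) S.z := fun w => mem_centralizer_singleton_iff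
    rw [hP, hP, Subgroup.coe_mul, Subgroup.coe_mk]
    by_cases hx : Commute (x : G) S.z
    · refine Or.inr ⟨hx, fun h => hnb (Commute.symm ?_)⟩
      simpa using hx.inv_left.mul_left h
    · refine Or.inl ⟨?_, hx⟩
      have hxz : (x : G) * S.z * (x : G)⁻¹ = S.z * p.y :=
        (p.hub'.comm x x.2 S.z p.z_mem).resolve_left fun e => hx (mul_inv_eq_iff_eq_mul.mp e)
      refine mul_inv_eq_iff_eq_mul.mp ?_
      calc (x : G) * b * S.z * ((x : G) * b)⁻¹ = (x : G) * (b * S.z * b⁻¹) * (x : G)⁻¹ := by group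
        _ = (x : G) * S.z * (x : G)⁻¹ * ((x : G) * p.y * (x : G)⁻¹) := by rw [hbz]; group
        _ = S.z := by
          rw [hxz, (p.hub'.central _ x.2).eq, mul_inv_cancel_right, mul_assoc, p.y_sq, mul_one]
  have hPcard : Nat.card P = 256 := by
    have h := P.card_mul_index
    rw [hind, p.card'] at h
    omega
  let P' : Subgroup ↥S.H := p.Q'.subgroupOf S.H
  have hP' : Nat.card P' = 256 := by
    rw [← hPcard]
    exact Nat.card_congr
      { toFun := fun x => ⟨⟨((x : ↥S.H) : G), x.2⟩, (x : ↥S.H).2⟩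
        invFun := fun x => ⟨⟨((x : ↥p.Q') : G), x.2⟩, (x : ↥p.Q').2⟩
        left_inv := fun x => rfl
        right_inv := fun x => rfl }
  let f : ↥P' →* Top := S.pr.comp P'.subtype
  have h := f.ker.card_eq_card_quotient_mul_card_subgroup
  rw [Nat.card_congr (QuotientGroup.quotientKerEquivRange f).toEquiv, hP'] at h
  have hr : f.range = p.A := by rw [MonoidHom.range_comp, range_subtype]; rfl
  have hk : Nat.card f.ker = Nat.card ↥(S.Q ⊓ p.Q') := Nat.card_congr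
    { toFun := fun x => ⟨((x : ↥P') : ↥S.H), (S.ker _).mp x.2, (x : ↥P').2⟩
      invFun := fun x => ⟨⟨⟨x, S.le x.2.1⟩, x.2.2⟩, (S.ker _).mpr x.2.1⟩
      left_inv := fun x => rfl
      right_inv := fun x => rfl }
  rw [hr, hk, p.card_inf, ← mul_assoc] at h
  omega

theorem A_sq {a : Top} (ha : a ∈ p.A) : a * a = 1 := by
  obtain ⟨c, hc, rfl⟩ := p.mem_A_iff.mp ha
  rw [← map_mul, S.ker]
  rcases p.hub'.sq_cases _ hc with e | e <;> rw [Subgroup.coe_mul, e]
  exacts [one_mem _, p.y_mem]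

theorem A_comm {a b : Top} (ha : a ∈ p.A) (hb : b ∈ p.A) : Commute a b := by
  have h1 := p.A_sq ha
  have h2 := p.A_sq hb
  have h3 := p.A_sq (mul_mem ha hb)
  show a * b = b * a
  calc a * b = (a * b) * ((a * b) * (a * b))⁻¹ := by rw [h3, inv_one, mul_one]
    _ = b⁻¹ * a⁻¹ := by group
    _ = b * a := by rw [inv_eq_of_mul_eq_one_right h1, inv_eq_of_mul_eq_one_right h2]

variable {c : S.H}

omit [Finite G] in
theorem commute_y (hc : (c : G) ∈ p.Q') : Commute (c : G) p.y := p.hub'.central _ hc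

theorem fix_t (hc : (c : G) ∈ p.Q') : S.rho c p.t = p.t := by
  rw [t, S.rho_bar _ p.y_mem, (p.commute_y hc).eq, mul_inv_cancel_right]

/-- `A` moves the perpendicular of `t` into `E`. -/
theorem perp_move (hc : (c : G) ∈ p.Q') {v : S.V} (hv : S.form.B v p.t = 0) :
    S.rho c v + v ∈ p.E := by
  obtain ⟨a, ha, rfl⟩ := S.bar_surj v
  have hay : Commute a p.y := (S.bf_bar_zero ha p.y_mem).mp hv
  have h := p.pair.comm_gen ha hay hc (S.comm_z c)
  rw [commutatorElement_def] at h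
  rw [S.rho_bar _ ha, ← S.bar_mul (S.conj_mem c ha) ha]
  have h' := inv_mem h
  have e : (c : G) * a * (c : G)⁻¹ * a = (a * (c : G) * a⁻¹ * (c : G)⁻¹)⁻¹ * (a * a) := by group
  rw [e, S.bar_mul h'.1 (mul_mem ha ha), show S.bar (a * a) = 0 by rw [S.bar_mul ha ha, S.two],
    add_zero]
  exact ⟨_, h'.1, h'.2, rfl⟩

/-- `A` moves `E` into `⟨t⟩`. -/
theorem E_move (hc : (c : G) ∈ p.Q') {v : S.V} (hv : v ∈ p.E) :
    S.rho c v = v ∨ S.rho c v = v + p.t := by
  obtain ⟨a, ha, ha', rfl⟩ := hv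
  rw [S.rho_bar _ ha]
  rcases p.hub'.comm _ hc a ha' with e | e <;> rw [e]
  · exact Or.inl rfl
  · exact Or.inr (S.bar_mul ha p.y_mem)

omit [Finite G] in
/-- The subgroup of `Q` with the same vector gives the same data. -/
theorem conj_Q_eq {p' : S.Pt} (h : p'.t = p.t) :
    ∃ q ∈ S.Q, p'.Q' = p.Q'.map (MulAut.conj q).toMonoidHom := by
  obtain ⟨q, hq, hqy⟩ : ∃ q ∈ S.Q, q * p.y * q⁻¹ = p'.y := by
    rcases (S.bar_eq p'.y_mem p.y_mem).mp h with e | e
    · exact ⟨1, one_mem _, by rw [e]; group⟩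
    · obtain ⟨q, hq, hn⟩ := S.hub.exists_not_commute p.hub'.ne_one p.ne
      refine ⟨q, hq, ?_⟩
      rw [e]
      exact (S.hub.comm q hq _ p.y_mem).resolve_left
        fun e' => hn (Commute.symm (mul_inv_eq_iff_eq_mul.mp e'))
  refine ⟨q, hq, ?_⟩
  have := S.hub.conj_eq (a := p'.g) (b := q * p.g) (by
    show p'.y = _
    rw [← hqy, y]; group)
  rw [Q', this, Q', Subgroup.map_map]
  congr 1
  ext x; simp [mul_assoc]

theorem congr_le {p' : S.Pt} (h : p'.t = p.t) : p'.E ≤ p.E ∧ p'.A ≤ p.A := by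
  obtain ⟨q, hq, e⟩ := p.conj_Q_eq h
  constructor
  · rintro v ⟨a, ha, ha', rfl⟩
    rw [e, mem_conj_iff] at ha'
    refine ⟨q⁻¹ * a * q, mul_mem (mul_mem (inv_mem hq) ha) hq, ha', ?_⟩
    rw [S.bar_mul (mul_mem (inv_mem hq) ha) hq, S.bar_mul (inv_mem hq) ha, add_right_comm,
      ← S.bar_mul (inv_mem hq) hq, inv_mul_cancel, S.bar_one, zero_add]
  · intro a ha
    obtain ⟨c, hc, rfl⟩ := p'.mem_A_iff.mp ha
    rw [e, mem_conj_iff] at hc
    let qh : S.H := ⟨q, S.le hq⟩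
    have hqh : S.pr qh = 1 := (S.ker _).mpr hq
    refine p.mem_A_iff.mpr ⟨qh⁻¹ * c * qh, by simpa using hc, ?_⟩
    rw [map_mul, map_mul, map_inv, hqh]; simp

theorem congr {p' : S.Pt} (h : p'.t = p.t) : p'.E = p.E ∧ p'.A = p.A :=
  ⟨le_antisymm (p.congr_le h).1 (p'.congr_le h.symm).1,
    le_antisymm (p.congr_le h).2 (p'.congr_le h.symm).2⟩

omit [Finite G] in
/-- The transported point. -/
def move (c : S.H) : S.Pt :=
  ⟨c * p.g, by
    have h := S.conj_mem c p.mem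
    convert h using 1
    group,
  fun e => p.ne (by
    have e' : p.g * S.z * p.g⁻¹ = (c : G)⁻¹ * S.z * (c : G) := by
      rw [← congrArg (fun x => (c : G)⁻¹ * x * (c : G)) e]; group
    rw [e', mul_assoc, ← (S.comm_z c).eq, inv_mul_cancel_left])⟩

omit [Finite G] in
theorem t_move (c : S.H) : (p.move c).t = S.rho c p.t := by
  rw [t, t, S.rho_bar _ p.y_mem]
  congr 1
  show (c : G) * p.g * S.z * ((c : G) * p.g)⁻¹ = (c : G) * (p.g * S.z * p.g⁻¹) * (c : G)⁻¹
  group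

omit [Finite G] in
theorem Q'_move (c : S.H) : (p.move c).Q' = p.Q'.map (MulAut.conj (c : G)).toMonoidHom := by
  rw [Q', Q', Subgroup.map_map]
  congr 1
  ext x
  show (c : G) * p.g * x * ((c : G) * p.g)⁻¹ = (c : G) * (p.g * x * p.g⁻¹) * (c : G)⁻¹
  group

theorem mem_E_move (c : S.H) {v : S.V} (hv : v ∈ p.E) : S.rho c v ∈ (p.move c).E := by
  obtain ⟨a, ha, ha', rfl⟩ := hv
  refine ⟨_, S.conj_mem c ha, ?_, (S.rho_bar c ha).symm⟩
  rw [p.Q'_move]; exact ⟨a, ha', rfl⟩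

theorem mem_A_move (c : S.H) {a : Top} (ha : a ∈ p.A) :
    S.pr c * a * (S.pr c)⁻¹ ∈ (p.move c).A := by
  obtain ⟨d, hd, rfl⟩ := p.mem_A_iff.mp ha
  rw [← map_inv, ← map_mul, ← map_mul]
  refine (p.move c).mem_A ?_
  rw [p.Q'_move]; exact ⟨d, hd, by simp [mul_assoc]⟩

/-- The stabiliser of `t` preserves `E`. -/
theorem stab_E {c : S.H} (h : S.rho c p.t = p.t) {v : S.V} (hv : v ∈ p.E) : S.rho c v ∈ p.E := by
  rw [← (p.congr (show (p.move c).t = p.t by rw [p.t_move, h])).1]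
  exact p.mem_E_move c hv

/-- The stabiliser of `t` normalises `A`. -/
theorem stab_A {c : S.H} (h : S.rho c p.t = p.t) {a : Top} (ha : a ∈ p.A) :
    S.pr c * a * (S.pr c)⁻¹ ∈ p.A := by
  rw [← (p.congr (show (p.move c).t = p.t by rw [p.t_move, h])).2]
  exact p.mem_A_move c ha

/-- The point of `g⁻¹`. -/
def inv : S.Pt :=
  ⟨p.g⁻¹, by
    have h := mem_conj_iff.mp (show S.z ∈ S.Q.map (MulAut.conj p.g).toMonoidHom from p.z_mem)
    simpa using h,
  fun e => p.ne (by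
    rw [inv_inv] at e
    calc p.g * S.z * p.g⁻¹ = p.g * (p.g⁻¹ * S.z * p.g) * p.g⁻¹ := by rw [e]
      _ = S.z := by group)⟩

/-- If a point lies in `E` then the relation is symmetric. -/
theorem exists_reverse {p' : S.Pt} (h : p'.t ∈ p.E) (hne : p'.t ≠ p.t) : p.t ∈ p'.E := by
  have hx : p'.y ∈ p.Q' := p.mem_of_bar p'.y_mem h
  have he : (p'.g * p.g⁻¹) * p.y * (p'.g * p.g⁻¹)⁻¹ = p'.y := by rw [y, y]; group
  have hm := p.hub'.self_mem_conj (p'.g * p.g⁻¹) (by rw [he]; exact hx)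
    (by rw [he]; exact fun e => hne (by rw [t, t, e]))
    (p.hub'.exists_noncommuting_pair (by rw [p.card']; norm_num) (by rw [he]; exact hx)
      (by rw [he]; exact p'.y_sq))
  refine ⟨p.y, p.y_mem, ?_, rfl⟩
  rw [mem_conj_iff] at hm
  rw [Q', mem_conj_iff] at hm ⊢
  convert hm using 1
  group

/-- The third point on the line through two points. -/
theorem exists_sum {p' : S.Pt} (h : p'.t ∈ p.E) (hne : p'.t ≠ p.t) :
    ∃ p'' : S.Pt, p''.t = p'.t + p.t := by
  have hx : p'.y ∈ p.Q' := p.mem_of_bar p'.y_mem h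
  obtain ⟨q, hq, hn⟩ := p.hub'.exists_not_commute p'.hub'.ne_one (fun e => hne (by rw [t, t, e]))
  have e : q * p'.y * q⁻¹ = p'.y * p.y := (p.hub'.comm q hq _ hx).resolve_left fun e' =>
    hn (Commute.symm (mul_inv_eq_iff_eq_mul.mp e'))
  have e' : q * p'.g * S.z * (q * p'.g)⁻¹ = p'.y * p.y := by rw [← e, y]; group
  refine ⟨⟨q * p'.g, by rw [e']; exact mul_mem p'.y_mem p.y_mem, fun e'' => hne ?_⟩, ?_⟩
  · rw [e'] at e''
    have h0 : S.bar (p'.y * p.y) = 0 := by rw [e'', S.bar_z]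
    rw [S.bar_mul p'.y_mem p.y_mem] at h0
    exact (eq_neg_of_add_eq_zero_left h0).trans (S.form.neg_eq _)
  · show S.bar (q * p'.g * S.z * (q * p'.g)⁻¹) = _
    rw [e', S.bar_mul p'.y_mem p.y_mem]; rfl

end Pt

end Setting

end Cfsg.Agent.WidthFour
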