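import Cfsg.Agent.Lib.WidthFour.AltSixModule
import Cfsg.Agent.Lib.WidthFour.Points
import Mathlib.GroupTheory.Sylow

/-!
# The element of order three has no fixed vector

* `Setting.alpha`, `Setting.sig`: the actions of `A₆` and of the element of order three.
* `Setting.sig_fpf`: the latter fixes only zero, given a conjugate of `z` in `Q`.
-/

set_option autoImplicit false
set_option maxRecDepth 100000

namespace Cfsg.Agent.WidthFour

open Subgroup LargeExtraspecial Equiv

/-- The rotation of three letters. -/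
def rot : Perm (Fin 3) := swap 0 1 * swap 1 2

theorem rot_facts : Perm.sign rot = 1 ∧ rot * rot * rot = 1 ∧ rot ≠ 1 := by decide +kernel

theorem rot_conj : ∀ p : Perm (Fin 3), p * rot * p⁻¹ = rot ∨ p * rot * p⁻¹ = rot * rot := by
  decide +kernel

theorem rot_commute : ∀ p : Perm (Fin 3), p * p = 1 →
    rot * p * rot⁻¹ * p = p * (rot * p * rot⁻¹) → p = 1 := by
  decide +kernel

/-- The stabiliser of three blocks, one of them fixed. -/
def blockGroup : Subgroup (Perm (Fin 6)) where
  carrier := {g | ∀ i j : Fin 6, (decide (i.val / 2 = j.val / 2) = decide ((g i).val / 2 = (g j).val / 2)) ∧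
    (decide (i.val < 4) = decide ((g i).val < 4))}
  one_mem' := fun _ _ => ⟨rfl, rfl⟩
  mul_mem' := fun {a b} ha hb i j =>
    ⟨(hb i j).1.trans (ha (b i) (b j)).1, (hb i j).2.trans (ha (b i) (b j)).2⟩
  inv_mem' := fun {a} ha i j => by
    have h := ha (a.symm i) (a.symm j)
    rw [a.apply_symm_apply, a.apply_symm_apply] at h
    exact ⟨h.1.symm, h.2.symm⟩

instance : DecidablePred (· ∈ blockGroup) := fun g =>
  inferInstanceAs (Decidable (∀ i j : Fin 6,
    (decide (i.val / 2 = j.val / 2) = decide ((g i).val / 2 = (g j).val / 2)) ∧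
      (decide (i.val < 4) = decide ((g i).val < 4))))

theorem card_blockGroup : Fintype.card blockGroup = 16 := by decide +kernel

theorem blockGroup_noncomm : ∃ a b : Perm (Fin 6), a ∈ blockGroup ∧ b ∈ blockGroup ∧ a * b ≠ b * a :=
  ⟨swap 0 1, swap 0 2 * swap 1 3, by decide +kernel, by decide +kernel, by decide +kernel⟩

/-- Commutative subgroups of order a power of two of `S₆` have order less than 16. -/
theorem card_lt_sixteen (B : Subgroup (Perm (Fin 6))) (hsq : ∀ b ∈ B, b * b = 1) :
    Nat.card B < 16 := by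
  have : Fact (Nat.Prime 2) := ⟨Nat.prime_two⟩
  by_contra hge
  have hpg : IsPGroup 2 B := fun b => ⟨1, Subtype.ext (by
    show ((b : Perm (Fin 6)) ^ (2 ^ 1)) = 1
    rw [pow_one, pow_two]; exact hsq b b.2)⟩
  obtain ⟨P, hP⟩ := hpg.exists_le_sylow
  have hfac : (Nat.card (Perm (Fin 6))).factorization 2 = 4 := by
    rw [Nat.card_perm, Nat.card_eq_fintype_card, Fintype.card_fin,
      show Nat.factorial 6 = 2 ^ 4 * 45 from rfl, Nat.factorization_mul (by norm_num) (by norm_num),
      Finsupp.add_apply, Nat.factorization_pow, Finsupp.smul_apply,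
      Nat.Prime.factorization_self Nat.prime_two,
      Nat.factorization_eq_zero_of_not_dvd (by norm_num)]
    norm_num
  have hPc : Nat.card P = 16 := by rw [Sylow.card_eq_multiplicity, hfac]; norm_num
  have hBP : B = (P : Subgroup (Perm (Fin 6))) :=
    eq_of_le_of_card_ge hP (by rw [hPc]; omega)
  let R : Sylow 2 (Perm (Fin 6)) := Sylow.ofCard blockGroup (by
    rw [Nat.card_eq_fintype_card, card_blockGroup, hfac]; norm_num)
  obtain ⟨g, hg⟩ := MulAction.exists_smul_eq (Perm (Fin 6)) R P
  have hcomm : ∀ x ∈ B, ∀ w ∈ B, x * w = w * x := fun x hx w hw => by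
    calc x * w = x⁻¹ * w⁻¹ := by
          rw [inv_eq_of_mul_eq_one_right (hsq x hx), inv_eq_of_mul_eq_one_right (hsq w hw)]
      _ = (w * x)⁻¹ := (mul_inv_rev w x).symm
      _ = w * x := inv_eq_of_mul_eq_one_right (hsq _ (mul_mem hw hx))
  obtain ⟨a, b, ha, hb, hne⟩ := blockGroup_noncomm
  have key : ∀ x ∈ blockGroup, g * x * g⁻¹ ∈ B := fun x hx => by
    rw [hBP, ← hg, Sylow.coe_subgroup_smul, Subgroup.mem_pointwise_smul_iff_inv_smul_mem,
      MulAut.smul_def, ← map_inv, MulAut.conj_apply, inv_inv]
    show g⁻¹ * (g * x * g⁻¹) * g ∈ blockGroup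
    rwa [show g⁻¹ * (g * x * g⁻¹) * g = x by group]
  have h := hcomm _ (key a ha) _ (key b hb)
  exact hne (mul_left_cancel (mul_right_cancel
    (show g * (a * b) * g⁻¹ = g * (b * a) * g⁻¹ by
      rw [show g * (a * b) * g⁻¹ = g * a * g⁻¹ * (g * b * g⁻¹) by group, h]; group)))

namespace Setting

variable {G : Type*} [Group G] (S : Setting G)

/-- A lift of an element of `A₆`. -/
noncomputable def liftA (g : A6) : S.H := (S.alt 1 g Perm.sign_one g.2).choose

theorem pr_liftA (g : A6) : S.pr (S.liftA g) = (1, (g : Perm (Fin 6))) :=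
  (S.alt 1 g Perm.sign_one g.2).choose_spec

/-- The action of `A₆`. -/
noncomputable def alpha : SixRep S.V where
  act g := S.rho (S.liftA g)
  one' v := (S.rho_congr (d := 1) (by rw [S.pr_liftA, map_one]; rfl) v).trans (S.rho_one v)
  mul' a b v := (S.rho_congr (d := S.liftA a * S.liftA b)
    (by rw [map_mul, S.pr_liftA, S.pr_liftA, S.pr_liftA]; rfl) v).trans (S.rho_mul _ _ v)

/-- A lift of the element of order three. -/
noncomputable def liftS : S.H := (S.alt rot 1 rot_facts.1 Perm.sign_one).choose

theorem pr_liftS : S.pr S.liftS = (rot, 1) := (S.alt rot 1 rot_facts.1 Perm.sign_one).choose_spec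

/-- The action of the element of order three. -/
noncomputable def sig : S.V →+ S.V := S.rho S.liftS

theorem sig_three (v : S.V) : S.sig (S.sig (S.sig v)) = v := by
  rw [sig, ← S.rho_mul, ← S.rho_mul,
    S.rho_congr (d := 1) (by
      rw [map_mul, map_mul, S.pr_liftS, map_one]
      exact Prod.ext (by decide +kernel) (by simp)), S.rho_one]

theorem sig_iter (v : S.V) : (⇑S.sig)^[3] v = v := S.sig_three v

theorem sig_comm (g : A6) (v : S.V) : S.sig (S.alpha.act g v) = S.alpha.act g (S.sig v) := by
  show S.rho _ (S.rho _ v) = S.rho _ (S.rho _ v)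
  rw [← S.rho_mul, ← S.rho_mul]
  refine S.rho_congr ?_ v
  rw [map_mul, map_mul, S.pr_liftS, S.pr_liftA, Prod.mk_mul_mk, Prod.mk_mul_mk, one_mul, mul_one,
    one_mul, mul_one]

theorem alpha_q (g : A6) (v : S.V) : S.form.q (S.alpha.act g v) = S.form.q v := S.rho_q _ v

theorem sig_q (v : S.V) : S.form.q (S.sig v) = S.form.q v := S.rho_q _ v

theorem alpha_inj (g : A6) (h : ∀ v, S.alpha.act g v = v) : g = 1 := by
  have := S.rho_faithful h
  rw [S.pr_liftA] at this
  exact Subtype.ext (congrArg Prod.snd this)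

theorem sig_ne : ∃ v, S.sig v ≠ v := by
  by_contra h
  push Not at h
  have := S.rho_faithful h
  rw [S.pr_liftS] at this
  exact rot_facts.2.2 (congrArg Prod.fst this)

/-- The centraliser normalises the average. -/
theorem avg_comm (c : S.H) (v : S.V) : S.rho c (avgThree S.sig v) = avgThree S.sig (S.rho c v) := by
  have key : (∀ v, S.rho c (S.sig v) = S.sig (S.rho c v)) ∨
      (∀ v, S.rho c (S.sig v) = S.sig (S.sig (S.rho c v))) := by
    rcases rot_conj (S.pr c).1 with e | e
    · refine Or.inl fun v => ?_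
      show S.rho c (S.rho _ v) = S.rho _ (S.rho c v)
      rw [← S.rho_mul, ← S.rho_mul]
      refine S.rho_congr ?_ v
      rw [map_mul, map_mul, S.pr_liftS]
      exact Prod.ext (mul_inv_eq_iff_eq_mul.mp e) (by simp)
    · refine Or.inr fun v => ?_
      show S.rho c (S.rho _ v) = S.rho _ (S.rho _ (S.rho c v))
      rw [← S.rho_mul, ← S.rho_mul, ← S.rho_mul]
      refine S.rho_congr ?_ v
      rw [map_mul, map_mul, map_mul, S.pr_liftS]
      refine Prod.ext ((mul_inv_eq_iff_eq_mul.mp e).trans (mul_assoc _ _ _)) (by simp)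
  simp only [avgThree_apply, map_add]
  rcases key with k | k
  · rw [k, k, k]
  · rw [k, k, k, S.sig_three]; abel

/-- The fixed space. -/
noncomputable def C : AddSubgroup S.V := fixIn ⊤ S.sig

/-- The moved space. -/
noncomputable def M : AddSubgroup S.V := kerIn ⊤ (avgThree S.sig)

theorem mem_C {v : S.V} : v ∈ S.C ↔ S.sig v = v := ⟨fun h => h.2, fun h => ⟨trivial, h⟩⟩

theorem mem_M {v : S.V} : v ∈ S.M ↔ avgThree S.sig v = 0 := ⟨fun h => h.2, fun h => ⟨trivial, h⟩⟩

theorem avg_of_C {v : S.V} (h : v ∈ S.C) : avgThree S.sig v = v := by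
  rw [avgThree_apply, S.mem_C.mp h, S.mem_C.mp h, S.two, zero_add]

theorem avg_mem_C (v : S.V) : avgThree S.sig v ∈ S.C := S.mem_C.mpr (by
  simp only [avgThree_apply, map_add, S.sig_three]; abel)

theorem rest_mem_M (v : S.V) : v + avgThree S.sig v ∈ S.M := S.mem_M.mpr (by
  rw [map_add, S.avg_of_C (S.avg_mem_C v), S.two])

theorem C_M_orth {a m : S.V} (ha : a ∈ S.C) (hm : m ∈ S.M) : S.form.B a m = 0 := by
  have h : S.form.B a (avgThree S.sig m) = 0 := by rw [S.mem_M.mp hm, S.form.zero_right]
  have e : ∀ v, S.form.B a (S.sig v) = S.form.B a v := fun v => by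
    conv_lhs => rw [← S.mem_C.mp ha, S.form.isom_B S.sig_q]
  rw [avgThree_apply, S.form.add_right, S.form.add_right, e, e, e, z2_add_self, zero_add] at h
  exact h

theorem rho_C (c : S.H) {v : S.V} (h : v ∈ S.C) : S.rho c v ∈ S.C := by
  rw [← S.avg_of_C h, S.avg_comm]; exact S.avg_mem_C _

theorem rho_M (c : S.H) {v : S.V} (h : v ∈ S.M) : S.rho c v ∈ S.M := S.mem_M.mpr (by
  rw [← S.avg_comm, S.mem_M.mp h, map_zero])

theorem nd_C {v : S.V} (hv : v ∈ S.C) (h0 : v ≠ 0) : ∃ w ∈ S.C, S.form.B v w = 1 := by
  by_contra hcon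
  push Not at hcon
  refine h0 (S.form.nondeg v fun w => ?_)
  rcases z2_cases (S.form.B v (avgThree S.sig w)) with e | e
  · rw [← S.form.add_cancel (avgThree S.sig w) w, S.form.add_right, e,
      add_comm (avgThree S.sig w) w, S.C_M_orth hv (S.rest_mem_M w), add_zero]
  · exact absurd e (hcon _ (S.avg_mem_C w))

theorem nd_M {v : S.V} (hv : v ∈ S.M) (h0 : v ≠ 0) : ∃ w ∈ S.M, S.form.B v w = 1 := by
  by_contra hcon
  push Not at hcon
  refine h0 (S.form.nondeg v fun w => ?_)
  rcases z2_cases (S.form.B v (w + avgThree S.sig w)) with e | e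
  · rw [← S.form.add_cancel (avgThree S.sig w) w, S.form.add_right,
      S.form.symm v (avgThree S.sig w), S.C_M_orth (S.avg_mem_C w) hv,
      add_comm (avgThree S.sig w) w, e, add_zero]
  · exact absurd e (hcon _ (S.rest_mem_M w))

theorem alpha_C : S.alpha.Inv S.C := fun _ _ h => S.rho_C _ h

theorem alpha_M : S.alpha.Inv S.M := fun _ _ h => S.rho_M _ h

theorem sig_M {v : S.V} (h : v ∈ S.M) : S.sig v ∈ S.M := S.rho_M _ h

theorem sig_fpf_M {v : S.V} (h : v ∈ S.M) (e : S.sig v = v) : v = 0 :=
  (S.avg_of_C (S.mem_C.mpr e)).symm.trans (S.mem_M.mp h)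

variable [Finite G]

theorem card_C_M : Nat.card S.C * Nat.card S.M = 256 := by
  rw [← S.card_V, ← AddSubgroup.card_top (G := S.V)]
  exact (card_eq_fix_mul_ker ⊤ S.sig (avgThree S.sig) (fun x _ => S.avg_mem_C x)
    (fun x hx => S.avg_of_C hx)).symm

theorem card_cases : Nat.card S.C = 1 ∨ Nat.card S.C = 4 ∨ Nat.card S.C = 16 ∨ Nat.card S.C = 64 := by
  obtain ⟨j, hj⟩ := card_two_pow S.two S.C
  obtain ⟨k, hk⟩ := card_two_pow S.two S.M
  have h := S.card_C_M
  rw [hj, hk, ← pow_add, show 256 = 2 ^ 8 from rfl] at h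
  have hjk : j + k = 8 := Nat.pow_right_injective le_rfl h
  have h3 := card_fixIn_modEq (W := S.M) (f := S.sig) Nat.prime_three (fun x hx => S.sig_M hx)
    (fun x _ => S.sig_iter x)
  rw [show fixIn S.M S.sig = ⊥ from (AddSubgroup.eq_bot_iff_forall _).mpr fun x hx =>
    S.sig_fpf_M hx.1 hx.2, AddSubgroup.card_bot, hk] at h3
  have hk0 : k ≠ 0 := by
    intro e
    obtain ⟨v, hv⟩ := S.sig_ne
    have hb : S.M = ⊥ := AddSubgroup.eq_bot_of_card_eq _ (by rw [hk, e]; rfl)
    have hm := S.rest_mem_M v
    rw [hb, AddSubgroup.mem_bot] at hm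
    have hv' := S.avg_mem_C v
    rw [← (eq_neg_of_add_eq_zero_left hm).trans (S.form.neg_eq _)] at hv'
    exact hv (S.mem_C.mp hv')
  rw [hj]
  have hk8 : k ≤ 8 := by omega
  obtain rfl : j = 8 - k := by omega
  interval_cases k <;> omega

theorem five_M (h : Nat.card S.M ≤ 64) : ∀ x ∈ S.M, S.alpha.act cF x = x :=
  S.form.five_trivial h (fun x hx h0 => S.nd_M hx h0) (fun x hx => S.sig_M hx)
    (fun x hx => S.alpha_M _ x hx) (fun x _ => S.sig_iter x) (fun x _ => S.alpha.act_cF_five x)
    (fun x hx => S.sig_fpf_M hx) (fun x _ => S.sig_comm _ x) S.sig_q (S.alpha_q cF)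

theorem not_four (h : Nat.card S.C = 4) : False := by
  have hM : Nat.card S.M ≤ 64 := by
    have := S.card_C_M
    rw [h] at this; omega
  refine cF_five.2 (S.alpha_inj cF fun v => ?_)
  rw [← S.form.add_cancel (avgThree S.sig v) v, map_add,
    S.alpha.trivial_of_small S.two S.alpha_C (by omega) cF _ (S.avg_mem_C v),
    add_comm (avgThree S.sig v) v, S.five_M hM _ (S.rest_mem_M v)]

theorem not_sixteen (h : Nat.card S.C = 16) : False := by
  have hM : Nat.card S.M ≤ 64 := by
    have := S.card_C_M
    rw [h] at this; omega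
  obtain ⟨x, hx, hne⟩ : ∃ x ∈ S.C, S.alpha.act cF x ≠ x := by
    by_contra hcon
    push Not at hcon
    refine cF_five.2 (S.alpha_inj cF fun v => ?_)
    rw [← S.form.add_cancel (avgThree S.sig v) v, map_add, hcon _ (S.avg_mem_C v),
      add_comm (avgThree S.sig v) v, S.five_M hM _ (S.rest_mem_M v)]
  have h0 := S.form.totally_zero
    (S.alpha.zero_of_invariant S.form S.alpha_C h hx hne fun a v _ => S.alpha_q a v)
  have hx0 : x ≠ 0 := fun e => hne (by rw [e, map_zero])
  obtain ⟨w, hw, e⟩ := S.nd_C hx hx0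
  rw [h0 x hx w hw] at e
  exact absurd e (by decide)

theorem not_sixtyfour (h : Nat.card S.C = 64) (p : S.Pt) : False := by
  classical
  have hM : Nat.card S.M = 4 := by
    have := S.card_C_M
    rw [h] at this; omega
  have := Fintype.ofFinite S.V
  have htrivM : ∀ a, ∀ x ∈ S.M, S.alpha.act a x = x :=
    S.alpha.trivial_of_small S.two S.alpha_M (by omega)
  -- the moved space is anisotropic
  have hM3 : ∀ m ∈ S.M, m ≠ 0 → ∀ x ∈ S.M, x = 0 ∨ x = m ∨ x = S.sig m ∨ x = S.sig (S.sig m) := by
    intro m hm hm0 x hx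
    by_contra hcon
    simp only [not_or] at hcon
    have sne : ∀ v, v ≠ 0 → S.sig v ≠ 0 := fun v hv e => hv (by rw [← S.sig_three v, e, map_zero, map_zero])
    have h1 : S.sig m ≠ m := fun e => hm0 (S.sig_fpf_M hm e)
    have h2 : S.sig (S.sig m) ≠ m := fun e => h1 (by
      calc S.sig m = S.sig (S.sig (S.sig m)) := by rw [e]
        _ = m := S.sig_three m)
    have h3 : S.sig (S.sig m) ≠ S.sig m := fun e => sne _ hm0 (S.sig_fpf_M (S.sig_M hm) e)
    let T : Finset S.V := {0, m, S.sig m, S.sig (S.sig m), x}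
    have hT : T ⊆ Finset.univ.filter (· ∈ S.M) := by
      intro v hv
      simp only [T, Finset.mem_insert, Finset.mem_singleton] at hv
      rcases hv with rfl | rfl | rfl | rfl | rfl
      · simp [S.M.zero_mem]
      · simp [hm]
      · simp [S.sig_M hm]
      · simp [S.sig_M (S.sig_M hm)]
      · simp [hx]
    have hc := Finset.card_le_card hT
    rw [show (Finset.univ.filter (· ∈ S.M)).card = 4 by
      rw [← hM, Nat.card_eq_fintype_card, Fintype.card_subtype]] at hc
    have : T.card = 5 := by
      simp [T, Finset.card_insert_of_notMem, hm0.symm, (sne _ hm0).symm, (sne _ (sne _ hm0)).symm,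
        Ne.symm hcon.1, h1.symm, h2.symm, Ne.symm hcon.2.1, h3.symm, Ne.symm hcon.2.2.1,
        Ne.symm hcon.2.2.2]
    omega
  have haniso : ∀ m ∈ S.M, m ≠ 0 → S.form.q m = 1 := by
    intro m hm hm0
    refine (z2_cases _).resolve_left fun e => ?_
    have h0 : ∀ x ∈ S.M, S.form.q x = 0 := fun x hx => by
      rcases hM3 m hm hm0 x hx with r | r | r | r <;> subst r
      · exact S.form.q_zero
      · exact e
      · rw [S.sig_q, e]
      · rw [S.sig_q, S.sig_q, e]
    obtain ⟨w, hw, hB⟩ := S.nd_M hm hm0
    rw [S.form.totally_zero h0 m hm w hw] at hB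
    exact absurd hB (by decide)
  have hE16 : Nat.card p.E ≤ 16 := by
    have h' := S.form.card_sq_le (W := ⊤) (E := p.E) le_top (fun x _ hx => by
      by_contra hcon
      push Not at hcon
      exact hx (S.form.nondeg x fun w => (z2_cases _).resolve_right (hcon w trivial))) p.E_orth
    rw [AddSubgroup.card_top, S.card_V] at h'
    nlinarith
  have hprod := p.card_A_mul
  by_cases hst : S.sig p.t = p.t
  · -- `t` is fixed by the element of order three
    have hA1 : ∀ a ∈ p.A, a.1 = 1 := by
      intro a ha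
      have hn := p.stab_A (c := S.liftS) hst ha
      rw [S.pr_liftS] at hn
      refine rot_commute a.1 (congrArg Prod.fst (p.A_sq ha)) ?_
      exact congrArg Prod.fst (p.A_comm hn ha).eq
    have hEC : p.E ≤ S.C := by
      intro v hv
      have h1 : S.sig v ∈ p.E := p.stab_E (c := S.liftS) hst hv
      have h2 : S.sig (S.sig v) ∈ p.E := p.stab_E (c := S.liftS) hst h1
      have hm : v + avgThree S.sig v = 0 := by
        by_contra hne
        have := haniso _ (S.rest_mem_M v) hne
        rw [p.E_sing _ (by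
          rw [avgThree_apply]
          exact p.E.add_mem hv (p.E.add_mem (p.E.add_mem hv h1) h2))] at this
        exact absurd this (by decide)
      rw [(eq_neg_of_add_eq_zero_left hm).trans (S.form.neg_eq _)]
      exact S.avg_mem_C v
    have hE8 : Nat.card p.E ≤ 8 := by
      have h' := S.form.card_sq_le hEC (fun x hx h0 => S.nd_C hx h0) p.E_orth
      rw [h] at h'
      nlinarith
    have hlt := card_lt_sixteen (p.A.map (MonoidHom.snd (Perm (Fin 3)) (Perm (Fin 6)))) (by
      rintro _ ⟨a, ha, rfl⟩
      exact congrArg Prod.snd (p.A_sq ha))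
    have hinj : Nat.card p.A ≤
        Nat.card (p.A.map (MonoidHom.snd (Perm (Fin 3)) (Perm (Fin 6)))) :=
      Nat.card_le_card_of_injective (fun a => ⟨(a : Top).2, a, a.2, rfl⟩) fun a b e =>
        Subtype.ext (Prod.ext ((hA1 a a.2).trans (hA1 b b.2).symm) (congrArg Subtype.val e))
    have h' : Nat.card p.A * Nat.card p.E ≤ 15 * 8 := Nat.mul_le_mul (by omega) hE8
    omega
  · set ct := avgThree S.sig p.t with hct
    set m := p.t + ct with hm
    have hmM : m ∈ S.M := S.rest_mem_M _
    have hctC : ct ∈ S.C := S.avg_mem_C _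
    have hm0 : m ≠ 0 := fun e => hst (by
      rw [(eq_neg_of_add_eq_zero_left e).trans (S.form.neg_eq _)]; exact S.mem_C.mp hctC)
    have hBm : ∀ x ∈ S.C, S.form.B x p.t = S.form.B x ct := fun x hx => by
      have e : p.t = ct + m := by rw [hm, add_comm p.t ct, S.form.add_cancel]
      rw [e, S.form.add_right, S.C_M_orth hx hmM, add_zero]
    -- the part of `E` in the fixed space
    let W : AddSubgroup S.V := p.E ⊓ S.C
    have hW0 : ∀ x ∈ W, ∀ w ∈ W, S.form.B x w = 0 := fun x hx w hw => p.E_orth x hx.1 w hw.1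
    have hW4 : Nat.card W ≤ 4 := by
      obtain ⟨k, hk⟩ := card_two_pow S.two W
      by_contra hlt
      let W' : AddSubgroup S.V :=
        { carrier := {x | x ∈ W ∨ x + ct ∈ W}
          zero_mem' := Or.inl W.zero_mem
          add_mem' := by
            intro a b ha hb
            rcases ha with ha | ha <;> rcases hb with hb | hb
            · exact Or.inl (W.add_mem ha hb)
            · exact Or.inr (by rw [add_assoc]; exact W.add_mem ha hb)
            · exact Or.inr (by rw [add_right_comm]; exact W.add_mem ha hb)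
            · left
              have := W.add_mem ha hb
              rwa [add_add_add_comm, S.two, add_zero] at this
          neg_mem' := fun {a} ha => by rwa [S.form.neg_eq] }
      have hlift : ∀ x ∈ W', x ∈ S.C ∧ ∀ w ∈ W, S.form.B x w = 0 := by
        rintro x (hx | hx)
        · exact ⟨hx.2, fun w hw => hW0 x hx w hw⟩
        · have hxe : x = (x + ct) + ct := by rw [add_assoc, S.two, add_zero]
          refine ⟨by rw [hxe]; exact S.C.add_mem hx.2 hctC, fun w hw => ?_⟩
          rw [hxe, S.form.add_left, hW0 _ hx w hw, zero_add, S.form.symm, ← hBm w hw.2]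
          exact p.E_orth w hw.1 p.t p.t_mem
      have hW'0 : ∀ x ∈ W', ∀ w ∈ W', S.form.B x w = 0 := by
        intro x hx w hw
        rcases hw with hw' | hw'
        · exact (hlift x hx).2 w hw'
        · rw [show w = (w + ct) + ct by rw [add_assoc, S.two, add_zero], S.form.add_right,
            (hlift x hx).2 _ hw', zero_add]
          rcases hx with hx' | hx'
          · rw [← hBm x hx'.2]; exact p.E_orth x hx'.1 p.t p.t_mem
          · rw [show x = (x + ct) + ct by rw [add_assoc, S.two, add_zero], S.form.add_left,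
              S.form.self, add_zero, ← hBm _ hx'.2]
            exact p.E_orth _ hx'.1 p.t p.t_mem
      have h' := S.form.card_sq_le (fun x hx => (hlift x hx).1) (fun x hx h0 => S.nd_C hx h0) hW'0
      rw [h] at h'
      have hle : W ≤ W' := fun x hx => Or.inl hx
      have hWW' : Nat.card W ≤ Nat.card W' := AddSubgroup.card_le_of_le hle
      obtain ⟨l, hl⟩ := card_two_pow S.two W'
      have hk3 : 3 ≤ k := by
        by_contra hk2
        have : 2 ^ k ≤ 2 ^ 2 := Nat.pow_le_pow_right (by norm_num) (by omega)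
        omega
      have h8 : 2 ^ 3 ≤ 2 ^ k := Nat.pow_le_pow_right (by norm_num) hk3
      have hWeq : W = W' := AddSubgroup.eq_of_le_of_card_ge hle (by
        have : Nat.card W' ≤ 8 := by nlinarith
        omega)
      have hctW : ct ∈ W := by
        rw [hWeq]; exact Or.inr (by rw [S.two]; exact W.zero_mem)
      have := haniso m hmM hm0
      rw [p.E_sing m (p.E.add_mem p.t_mem hctW.1)] at this
      exact absurd this (by decide)
    -- elements of `A` trivial on the moved space
    let A0 : Subgroup Top :=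
      { carrier := {a | a ∈ p.A ∧ ∀ c : S.H, S.pr c = a → S.rho c (S.sig m) = S.sig m}
        one_mem' := ⟨one_mem _, fun c hc => by
          rw [S.rho_congr (d := 1) (hc.trans (map_one _).symm), S.rho_one]⟩
        mul_mem' := by
          rintro a b ⟨ha, ha'⟩ ⟨hb, hb'⟩
          refine ⟨mul_mem ha hb, fun c hc => ?_⟩
          obtain ⟨c1, -, rfl⟩ := p.mem_A_iff.mp ha
          obtain ⟨c2, -, rfl⟩ := p.mem_A_iff.mp hb
          rw [S.rho_congr (d := c1 * c2) (by rw [hc, map_mul]), S.rho_mul, hb' c2 rfl, ha' c1 rfl]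
        inv_mem' := by
          rintro a ⟨ha, ha'⟩
          refine ⟨inv_mem ha, fun c hc => ha' c ?_⟩
          rw [hc, inv_eq_of_mul_eq_one_right (p.A_sq ha)] }
    have fix_m : ∀ c : S.H, (c : G) ∈ p.Q' → S.rho c m = m := fun c hc => by
      rw [hm, hct, map_add, S.avg_comm, p.fix_t hc]
    have hmove : ∀ c : S.H, (c : G) ∈ p.Q' →
        S.rho c (S.sig m) = S.sig m ∨ S.rho c (S.sig m) = S.sig (S.sig m) := by
      intro c hc
      rcases hM3 m hmM hm0 _ (S.rho_M c (S.sig_M hmM)) with r | r | r | r
      · exfalso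
        have hsm : S.sig m = 0 := by
          have := congrArg (S.rho c⁻¹) r
          rwa [← S.rho_mul, inv_mul_cancel, S.rho_one, map_zero] at this
        exact hm0 (by rw [← S.sig_three m, hsm, map_zero, map_zero])
      · exfalso
        rw [← fix_m c hc] at r
        have := congrArg (S.rho c⁻¹) r
        rw [← S.rho_mul, ← S.rho_mul, fix_m c hc, inv_mul_cancel, S.rho_one, S.rho_one] at this
        exact hm0 (S.sig_fpf_M hmM this)
      · exact Or.inl r
      · exact Or.inr r
    have hA0 : Nat.card p.A ≤ Nat.card A0 * 2 := by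
      by_cases hall : ∀ a ∈ p.A, a ∈ A0
      · exact le_trans (Subgroup.card_le_of_le hall) (Nat.le_mul_of_pos_right _ (by norm_num))
      push Not at hall
      obtain ⟨b, hbA, hb⟩ := hall
      have hcase : ∀ a ∈ p.A, a ∈ A0 ∨ a * b ∈ A0 := by
        intro a ha
        by_cases ha0 : a ∈ A0
        · exact Or.inl ha0
        refine Or.inr ⟨mul_mem ha hbA, fun c hc => ?_⟩
        obtain ⟨c1, h1, rfl⟩ := p.mem_A_iff.mp ha
        obtain ⟨c2, h2, rfl⟩ := p.mem_A_iff.mp hbA
        have e1 : S.rho c1 (S.sig m) = S.sig (S.sig m) := (hmove c1 h1).resolve_left fun e =>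
          ha0 ⟨ha, fun d hd => (S.rho_congr hd _).trans e⟩
        have e2 : S.rho c2 (S.sig m) = S.sig (S.sig m) := (hmove c2 h2).resolve_left fun e =>
          hb ⟨hbA, fun d hd => (S.rho_congr hd _).trans e⟩
        rw [S.rho_congr (d := c1 * c2) (by rw [hc, map_mul]), S.rho_mul, e2,
          show S.sig (S.sig m) = S.rho c1 (S.sig m) from e1.symm, ← S.rho_mul,
          S.rho_congr (d := 1) (by rw [map_mul, map_one]; exact p.A_sq ha), S.rho_one]
      let f : p.A → A0 × Bool := fun a =>
        if h : (a : Top) ∈ A0 then (⟨a, h⟩, false)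
        else (⟨(a : Top) * b, (hcase a a.2).resolve_left h⟩, true)
      have hf : Function.Injective f := by
        intro a c e
        simp only [f] at e
        split_ifs at e <;> simp only [Prod.mk.injEq, Subtype.mk.injEq] at e
        · exact Subtype.ext e.1
        · exact absurd e.2 (by decide)
        · exact absurd e.2 (by decide)
        · exact Subtype.ext (mul_right_cancel e.1)
      have := Nat.card_le_card_of_injective f hf
      simpa [Nat.card_prod] using this
    have hA8 : 8 ≤ Nat.card p.A := by nlinarith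
    -- the moves inside the fixed space
    have hphi : ∀ a ∈ A0, ∀ c : S.H, S.pr c = a → (∀ x ∈ S.M, S.rho c x = x) ∧
        ∀ x ∈ S.C, S.rho c x + x ∈ W := by
      intro a ha c hc
      obtain ⟨c', hc', e'⟩ := p.mem_A_iff.mp ha.1
      have hcc : ∀ x, S.rho c x = S.rho c' x := S.rho_congr (hc.trans e'.symm)
      have h1 : S.rho c' (S.sig m) = S.sig m := ha.2 c' e'
      have hfixM : ∀ x ∈ S.M, S.rho c x = x := by
        intro x hx
        rw [hcc]
        rcases hM3 m hmM hm0 x hx with r | r | r | r
        · rw [r, map_zero]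
        · rw [r, fix_m c' hc']
        · rw [r, h1]
        · have e : S.sig (S.sig m) = m + S.sig m := by
            have h' := S.mem_M.mp hmM
            rw [avgThree_apply] at h'
            exact ((eq_neg_of_add_eq_zero_left h').trans (S.form.neg_eq _)).symm
          rw [r, e, map_add, fix_m c' hc', h1]
      refine ⟨hfixM, fun x hx => ⟨?_, S.C.add_mem (S.rho_C c hx) hx⟩⟩
      obtain ⟨m', hm', hB⟩ : ∃ m' ∈ S.M, S.form.B (x + m') p.t = 0 := by
        rcases z2_cases (S.form.B x p.t) with e | e
        · exact ⟨0, S.M.zero_mem, by rw [add_zero, e]⟩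
        · obtain ⟨w, hw, hw1⟩ := S.nd_M hmM hm0
          refine ⟨w, hw, ?_⟩
          have e2 : S.form.B w p.t = 1 := by
            rw [show p.t = ct + m by rw [hm, add_comm p.t ct, S.form.add_cancel], S.form.add_right,
              S.form.symm w ct, S.C_M_orth hctC hw, zero_add, S.form.symm, hw1]
          rw [S.form.add_left, e, e2, z2_add_self]
      have := p.perp_move hc' hB
      rwa [map_add, ← hcc, ← hcc, hfixM m' hm', add_add_add_comm, S.two, add_zero] at this
    -- maps into `W`
    have key : ∀ f : S.V →+ S.V, (∀ x ∈ S.C, f x ∈ W) →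
        (∀ x ∈ S.C, ∀ w ∈ S.C, S.form.B x (f w) = S.form.B (f x) w) →
        (∀ x ∈ S.C, S.form.B x (f x) = 0) →
        ∀ v0 ∈ S.C, f v0 = 0 → (∃ w0 ∈ W, S.form.B v0 w0 = 1) → ∀ x ∈ S.C, f x = 0 := by
      intro f hfW hfs hfa v0 hv0 hf0 ⟨w0, hw0, hvw⟩ x hx
      by_contra hne
      set e := f x with he
      have heW : e ∈ W := hfW x hx
      have hperp : ∀ w ∈ S.C, S.form.B v0 (f w) = 0 := fun w hw => by
        rw [hfs v0 hv0 w hw, hf0, S.form.zero_left]
      have htwo : ∀ w ∈ S.C, f w = 0 ∨ f w = e := by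
        intro w hw
        by_contra hc
        simp only [not_or] at hc
        let T : Finset S.V := {0, e, f w, e + f w, w0}
        have hT : T ⊆ Finset.univ.filter (· ∈ W) := by
          intro v hv
          simp only [T, Finset.mem_insert, Finset.mem_singleton] at hv
          rcases hv with rfl | rfl | rfl | rfl | rfl
          · simp [W.zero_mem]
          · simp [heW]
          · simp [hfW w hw]
          · simp [W.add_mem heW (hfW w hw)]
          · simp [hw0]
        have hcT := Finset.card_le_card hT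
        rw [show (Finset.univ.filter (· ∈ W)).card = Nat.card W by
          rw [Nat.card_eq_fintype_card, Fintype.card_subtype]] at hcT
        have hw0ne : ∀ u, S.form.B v0 u = 0 → u ≠ w0 := fun u hu he' => by
          rw [he', hvw] at hu; exact absurd hu (by decide)
        have h1 : e + f w ≠ 0 := fun h0 =>
          hc.2 ((eq_neg_of_add_eq_zero_right h0).trans (S.form.neg_eq _))
        have h2 : e ≠ e + f w := fun h0 => hc.1 (left_eq_add.mp h0)
        have h3 : f w ≠ e + f w := fun h0 => hne (right_eq_add.mp h0)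
        have : T.card = 5 := by
          simp [T, Finset.card_insert_of_notMem, Ne.symm hne, Ne.symm hc.1, Ne.symm hc.2, h1.symm,
            h2, h3, hw0ne 0 (S.form.zero_right _), hw0ne e (hperp x hx), hw0ne (f w) (hperp w hw),
            hw0ne (e + f w) (by rw [S.form.add_right, hperp w hw, hperp x hx, add_zero])]
        omega
      obtain ⟨w1, hw1, hB1⟩ := S.nd_C heW.2 hne
      have hzero : ∀ w ∈ S.C, S.form.B w e = 1 → f w = 0 := fun w hw hB =>
        (htwo w hw).resolve_right fun he' => by
          have := hfa w hw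
          rw [he', hB] at this
          exact absurd this (by decide)
      have h10 := hzero w1 hw1 (by rw [S.form.symm, hB1])
      have hxe : S.form.B x e = 0 := hfa x hx
      have h11 := hzero (x + w1) (S.C.add_mem hx hw1) (by
        rw [S.form.add_left, hxe, zero_add, S.form.symm, hB1])
      rw [map_add, h10, add_zero] at h11
      exact hne h11
    -- at most one element moves
    have hone : ∀ a ∈ A0, ∀ b ∈ A0, a ≠ 1 → b ≠ 1 → a = b := by
      intro a ha b hb ha1 hb1
      obtain ⟨ca, -, hca⟩ := p.mem_A_iff.mp ha.1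
      obtain ⟨cb, -, hcb⟩ := p.mem_A_iff.mp hb.1
      obtain ⟨haM, haW⟩ := hphi a ha ca hca
      obtain ⟨hbM, hbW⟩ := hphi b hb cb hcb
      have fa : ∀ (c : S.H), (∀ x ∈ S.C, S.rho c x + x ∈ W) →
          (∀ x ∈ S.C, ∀ w ∈ S.C, S.form.B x (S.rho c w + w) = S.form.B (S.rho c x + x) w) ∧
          (∀ x ∈ S.C, S.form.B x (S.rho c x + x) = 0) := by
        intro c hc
        refine ⟨fun x hx w hw => ?_, fun x hx => ?_⟩
        · have h1 := S.form.isom_B (S.rho_q c) x w
          have h2 := hW0 _ (hc x hx) _ (hc w hw)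
          rw [S.form.add_left, S.form.add_right, S.form.add_right, h1] at h2
          rw [S.form.add_right, S.form.add_left]
          linear_combination h2 - (S.form.B x w + S.form.B (S.rho c x) w) *
            (by decide : (1 : ZMod 2) + 1 = 0)
        · have h1 := S.form.polar (S.rho c x + x) x
          rw [add_assoc, S.two, add_zero, S.rho_q, p.E_sing _ (hc x hx).1, zero_add,
            S.form.symm] at h1
          linear_combination -h1
      have triv : ∀ (c : S.H), (∀ x ∈ S.M, S.rho c x = x) → (∀ x ∈ S.C, S.rho c x + x = 0) →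
          S.pr c = 1 := fun c hcM hc0 => S.rho_faithful fun v => by
        rw [← S.form.add_cancel (avgThree S.sig v) v, map_add,
          (eq_neg_of_add_eq_zero_left (hc0 _ (S.avg_mem_C v))).trans (S.form.neg_eq _),
          add_comm (avgThree S.sig v) v, hcM _ (S.rest_mem_M v)]
      obtain ⟨u, hu, hu0⟩ : ∃ u ∈ S.C, S.rho ca u + u ≠ 0 := by
        by_contra hcon
        push Not at hcon
        exact ha1 (hca ▸ triv ca haM hcon)
      obtain ⟨v0, hv0, hv0B⟩ := S.nd_C (haW u hu).2 hu0
      have hw0 : ∃ w0 ∈ W, S.form.B v0 w0 = 1 := ⟨_, haW u hu, by rw [S.form.symm, hv0B]⟩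
      let fA : S.V →+ S.V := S.rho ca + AddMonoidHom.id _
      let fB : S.V →+ S.V := S.rho cb + AddMonoidHom.id _
      have ne0 : ∀ (c : S.H), S.pr c ≠ 1 → (∀ x ∈ S.M, S.rho c x = x) →
          (∀ x ∈ S.C, S.rho c x + x ∈ W) → S.rho c v0 + v0 ≠ 0 := by
        intro c hc1 hcM hcW h0
        exact hc1 (triv c hcM (key (S.rho c + AddMonoidHom.id _) hcW (fa c hcW).1 (fa c hcW).2
          v0 hv0 h0 hw0))
      have hA := ne0 ca (hca ▸ ha1) haM haW
      have hBv := ne0 cb (hcb ▸ hb1) hbM hbW
      -- both values are the nonzero element of `W` perpendicular to `v0`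
      have heq : S.rho ca v0 + v0 = S.rho cb v0 + v0 := by
        by_contra hne
        obtain ⟨w0, hw0W, hw0B⟩ := hw0
        have hpA := (fa ca haW).2 v0 hv0
        have hpB := (fa cb hbW).2 v0 hv0
        set e1 := S.rho ca v0 + v0
        set e2 := S.rho cb v0 + v0
        let T : Finset S.V := {0, e1, e2, e1 + e2, w0}
        have hT : T ⊆ Finset.univ.filter (· ∈ W) := by
          intro v hv
          simp only [T, Finset.mem_insert, Finset.mem_singleton] at hv
          rcases hv with rfl | rfl | rfl | rfl | rfl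
          · simp [W.zero_mem]
          · simp [haW v0 hv0, e1]
          · simp [hbW v0 hv0, e2]
          · simp [W.add_mem (haW v0 hv0) (hbW v0 hv0), e1, e2]
          · simp [hw0W]
        have hcT := Finset.card_le_card hT
        rw [show (Finset.univ.filter (· ∈ W)).card = Nat.card W by
          rw [Nat.card_eq_fintype_card, Fintype.card_subtype]] at hcT
        have hw0ne : ∀ u, S.form.B v0 u = 0 → u ≠ w0 := fun u hu he' => by
          rw [he', hw0B] at hu; exact absurd hu (by decide)
        have h1 : e1 + e2 ≠ 0 := fun h0 =>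
          hne ((eq_neg_of_add_eq_zero_left h0).trans (S.form.neg_eq _))
        have h2 : e1 ≠ e1 + e2 := fun h0 => hBv (left_eq_add.mp h0)
        have h3 : e2 ≠ e1 + e2 := fun h0 => hA (right_eq_add.mp h0)
        have : T.card = 5 := by
          simp [T, Finset.card_insert_of_notMem, Ne.symm hA, Ne.symm hBv, hne, h1.symm, h2, h3,
            hw0ne 0 (S.form.zero_right _), hw0ne e1 hpA, hw0ne e2 hpB,
            hw0ne (e1 + e2) (by rw [S.form.add_right, hpA, hpB, add_zero])]
        omega
      have hall := key (fA + fB)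
        (fun x hx => W.add_mem (haW x hx) (hbW x hx))
        (fun x hx w hw => by
          show S.form.B x ((S.rho ca w + w) + (S.rho cb w + w)) =
            S.form.B ((S.rho ca x + x) + (S.rho cb x + x)) w
          rw [S.form.add_right x (S.rho ca w + w), S.form.add_left (S.rho ca x + x),
            (fa ca haW).1 x hx w hw, (fa cb hbW).1 x hx w hw])
        (fun x hx => by
          show S.form.B x ((S.rho ca x + x) + (S.rho cb x + x)) = 0
          rw [S.form.add_right x (S.rho ca x + x), (fa ca haW).2 x hx, (fa cb hbW).2 x hx, add_zero])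
        v0 hv0 (by
          show (S.rho ca v0 + v0) + (S.rho cb v0 + v0) = 0
          rw [heq, S.two]) hw0
      have hagree : ∀ v, S.rho ca v = S.rho cb v := fun v => by
        have hsplit : ∀ c : S.H, S.rho c v =
            S.rho c (avgThree S.sig v) + S.rho c (v + avgThree S.sig v) := fun c => by
          rw [← map_add, add_comm v (avgThree S.sig v), S.form.add_cancel]
        have h0 : (S.rho ca (avgThree S.sig v) + avgThree S.sig v) +
            (S.rho cb (avgThree S.sig v) + avgThree S.sig v) = 0 := hall _ (S.avg_mem_C v)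
        rw [add_add_add_comm, S.two, add_zero] at h0
        rw [hsplit, hsplit, (eq_neg_of_add_eq_zero_left h0).trans (S.form.neg_eq _),
          haM _ (S.rest_mem_M v), hbM _ (S.rest_mem_M v)]
      have h1 : S.pr (cb⁻¹ * ca) = 1 := S.rho_faithful fun v => by
        rw [S.rho_mul, hagree, ← S.rho_mul, inv_mul_cancel, S.rho_one]
      rw [map_mul, map_inv, inv_mul_eq_one] at h1
      rw [← hca, ← hcb, h1]
    have hA02 : Nat.card A0 ≤ 2 := by
      by_cases hex : ∃ a ∈ A0, a ≠ 1
      · obtain ⟨a, ha, ha1⟩ := hex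
        have : Nat.card A0 ≤ Nat.card Bool := Nat.card_le_card_of_injective
          (fun x : A0 => decide ((x : Top) = 1)) fun x w e => Subtype.ext (by
            simp only [decide_eq_decide] at e
            by_cases hx : (x : Top) = 1
            · rw [hx, e.mp hx]
            · exact (hone x x.2 a ha hx ha1).trans (hone w w.2 a ha (fun hw => hx (e.mpr hw)) ha1).symm)
        simpa using this
      · push Not at hex
        rw [(Subgroup.eq_bot_iff_forall _).mpr hex, Subgroup.card_bot]
        norm_num
    omega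

/-- The element of order three has no fixed vector. -/
theorem sig_fpf (p : S.Pt) : ∀ v, S.sig v = v → v = 0 := by
  rcases S.card_cases with h | h | h | h
  · intro v hv
    have hv' := S.mem_C.mpr hv
    rw [AddSubgroup.eq_bot_of_card_eq _ h] at hv'
    exact hv'
  · exact (S.not_four h).elim
  · exact (S.not_sixteen h).elim
  · exact (S.not_sixtyfour h p).elim

end Setting

end Cfsg.Agent.WidthFour
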