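import Cfsg.Agent.Lib.WidthFour.Model

/-!
# Certificates on the plane of rank one vectors
-/

set_option autoImplicit false
set_option maxRecDepth 100000

namespace Cfsg.Agent.WidthFour.Model

open Equiv

/-- A vector of rank one. -/
def rankOne (v : Nat) : Bool :=
  v != 0 && (v % 16 == 0 || v / 16 == 0 || v % 16 == v / 16)

/-- The images of `1` have rank one and differ from `21`. -/
theorem one_image : ∀ i : Fin 3, ∀ b : A6,
    rankOne (act (i.castLE (by decide)) b 1) = true ∧ act (i.castLE (by decide)) b 1 ≠ 21 := by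
  decide +kernel

/-- The seven nonzero vectors of the span of `1`, `a`, `c`. -/
def seven (a c : Nat) : List Nat := [1, a, c, a ^^^ c, 1 ^^^ a, 1 ^^^ c, 1 ^^^ a ^^^ c]

theorem seven_unique : ∀ a ∈ survOne, ∀ c ∈ survOne, (seven a c).all rankOne = true →
    4 ∈ seven a c ∧ 8 ∈ seven a c := by decide +kernel

/-- The conditions at `1` for a map. -/
def condF (f : Nat → Nat) : Bool :=
  f 1 == 1 && basisOne.all (fun v => survOne.contains (f v ^^^ v)) &&
    survOne.all (fun v => let d := f v ^^^ v; d == 0 || d == 1)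

/-- Conjugated by a permutation. -/
def conjF (h : Perm (Fin 6)) (t : Fin 6) (b : Perm (Fin 6)) (v : Nat) : Nat :=
  act 0 h⁻¹ (act t b (act 0 h v))

theorem common_conj : ∀ t : Fin 6, ∀ b : Perm (Fin 6),
    condF (act t b) = true → condF (conjF (swap 0 2 * swap 1 3) t b) = true →
    condF (conjF (swap 0 3 * swap 1 4 * swap 2 3 * swap 3 4) t b) = true →
    b = 1 ∧ (t = 0 ∨ t = 3) := by decide +kernel

/-- The transvection on the plane factor. -/
theorem transvection : ∀ u : Fin 16, act 3 1 u.val = u.val ∧
    (16 * u.val) ^^^ act 3 1 (16 * u.val) = u.val ∧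
    ∀ b : Fin 6, act 3 1 (u.val + 16 * b.val) = u.val + 16 * b.val → b.val = 0 := by decide +kernel

theorem fixed_small : ∀ v : Fin 256, act 3 1 v.val = v.val → v.val < 16 := by decide +kernel

theorem identity_zero : ∀ v : Fin 256, act 0 1 v.val = v.val := by decide +kernel

theorem low_perm : ∀ u : Fin 16, ∀ b : Perm (Fin 6),
    act 0 b (16 * u.val) = 16 * pU b u.val ∧ act 0 b u.val = pU b u.val := by decide +kernel

end Cfsg.Agent.WidthFour.Model
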