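import Cfsg.Agent.Lib.WidthFour.Coord
import Cfsg.Agent.Lib.WidthFour.ModelPlane

/-!
# The subspace and the group at the two model points

* `Frame.codeE_one`, `Frame.codeE_two`: the subspace at the points `1` and `20`.
* `Frame.condF_one`: the conditions on the elements of `Q^g ∩ C(z)` at the point `1`.
-/

set_option autoImplicit false
set_option maxRecDepth 100000

namespace Cfsg.Agent.WidthFour

open Subgroup Equiv

theorem tens_lt (w : Nat) (hw : w < 16) (t : Fin 6) :
    Model.tens w (Model.glTab t).1 < 256 ∧ Model.tens w (Model.glTab t).2 < 256 := by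
  have ht : ∀ t : Fin 6, (Model.glTab t).1 < 4 ∧ (Model.glTab t).2 < 4 := by decide
  exact ⟨(tens_parts ⟨w, hw⟩ ⟨_, (ht t).1⟩).1, (tens_parts ⟨w, hw⟩ ⟨_, (ht t).2⟩).1⟩

theorem act_lt (t : Fin 6) (b : Perm (Fin 6)) (v : Nat) : Model.act t b v < 256 :=
  Nat.xor_lt_two_pow (n := 8) (tens_lt _ (pU_lt' _ _) t).1 (tens_lt _ (pU_lt' _ _) t).2

theorem units_decomp : ∀ v : Fin 256, v.val = (if v.val.testBit 0 then 1 else 0) ^^^
    ((if v.val.testBit 1 then 2 else 0) ^^^ ((if v.val.testBit 2 then 4 else 0) ^^^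
      ((if v.val.testBit 3 then 8 else 0) ^^^ ((if v.val.testBit 4 then 16 else 0) ^^^
        ((if v.val.testBit 5 then 32 else 0) ^^^ ((if v.val.testBit 6 then 64 else 0) ^^^
          (if v.val.testBit 7 then 128 else 0))))))) := by decide +kernel

namespace Setting.Frame

variable {G : Type*} [Group G] [Finite G] {S : Setting G} (F : S.Frame)

/-- The coordinate of a vector. -/
noncomputable def code (x : S.V) : Nat := (F.e_surj x).choose

theorem code_lt (x : S.V) : F.code x < 256 := (F.e_surj x).choose_spec.1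

theorem e_code (x : S.V) : F.e (F.code x) = x := (F.e_surj x).choose_spec.2

theorem code_e {v : Nat} (hv : v < 256) : F.code (F.e v) = v :=
  F.e_inj (F.code_lt _) hv (F.e_code _)

open scoped Classical in
/-- The coordinates of the subspace of a point. -/
noncomputable def codeE (p : S.Pt) : Finset Nat :=
  (Finset.range 256).filter (fun v => F.e v ∈ p.E)

theorem mem_codeE {p : S.Pt} {v : Nat} : v ∈ F.codeE p ↔ v < 256 ∧ F.e v ∈ p.E := by
  classical
  simp [codeE]

theorem card_codeE (p : S.Pt) : (F.codeE p).card = Nat.card p.E := by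
  classical
  rw [← Nat.card_eq_finsetCard]
  refine Nat.card_congr
    { toFun := fun v => ⟨F.e v, (F.mem_codeE.mp v.2).2⟩
      invFun := fun x => ⟨F.code x, F.mem_codeE.mpr ⟨F.code_lt _, by rw [F.e_code]; exact x.2⟩⟩
      left_inv := fun v => Subtype.ext (F.code_e (F.mem_codeE.mp v.2).1)
      right_inv := fun x => Subtype.ext (F.e_code _) }

include F in
theorem card_E_le (p : S.Pt) : Nat.card p.E ≤ 16 := by
  have h := S.form.card_sq_le (W := ⊤) (E := p.E) le_top (fun x _ hx => by
    by_contra hcon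
    push Not at hcon
    exact hx (S.form.nondeg x fun w => (z2_cases _).resolve_right (hcon w trivial))) p.E_orth
  rw [AddSubgroup.card_top, S.card_V] at h
  nlinarith

/-- The subspace at a point with model coordinate `t`. -/
theorem classify {p : S.Pt} {t : Nat} (ht : t < 256) (hpt : p.t = F.e t)
    {L gens : List (Fin 6 × Perm (Fin 6))} {basis surv : List Nat} {n : Nat}
    (hcheck : Model.check t L gens basis surv n [0, t] = true)
    (hL : ∀ t' b, Model.isInv t (t', b) = true → (t', b) ∈ L)
    (hgens : ∀ g ∈ gens, g.1.val < 3 ∧ Perm.sign g.2 = 1 ∧ Model.act g.1 g.2 t = t)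
    (hbasis : ∀ v ∈ basis, v < 256 ∧ Model.perp v t = true) :
    F.codeE p = surv.toFinset := by
  classical
  have hvalid : Model.Valid t gens (F.codeE p) := by
    refine ⟨fun v hv => (F.mem_codeE.mp hv).1,
      F.mem_codeE.mpr ⟨by norm_num, by rw [F.e_zero]; exact p.E.zero_mem⟩,
      F.mem_codeE.mpr ⟨ht, hpt ▸ p.t_mem⟩, fun a ha b hb => ?_, fun g hg v hv => ?_,
      fun v hv => ?_, ?_⟩
    · obtain ⟨ha1, ha2⟩ := F.mem_codeE.mp ha
      obtain ⟨hb1, hb2⟩ := F.mem_codeE.mp hb
      exact F.mem_codeE.mpr ⟨Nat.xor_lt_two_pow (n := 8) ha1 hb1,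
        by rw [F.e_xor]; exact p.E.add_mem ha2 hb2⟩
    · obtain ⟨hg1, hg2, hg3⟩ := hgens g hg
      obtain ⟨c, hc⟩ := F.coord_even ⟨g.1.val, hg1⟩ ⟨g.2, Perm.mem_alternatingGroup.mpr hg2⟩
      have hct : S.rho c p.t = p.t := by
        rw [hpt, hc t ht]; exact congrArg F.e hg3
      obtain ⟨hv1, hv2⟩ := F.mem_codeE.mp hv
      refine F.mem_codeE.mpr ⟨act_lt _ _ _, ?_⟩
      have := p.stab_E hct hv2
      rw [hc v hv1] at this
      exact this
    · obtain ⟨hv1, hv2⟩ := F.mem_codeE.mp hv
      exact (F.q_zero_iff hv1).mp (p.E_sing _ hv2)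
    · rw [F.card_codeE]; exact F.card_E_le p
  -- the elements of `A`
  let A' := {a : Top // a ∈ p.A ∧ a ≠ 1}
  have hlift : ∀ a : A', ∃ c : S.H, (c : G) ∈ p.Q' ∧ S.pr c = a.1 := fun a => a.2.1
  let tb : A' → Fin 6 × Perm (Fin 6) := fun a =>
    ((F.coord (hlift a).choose).choose, (S.pr (hlift a).choose).2)
  have htb : ∀ a : A', ∀ v, v < 256 →
      S.rho (hlift a).choose (F.e v) = F.e (Model.act (tb a).1 (tb a).2 v) := fun a =>
    (F.coord (hlift a).choose).choose_spec
  have hinj : Function.Injective tb := by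
    intro a a' e
    refine Subtype.ext ?_
    have h : S.pr ((hlift a').choose⁻¹ * (hlift a).choose) = 1 := S.rho_faithful fun x => by
      obtain ⟨v, hv, rfl⟩ := F.e_surj x
      rw [S.rho_mul, htb a v hv, e, ← htb a' v hv, ← S.rho_mul, inv_mul_cancel, S.rho_one]
    rw [map_mul, map_inv, inv_mul_eq_one, (hlift a).choose_spec.2, (hlift a').choose_spec.2] at h
    exact h.symm
  have := Fintype.ofFinite A'
  let K : Finset (Fin 6 × Perm (Fin 6)) := Finset.univ.image tb
  refine Model.classify hcheck hvalid K ?_ ?_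
  · intro g hg
    obtain ⟨a, -, rfl⟩ := Finset.mem_image.mp hg
    set c := (hlift a).choose with hc
    obtain ⟨hcQ, hcp⟩ := (hlift a).choose_spec
    have hfix : Model.act (tb a).1 (tb a).2 t = t := by
      refine F.e_inj (act_lt _ _ _) ht ?_
      rw [← htb a t ht, ← hpt]
      exact p.fix_t hcQ
    have hsq : ∀ v, v < 256 → Model.act (tb a).1 (tb a).2 (Model.act (tb a).1 (tb a).2 v) = v := by
      intro v hv
      refine F.e_inj (act_lt _ _ _) hv ?_
      rw [← htb a _ (act_lt _ _ _), ← htb a v hv, ← S.rho_mul,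
        S.rho_congr (d := 1) (by rw [map_mul, map_one, hcp]; exact p.A_sq a.2.1), S.rho_one]
    refine ⟨hL _ _ ?_, hfix, fun v hv => ?_, fun v hv => ?_⟩
    · simp only [Model.isInv, Bool.and_eq_true, beq_iff_eq, List.all_eq_true, Bool.not_eq_true']
      refine ⟨⟨hfix, fun v hv => hsq v ?_⟩, ?_⟩
      · simp [Model.unitVecs] at hv; omega
      · rw [← Bool.not_eq_true, List.all_eq_true]
        intro hall
        simp only [beq_iff_eq] at hall
        refine a.2.2 ?_
        rw [← hcp]
        refine S.rho_faithful fun x => ?_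
        obtain ⟨v, hv, rfl⟩ := F.e_surj x
        have hu : ∀ u ∈ Model.unitVecs, S.rho c (F.e u) = F.e u := fun u hu => by
          have hlt : u < 256 := by simp [Model.unitVecs] at hu; omega
          rw [htb a u hlt, hall u hu]
        have hb : ∀ (b : Bool) (u : Nat), u ∈ Model.unitVecs →
            S.rho c (F.e (if b then u else 0)) = F.e (if b then u else 0) := fun b u hu' => by
          cases b
          · simp [F.e_zero]
          · simpa using hu u hu'
        rw [show v = _ from units_decomp ⟨v, hv⟩]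
        simp only [F.e_xor, map_add]
        rw [hb _ _ (by simp [Model.unitVecs]), hb _ _ (by simp [Model.unitVecs]),
          hb _ _ (by simp [Model.unitVecs]), hb _ _ (by simp [Model.unitVecs]),
          hb _ _ (by simp [Model.unitVecs]), hb _ _ (by simp [Model.unitVecs]),
          hb _ _ (by simp [Model.unitVecs]), hb _ _ (by simp [Model.unitVecs])]
    · obtain ⟨hv1, hv2⟩ := hbasis v hv
      refine F.mem_codeE.mpr ⟨Nat.xor_lt_two_pow (n := 8) (act_lt _ _ _) hv1, ?_⟩
      rw [F.e_xor, ← htb a v hv1]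
      exact p.perp_move hcQ (by rw [hpt]; exact (F.B_zero_iff hv1 ht).mpr hv2)
    · obtain ⟨hv1, hv2⟩ := F.mem_codeE.mp hv
      have hlt := Nat.xor_lt_two_pow (n := 8) (act_lt (tb a).1 (tb a).2 v) hv1
      rcases p.E_move hcQ hv2 with e | e
      · left
        refine F.e_inj hlt (by norm_num) ?_
        rw [F.e_xor, ← htb a v hv1, e, S.two, F.e_zero]
      · right
        refine F.e_inj hlt ht ?_
        rw [F.e_xor, ← htb a v hv1, e, add_comm (F.e v) p.t, add_assoc, S.two, add_zero, hpt]
  · rw [Finset.card_image_of_injective _ hinj, Finset.card_univ, F.card_codeE]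
    have hA : Fintype.card A' + 1 = Nat.card p.A := by
      have := Fintype.ofFinite p.A
      rw [Nat.card_eq_fintype_card,
        Fintype.card_congr (show A' ≃ {a : p.A // ¬ a = 1} from
          { toFun := fun a => ⟨⟨a.1, a.2.1⟩, fun e => a.2.2 (congrArg Subtype.val e)⟩
            invFun := fun a => ⟨a.1.1, a.1.2, fun e => a.2 (Subtype.ext e)⟩
            left_inv := fun a => rfl
            right_inv := fun a => rfl }),
        Fintype.card_subtype_compl, Fintype.card_subtype_eq]
      have : 0 < Fintype.card p.A := Fintype.card_pos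
      omega
    rw [hA, p.card_A_mul]

/-- The subspace at the point `1`. -/
theorem codeE_one {p : S.Pt} (h : p.t = F.e 1) : F.codeE p = Model.survOne.toFinset :=
  F.classify (by norm_num) h Model.check_one Model.invOne_complete Model.gens_even.1
    Model.basisOne_perp

/-- The subspace at the point `20`. -/
theorem codeE_two {p : S.Pt} (h : p.t = F.e 20) : F.codeE p = Model.survTwo.toFinset :=
  F.classify (by norm_num) h Model.check_two Model.invTwo_complete Model.gens_even.2
    Model.basisTwo_perp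

theorem mem_E_one {p : S.Pt} (h : p.t = F.e 1) {v : Nat} (hv : v < 256) :
    F.e v ∈ p.E ↔ v ∈ Model.survOne := by
  rw [← List.mem_toFinset, ← F.codeE_one h, F.mem_codeE]
  exact ⟨fun e => ⟨hv, e⟩, fun e => e.2⟩

theorem mem_E_two {p : S.Pt} (h : p.t = F.e 20) {v : Nat} (hv : v < 256) :
    F.e v ∈ p.E ↔ v ∈ Model.survTwo := by
  rw [← List.mem_toFinset, ← F.codeE_two h, F.mem_codeE]
  exact ⟨fun e => ⟨hv, e⟩, fun e => e.2⟩

/-- An element of `Q^g` centralising `z` meets the conditions at the point `1`. -/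
theorem condF_one {p : S.Pt} (h : p.t = F.e 1) {c : S.H} (hc : (c : G) ∈ p.Q') {f : Nat → Nat}
    (hflt : ∀ v, v < 256 → f v < 256) (hf : ∀ v, v < 256 → S.rho c (F.e v) = F.e (f v)) :
    Model.condF f = true := by
  have hsurv : ∀ v ∈ Model.survOne, v < 256 := by decide
  simp only [Model.condF, Bool.and_eq_true, beq_iff_eq, List.all_eq_true, List.contains_iff_mem,
    Bool.or_eq_true]
  refine ⟨⟨?_, fun v hv => ?_⟩, fun v hv => ?_⟩
  · refine F.e_inj (hflt 1 (by norm_num)) (by norm_num) ?_
    rw [← hf 1 (by norm_num), ← h]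
    exact p.fix_t hc
  · obtain ⟨hv1, hv2⟩ := Model.basisOne_perp v hv
    rw [← F.mem_E_one h (Nat.xor_lt_two_pow (n := 8) (hflt v hv1) hv1), F.e_xor, ← hf v hv1]
    exact p.perp_move hc (by rw [h]; exact (F.B_zero_iff hv1 (by norm_num)).mpr hv2)
  · have hv1 := hsurv v hv
    have hlt := Nat.xor_lt_two_pow (n := 8) (hflt v hv1) hv1
    rcases p.E_move hc ((F.mem_E_one h hv1).mpr hv) with e | e
    · left
      refine F.e_inj hlt (by norm_num) ?_
      rw [F.e_xor, ← hf v hv1, e, S.two, F.e_zero]
    · right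
      refine F.e_inj hlt (by norm_num) ?_
      rw [F.e_xor, ← hf v hv1, e, add_comm (F.e v) p.t, add_assoc, S.two, add_zero, h]

end Setting.Frame

end Cfsg.Agent.WidthFour
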