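import Cfsg.Agent.Lib.WidthFour.Pairs

/-!
# The model of the eight-dimensional space with `S₃ × S₆`

A vector is a number `< 256`: four bits for each of the two components in the natural module of
`S₆`, whose basis is given by the pairs `01, 12, 23, 34`. A group element is a pair of an index
`< 6` for an element of `GL₂(2)` and a permutation of six letters.

* `one_image`, `two_image`: the images of the two kinds of singular vectors.
* `classify_one`, `classify_two`: invariant totally singular subspaces admitting enough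
  transvection-like involutions.
-/

set_option autoImplicit false
set_option maxRecDepth 100000

namespace Cfsg.Agent.WidthFour.Model

open Equiv

/-- The code of the pair `0 i`. -/
def base : Fin 6 → Nat := ![0, 1, 3, 7, 15, 10]

/-- The code of a pair. -/
def pairCode (i j : Fin 6) : Nat := base i ^^^ base j

/-- The summand of bit `k`. -/
def bitImg (b : Perm (Fin 6)) (c k : Nat) (i j : Fin 6) : Nat :=
  if c.testBit k then pairCode (b i) (b j) else 0

/-- The action on the natural module. -/
def pU (b : Perm (Fin 6)) (c : Nat) : Nat :=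
  bitImg b c 0 0 1 ^^^ bitImg b c 1 1 2 ^^^ bitImg b c 2 2 3 ^^^ bitImg b c 3 3 4

/-- The images of the two basis vectors under the elements of `GL₂(2)`. -/
def glTab : Fin 6 → Nat × Nat := ![(1, 2), (2, 3), (3, 1), (1, 3), (3, 2), (2, 1)]

/-- The tensor of `w` with the plane vector `m`. -/
def tens (w m : Nat) : Nat :=
  (if m.testBit 0 then w else 0) + (if m.testBit 1 then 16 * w else 0)

/-- The action. -/
def act (t : Fin 6) (b : Perm (Fin 6)) (v : Nat) : Nat :=
  tens (pU b (v % 16)) (glTab t).1 ^^^ tens (pU b (v / 16)) (glTab t).2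

/-- The alternating form on the natural module. -/
def omU (a c : Nat) : Bool :=
  ((a.testBit 0 && c.testBit 1) ^^ (a.testBit 1 && c.testBit 0)) ^^
  ((a.testBit 1 && c.testBit 2) ^^ (a.testBit 2 && c.testBit 1)) ^^
  ((a.testBit 2 && c.testBit 3) ^^ (a.testBit 3 && c.testBit 2))

/-- The quadratic form. -/
def qM (v : Nat) : Bool := omU (v % 16) (v / 16)

/-- `v` is perpendicular to `w`. -/
def perp (v w : Nat) : Bool := (qM (v ^^^ w) ^^ qM v ^^ qM w) == false

/-- The totally singular subspace at the point `1`. -/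
def survOne : List Nat := [0, 1, 4, 5, 8, 9, 12, 13, 16, 17, 20, 21, 24, 25, 28, 29]

/-- The totally singular subspace at the point `20`. -/
def survTwo : List Nat := [0, 1, 4, 5, 16, 17, 20, 21, 64, 65, 68, 69, 80, 81, 84, 85]

/-- Seven vectors perpendicular to `1`. -/
def basisOne : List Nat := [1, 2, 4, 8, 16, 64, 128]

/-- Seven vectors perpendicular to `20`. -/
def basisTwo : List Nat := [1, 4, 8, 16, 34, 64, 130]

theorem basisOne_perp : ∀ v ∈ basisOne, v < 256 ∧ perp v 1 = true := by decide +kernel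
theorem basisTwo_perp : ∀ v ∈ basisTwo, v < 256 ∧ perp v 20 = true := by decide +kernel

/-- The conditions on an involution at a point `t` with subspace `S`. -/
def cond (t : Nat) (basis S : List Nat) (g : Fin 6 × Perm (Fin 6)) : Bool :=
  act g.1 g.2 t == t && basis.all (fun v => S.contains (act g.1 g.2 v ^^^ v)) &&
    S.all (fun v => let d := act g.1 g.2 v ^^^ v; d == 0 || d == t)

/-- The involutions fixing `1`. -/
def invOne : List (Fin 6 × Perm (Fin 6)) :=
  [(0, swap 4 5),
   (0, swap 3 4),
   (0, swap 3 5),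
   (0, swap 2 3),
   (0, swap 2 3 * swap 4 5),
   (0, swap 2 4),
   (0, swap 2 4 * swap 3 5),
   (0, swap 2 5),
   (0, swap 2 5 * swap 3 4),
   (0, swap 0 1),
   (0, swap 0 1 * swap 4 5),
   (0, swap 0 1 * swap 3 4),
   (0, swap 0 1 * swap 3 5),
   (0, swap 0 1 * swap 2 3),
   (0, swap 0 1 * swap 2 3 * swap 4 5),
   (0, swap 0 1 * swap 2 4),
   (0, swap 0 1 * swap 2 4 * swap 3 5),
   (0, swap 0 1 * swap 2 5),
   (0, swap 0 1 * swap 2 5 * swap 3 4),
   (3, 1),
   (3, swap 4 5),
   (3, swap 3 4),
   (3, swap 3 5),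
   (3, swap 2 3),
   (3, swap 2 3 * swap 4 5),
   (3, swap 2 4),
   (3, swap 2 4 * swap 3 5),
   (3, swap 2 5),
   (3, swap 2 5 * swap 3 4),
   (3, swap 0 1),
   (3, swap 0 1 * swap 4 5),
   (3, swap 0 1 * swap 3 4),
   (3, swap 0 1 * swap 3 5),
   (3, swap 0 1 * swap 2 3),
   (3, swap 0 1 * swap 2 3 * swap 4 5),
   (3, swap 0 1 * swap 2 4),
   (3, swap 0 1 * swap 2 4 * swap 3 5),
   (3, swap 0 1 * swap 2 5),
   (3, swap 0 1 * swap 2 5 * swap 3 4)]

/-- The involutions fixing `20`. -/
def invTwo : List (Fin 6 × Perm (Fin 6)) :=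
  [(0, swap 4 5),
   (0, swap 2 3),
   (0, swap 2 3 * swap 4 5),
   (0, swap 0 1),
   (0, swap 0 1 * swap 4 5),
   (0, swap 0 1 * swap 2 3),
   (0, swap 0 1 * swap 2 3 * swap 4 5),
   (3, swap 2 4 * swap 3 5),
   (3, swap 2 5 * swap 3 4),
   (3, swap 0 1 * swap 2 4 * swap 3 5),
   (3, swap 0 1 * swap 2 5 * swap 3 4),
   (5, swap 0 2 * swap 1 3),
   (5, swap 0 2 * swap 1 3 * swap 4 5),
   (5, swap 0 3 * swap 1 2),
   (5, swap 0 3 * swap 1 2 * swap 4 5),
   (4, swap 0 4 * swap 1 5),
   (4, swap 0 4 * swap 1 5 * swap 2 3),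
   (4, swap 0 5 * swap 1 4),
   (4, swap 0 5 * swap 1 4 * swap 2 3)]

/-- The eight basis vectors. -/
def unitVecs : List Nat := [1, 2, 4, 8, 16, 32, 64, 128]

/-- An involution fixing `t`. -/
def isInv (t : Nat) (g : Fin 6 × Perm (Fin 6)) : Bool :=
  act g.1 g.2 t == t && unitVecs.all (fun v => act g.1 g.2 (act g.1 g.2 v) == v) &&
    !unitVecs.all (fun v => act g.1 g.2 v == v)

theorem invOne_complete : ∀ t : Fin 6, ∀ b : Perm (Fin 6), isInv 1 (t, b) = true → (t, b) ∈ invOne := by
  decide +kernel

theorem invTwo_complete : ∀ t : Fin 6, ∀ b : Perm (Fin 6), isInv 20 (t, b) = true → (t, b) ∈ invTwo := by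
  decide +kernel

/-- Generators of the even stabiliser of `1`. -/
def gensOne : List (Fin 6 × Perm (Fin 6)) := [(0, swap 3 4 * swap 4 5), (0, swap 0 1 * swap 2 3)]

/-- Generators of the even stabiliser of `20`. -/
def gensTwo : List (Fin 6 × Perm (Fin 6)) :=
  [(0, swap 2 3 * swap 4 5), (1, swap 0 2 * swap 1 3 * swap 2 4 * swap 3 5)]

theorem gens_even : (∀ g ∈ gensOne, g.1.val < 3 ∧ Perm.sign g.2 = 1 ∧ act g.1 g.2 1 = 1) ∧
    (∀ g ∈ gensTwo, g.1.val < 3 ∧ Perm.sign g.2 = 1 ∧ act g.1 g.2 20 = 20) := by decide +kernel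

/-- The smallest invariant totally singular subspace containing `S` and the vectors `todo`,
or `none`. -/
def clo (gens : List (Fin 6 × Perm (Fin 6))) : Nat → List Nat → List Nat → Option (List Nat)
  | 0, _, S => some S
  | _ + 1, [], S => some S
  | n + 1, v :: todo, S =>
    if S.contains v then clo gens n todo S
    else if 16 ≤ S.dedup.length || S.any (fun s => qM (s ^^^ v)) then none
    else clo gens n (gens.map (fun g => act g.1 g.2 v) ++ todo) (S ++ S.map (fun s => s ^^^ v))

/-- Singular vectors perpendicular to `t`. -/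
def cands (t : Nat) : List Nat := (List.range 256).filter (fun v => !qM v && !qM (v ^^^ t))

/-- At most this many involutions, or the survivor. -/
def okS (t : Nat) (L : List (Fin 6 × Perm (Fin 6))) (basis surv S : List Nat) : Bool :=
  decide (((L.filter (cond t basis S)).length + 1) * S.dedup.length < 128) ||
    (surv.all (fun v => S.contains v) && S.all (fun v => surv.contains v))

/-- The search. -/
def check (t : Nat) (L gens : List (Fin 6 × Perm (Fin 6))) (basis surv : List Nat) :
    Nat → List Nat → Bool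
  | 0, _ => false
  | n + 1, S => okS t L basis surv S && (cands t).all (fun v => S.contains v ||
      match clo gens 64 [v] S with
      | none => true
      | some S' => check t L gens basis surv n S')

theorem check_one : check 1 invOne gensOne basisOne survOne 6 [0, 1] = true := by decide +kernel

theorem check_two : check 20 invTwo gensTwo basisTwo survTwo 6 [0, 20] = true := by decide +kernel

/-- An invariant totally singular subspace containing `t`. -/
structure Valid (t : Nat) (gens : List (Fin 6 × Perm (Fin 6))) (E : Finset Nat) : Prop where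
  lt : ∀ v ∈ E, v < 256
  zero : 0 ∈ E
  mem : t ∈ E
  xor : ∀ a ∈ E, ∀ b ∈ E, a ^^^ b ∈ E
  inv : ∀ g ∈ gens, ∀ v ∈ E, act g.1 g.2 v ∈ E
  sing : ∀ v ∈ E, qM v = false
  card : E.card ≤ 16

theorem clo_sound {t : Nat} {gens : List (Fin 6 × Perm (Fin 6))} {E : Finset Nat}
    (hE : Valid t gens E) : ∀ (n : Nat) (todo S : List Nat), (∀ v ∈ todo, v ∈ E) →
      (∀ v ∈ S, v ∈ E) → ∃ S', clo gens n todo S = some S' ∧ ∀ v ∈ S', v ∈ E := by
  intro n
  induction n with
  | zero => intro todo S _ hS; exact ⟨S, rfl, hS⟩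
  | succ n ih =>
    intro todo S ht hS
    cases todo with
    | nil => exact ⟨S, rfl, hS⟩
    | cons v todo =>
      have hv : v ∈ E := ht v List.mem_cons_self
      have ht' : ∀ w ∈ todo, w ∈ E := fun w hw => ht w (List.mem_cons_of_mem _ hw)
      simp only [clo]
      split_ifs with h1 h2
      · exact ih todo S ht' hS
      · exfalso
        simp only [Bool.or_eq_true, decide_eq_true_eq, List.any_eq_true] at h2
        rcases h2 with h2 | ⟨s, hs, hq⟩
        · have hsub : insert v S.toFinset ⊆ E := by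
            intro w hw
            rcases Finset.mem_insert.mp hw with rfl | hw
            · exact hv
            · exact hS w (List.mem_toFinset.mp hw)
          have h17 := Finset.card_le_card hsub
          rw [Finset.card_insert_of_notMem (by simpa using h1), List.card_toFinset] at h17
          have := hE.card
          omega
        · rw [hE.sing _ (hE.xor s (hS s hs) v hv)] at hq
          exact absurd hq (by decide)
      · refine ih _ _ ?_ ?_
        · intro w hw
          rcases List.mem_append.mp hw with hw | hw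
          · obtain ⟨g, hg, rfl⟩ := List.mem_map.mp hw
            exact hE.inv g hg v hv
          · exact ht' w hw
        · intro w hw
          rcases List.mem_append.mp hw with hw | hw
          · exact hS w hw
          · obtain ⟨s, hs, rfl⟩ := List.mem_map.mp hw
            exact hE.xor s (hS s hs) v hv

theorem check_sound {t : Nat} {L gens : List (Fin 6 × Perm (Fin 6))} {basis surv : List Nat}
    {E : Finset Nat} (hE : Valid t gens E) : ∀ (n : Nat) (S : List Nat),
      check t L gens basis surv n S = true → (∀ v ∈ S, v ∈ E) →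
      ∃ S' : List Nat, S'.toFinset = E ∧ okS t L basis surv S' = true := by
  intro n
  induction n with
  | zero => intro S h; exact absurd h (by simp [check])
  | succ n ih =>
    intro S h hS
    simp only [check, Bool.and_eq_true, List.all_eq_true] at h
    by_cases hall : ∀ v ∈ E, v ∈ S
    · exact ⟨S, Finset.ext fun v => ⟨fun hv => hS v (List.mem_toFinset.mp hv),
        fun hv => List.mem_toFinset.mpr (hall v hv)⟩, h.1⟩
    · push Not at hall
      obtain ⟨v, hvE, hvS⟩ := hall
      have hvc : v ∈ cands t := List.mem_filter.mpr ⟨List.mem_range.mpr (hE.lt v hvE), by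
        rw [hE.sing v hvE, hE.sing _ (hE.xor v hvE t hE.mem)]; rfl⟩
      have h2 := h.2 v hvc
      obtain ⟨S', e, hS'⟩ := clo_sound hE 64 [v] S (by simpa using hvE) hS
      rw [e, Bool.or_eq_true] at h2
      rcases h2 with h2 | h2
      · exact absurd (by simpa using h2) hvS
      · exact ih S' h2 hS'

theorem classify {t : Nat} {L gens : List (Fin 6 × Perm (Fin 6))} {basis surv : List Nat}
    {E : Finset Nat} {n : Nat} (hc : check t L gens basis surv n [0, t] = true)
    (hE : Valid t gens E) (K : Finset (Fin 6 × Perm (Fin 6)))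
    (hK : ∀ g ∈ K, g ∈ L ∧ act g.1 g.2 t = t ∧ (∀ v ∈ basis, act g.1 g.2 v ^^^ v ∈ E) ∧
      ∀ v ∈ E, act g.1 g.2 v ^^^ v = 0 ∨ act g.1 g.2 v ^^^ v = t)
    (hbig : 128 ≤ (K.card + 1) * E.card) : E = surv.toFinset := by
  obtain ⟨S, hS, hok⟩ := check_sound hE n [0, t] hc (by simp [hE.zero, hE.mem])
  have hm : ∀ v, v ∈ S ↔ v ∈ E := fun v => by rw [← hS, List.mem_toFinset]
  simp only [okS, Bool.or_eq_true, decide_eq_true_eq, Bool.and_eq_true, List.all_eq_true,
    List.contains_iff_mem] at hok
  rcases hok with hlt | ⟨h1, h2⟩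
  · exfalso
    have hsub : K ⊆ (L.filter (cond t basis S)).toFinset := by
      intro g hg
      obtain ⟨k1, k2, k3, k4⟩ := hK g hg
      rw [List.mem_toFinset, List.mem_filter]
      refine ⟨k1, ?_⟩
      simp only [cond, Bool.and_eq_true, Bool.or_eq_true, List.all_eq_true, beq_iff_eq,
        List.contains_iff_mem, hm]
      exact ⟨⟨k2, k3⟩, k4⟩
    have hle := (Finset.card_le_card hsub).trans (List.toFinset_card_le _)
    have hE' : E.card = S.dedup.length := by rw [← hS, List.card_toFinset]
    rw [hE'] at hbig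
    have := Nat.mul_le_mul_right S.dedup.length (Nat.succ_le_succ hle)
    simp only [Nat.succ_eq_add_one] at this
    omega
  · exact Finset.ext fun v =>
      ⟨fun hv => List.mem_toFinset.mpr (h2 v ((hm v).mpr hv)),
        fun hv => (hm v).mp (h1 v (List.mem_toFinset.mp hv))⟩

/-- Every singular nonzero vector is an image of `1` or of `20` under an even element. -/
theorem singular_cases : ∀ v : Fin 256, v.val ≠ 0 → qM v = false →
    (∃ i : Fin 3, ∃ b : A6, act (i.castLE (by decide)) b 1 = v) ∨
      (∃ b : A6, act 0 b 20 = v) := by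
  decide +kernel

/-- Permutations taking `1` to some points. -/
theorem point_images : act 0 (swap 0 1 * swap 1 2) 1 = 2 ∧ act 0 (swap 0 2 * swap 1 3) 1 = 4 ∧
    act 0 (swap 0 4 * swap 1 5 * swap 2 4 * swap 3 5) 1 = 5 ∧
    act 0 (swap 0 3 * swap 1 4 * swap 2 3 * swap 3 4) 1 = 8 ∧
    act 0 (swap 0 3 * swap 1 5 * swap 2 3 * swap 3 5) 1 = 13 := by decide +kernel

/-- The subspace of the point `4` omits `20`. -/
theorem two_witness : 4 ∈ survTwo ∧
    20 ∉ survOne.map (act 0 (swap 0 2 * swap 1 3)) ∧ 21 ∈ survTwo ∧ 21 ^^^ 20 = 1 := by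
  decide +kernel

/-- The vectors used at the point `1`. -/
theorem one_witness : perp 1 2 = true ∧ 2 ∉ survOne ∧
    (∀ p ∈ [5, 8, 13], p ∈ survOne ∧ p ∈ survOne.map (act 0 (swap 0 1 * swap 1 2))) ∧
    5 ^^^ 8 = 13 := by decide +kernel

/-- The rank-one planes. -/
theorem plane_unique : ∀ a ∈ survOne, ∀ c ∈ survOne,
    ([1, a, c, a ^^^ c, 1 ^^^ a, 1 ^^^ c, 1 ^^^ a ^^^ c].dedup.length = 7 ∧
    [1, a, c, a ^^^ c, 1 ^^^ a, 1 ^^^ c, 1 ^^^ a ^^^ c].all (fun v => v != 0 &&
      (v % 16 == 0 || v / 16 == 0 || v % 16 == v / 16))) →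
    4 ∈ [1, a, c, a ^^^ c, 1 ^^^ a, 1 ^^^ c, 1 ^^^ a ^^^ c] ∧
      8 ∈ [1, a, c, a ^^^ c, 1 ^^^ a, 1 ^^^ c, 1 ^^^ a ^^^ c] := by decide +kernel

/-- The images of `20` are not of rank one. -/
theorem two_not_rankOne : ∀ b : A6, let v := act 0 b 20
    ¬ (v % 16 = 0 ∨ v / 16 = 0 ∨ v % 16 = v / 16) := by decide +kernel

/-- The common involutions of the points `1, 4, 8`. -/
theorem common_inv : ∀ t : Fin 6, ∀ b : Perm (Fin 6),
    cond 1 basisOne survOne (t, b) = true →
    cond 1 basisOne survOne (t, (swap 0 2 * swap 1 3)⁻¹ * b * (swap 0 2 * swap 1 3)) = true →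
    cond 1 basisOne survOne (t, (swap 0 3 * swap 1 4 * swap 2 3 * swap 3 4)⁻¹ * b *
      (swap 0 3 * swap 1 4 * swap 2 3 * swap 3 4)) = true →
    b = 1 ∧ (t = 0 ∨ t = 3) := by decide +kernel

/-- The vectors fixed by the stabiliser of the pair `4 5`. -/
theorem stab_fix : ∀ c : Fin 16, pU kOne c = c → pU kTwo c = c → pU cA c = c → pU tPair c = c →
    c.val = 0 ∨ c.val = pairCode 4 5 := by decide +kernel

/-- The action on the natural module is faithful. -/
theorem pU_faithful : ∀ b : Perm (Fin 6),
    pU b 1 = 1 → pU b 2 = 2 → pU b 4 = 4 → pU b 8 = 8 → b = 1 := by decide +kernel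

end Cfsg.Agent.WidthFour.Model
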