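import Cfsg.Agent.Lib.WidthFour.Cases
import Cfsg.Agent.Lib.WidthFour.Model

/-!
# Coordinates on `Q / ⟨z⟩`

* `Setting.relabel`: the setting with the six letters relabelled by the outer automorphism.
* `Setting.Frame`: the element of order three is fixed-point-free and the pairs are given.
* `Frame.e`: the coordinates; `Frame.coord`: every element acts as a model element.
-/

set_option autoImplicit false
set_option maxRecDepth 100000

namespace Cfsg.Agent.WidthFour

open Subgroup Equiv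

theorem moves_faithful : ∀ g : Perm (Fin 6), (∀ i, Outer.Moves g i i) → g = 1 := by decide +kernel

theorem phi_injective : Function.Injective Outer.phi := by
  intro a b h
  refine inv_mul_eq_one.mp ((moves_faithful (a⁻¹ * b) fun i => ?_)) |>.trans rfl
  have h1 : Outer.phi (a⁻¹ * b) = 1 := by rw [map_mul, map_inv, h, inv_mul_cancel]
  have h2 : Outer.img (a⁻¹ * b) i = i := Equiv.congr_fun h1 i
  obtain ⟨j, hj⟩ := Outer.moves_exists (a⁻¹ * b) i
  have := (Outer.img_eq hj).symm.trans h2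
  rwa [this] at hj

theorem pU_transitive : ∀ c : Fin 16, c.val ≠ 0 → ∃ g : A6, Model.pU g c = 5 := by decide +kernel

theorem pU_lt : ∀ a b : Fin 6, Model.pairCode a b < 16 := by decide +kernel

theorem pU_lt' (b : Perm (Fin 6)) (c : Nat) : Model.pU b c < 16 := by
  have h : ∀ k i j, Model.bitImg b c k i j < 2 ^ 4 := fun k i j => by
    unfold Model.bitImg; split
    exacts [pU_lt _ _, by norm_num]
  exact Nat.xor_lt_two_pow (Nat.xor_lt_two_pow (Nat.xor_lt_two_pow (h _ _ _) (h _ _ _)) (h _ _ _))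
    (h _ _ _)

theorem bit_decomp : ∀ a : Fin 16, a.val = (if a.val.testBit 0 then 1 else 0) ^^^
    ((if a.val.testBit 1 then 2 else 0) ^^^ ((if a.val.testBit 2 then 4 else 0) ^^^
      (if a.val.testBit 3 then 8 else 0))) := by decide +kernel

theorem tens_parts : ∀ w : Fin 16, ∀ m : Fin 4, Model.tens w m < 256 ∧
    Model.tens w m % 16 = (if m.val.testBit 0 then w.val else 0) ∧
    Model.tens w m / 16 = (if m.val.testBit 1 then w.val else 0) := by decide +kernel

theorem six_xor : ∀ p q r s t u p' q' r' s' t' u' : Bool,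
    (((p ^^ p') ^^ (q ^^ q')) ^^ ((r ^^ r') ^^ (s ^^ s')) ^^ ((t ^^ t') ^^ (u ^^ u'))) =
      (((p ^^ q) ^^ (r ^^ s) ^^ (t ^^ u)) ^^ ((p' ^^ q') ^^ (r' ^^ s') ^^ (t' ^^ u'))) := by
  decide +kernel

theorem omU_xor (a b c : Nat) :
    Model.omU (a ^^^ b) c = (Model.omU a c ^^ Model.omU b c) ∧
      Model.omU c (a ^^^ b) = (Model.omU c a ^^ Model.omU c b) := by
  simp only [Model.omU, Nat.testBit_xor, Bool.and_xor_distrib_left, Bool.and_xor_distrib_right]
  exact ⟨six_xor _ _ _ _ _ _ _ _ _ _ _ _, six_xor _ _ _ _ _ _ _ _ _ _ _ _⟩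

/-- A truth value in `F₂`. -/
def bz (b : Bool) : ZMod 2 := if b then 1 else 0

theorem bz_xor : ∀ a b : Bool, bz (a ^^ b) = bz a + bz b := by decide

/-- Maps additive for the exclusive or agree if they agree on the unit vectors. -/
theorem ext_bits {A : Type*} [AddCommGroup A] {f h : Nat → A}
    (hf : ∀ a b, f (a ^^^ b) = f a + f b) (hh : ∀ a b, h (a ^^^ b) = h a + h b)
    (h1 : f 1 = h 1) (h2 : f 2 = h 2) (h4 : f 4 = h 4) (h8 : f 8 = h 8) {a : Nat} (ha : a < 16) :
    f a = h a := by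
  have f0 : f 0 = 0 := by have := hf 0 0; rwa [Nat.xor_self, left_eq_add] at this
  have g0 : h 0 = 0 := by have := hh 0 0; rwa [Nat.xor_self, left_eq_add] at this
  rw [show a = _ from bit_decomp ⟨a, ha⟩]
  simp only [hf, hh, apply_ite f, apply_ite h, f0, g0, h1, h2, h4, h8]

namespace Setting

variable {G : Type*} [Group G]

/-- The setting with relabelled letters. -/
noncomputable def relabel (S : Setting G) : Setting G where
  z := S.z
  Q := S.Q
  hub := S.hub
  le := S.le
  card := S.card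
  pr := (MonoidHom.prodMap (MonoidHom.id (Perm (Fin 3)))
    (MulEquiv.ofBijective Outer.phi
      (Finite.injective_iff_bijective.mp phi_injective)).symm.toMonoidHom).comp S.pr
  ker c := by
    rw [← S.ker]
    simp [Prod.ext_iff, MonoidHom.prodMap]
  alt a b ha hb := by
    obtain ⟨c, hc⟩ := S.alt a (Outer.phi b) ha (Outer.sign_phi ⟨b, Perm.mem_alternatingGroup.2 hb⟩)
    refine ⟨c, ?_⟩
    rw [MonoidHom.comp_apply, hc]
    exact Prod.ext rfl ((MulEquiv.ofBijective Outer.phi
      (Finite.injective_iff_bijective.mp phi_injective)).symm_apply_apply b)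
  odd := S.odd

theorem relabel_act (S : Setting G) (g : A6) (v : S.V) :
    S.relabel.alpha.act g v = S.alpha.act (Outer.phiA g) v := by
  show S.rho (S.relabel.liftA g) v = S.rho _ v
  refine S.rho_congr ?_ v
  have h : _ = ((1 : Perm (Fin 3)), (g : Perm (Fin 6))) := S.relabel.pr_liftA g
  rw [S.pr_liftA]
  have h1 := congrArg Prod.fst h
  have h2 := congrArg Prod.snd h
  simp only [relabel, MonoidHom.comp_apply] at h1 h2
  refine Prod.ext h1 ?_
  have h3 : (MulEquiv.ofBijective Outer.phi (Finite.injective_iff_bijective.mp phi_injective)).symm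
      (S.pr (S.relabel.liftA g)).2 = (g : Perm (Fin 6)) := h2
  rw [MulEquiv.symm_apply_eq] at h3
  exact h3

theorem relabel_split (S : Setting G) (h : S.alpha.twist.Split) : S.relabel.alpha.Split := by
  constructor
  · intro x h1 h2
    exact h.no_P x ((S.relabel_act cA x).symm.trans h1) ((S.relabel_act cB x).symm.trans h2)
  · intro x h1
    refine h.no_AB x ?_
    exact (((S.relabel_act cA _).trans
      (congrArg (S.alpha.act (Outer.phiA cA)) (S.relabel_act cB x))).symm).trans h1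
  · intro x h1
    refine h.no_AB' x ?_
    exact (((S.relabel_act cA _).trans (congrArg (S.alpha.act (Outer.phiA cA))
      ((S.relabel_act cB _).trans
        (congrArg (S.alpha.act (Outer.phiA cB)) (S.relabel_act cB x))))).symm).trans h1

/-- The data for coordinates. -/
structure Frame (S : Setting G) where
  fpf : ∀ v, S.sig v = v → v = 0
  pairs : Pairs S.alpha

namespace Frame

variable {S : Setting G} (F : S.Frame)

include F in
theorem sig_sq (v : S.V) : S.sig (S.sig v) = v + S.sig v := by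
  have h0 : avgThree S.sig v = 0 := F.fpf _ (S.mem_C.mp (S.avg_mem_C v))
  rw [avgThree_apply] at h0
  exact ((eq_neg_of_add_eq_zero_left h0).trans (S.form.neg_eq _)).symm

/-- A basis vector. -/
def w (c k : Nat) (i j : Fin 6) : S.V := if c.testBit k then F.pairs.v i j else 0

/-- The coordinates on the natural module. -/
def eU (c : Nat) : S.V := F.w c 0 0 1 + F.w c 1 1 2 + F.w c 2 2 3 + F.w c 3 3 4

theorem w_xor (a b k : Nat) (i j : Fin 6) : F.w (a ^^^ b) k i j = F.w a k i j + F.w b k i j := by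
  unfold w
  rw [Nat.testBit_xor]
  cases a.testBit k <;> cases b.testBit k <;> simp [S.two]

theorem eU_xor (a b : Nat) : F.eU (a ^^^ b) = F.eU a + F.eU b := by
  simp only [eU, w_xor]; abel

theorem eU_zero : F.eU 0 = 0 := by simp [eU, w]

theorem v_symm (i j : Fin 6) : F.pairs.v i j = F.pairs.v j i := by
  have := F.pairs.cocycle i j i
  rw [F.pairs.diag] at this
  exact (eq_neg_of_add_eq_zero_left this).trans (S.form.neg_eq _)

theorem eU_base (i : Fin 6) : F.eU (Model.base i) = F.pairs.v 0 i := by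
  have h45 : F.pairs.v 4 5 = F.pairs.v 0 1 + F.pairs.v 2 3 :=
    ((eq_neg_of_add_eq_zero_left F.pairs.total).trans (S.form.neg_eq _)).symm
  fin_cases i
  · simp [eU, w, Model.base, F.pairs.diag]
  · simp [eU, w, Model.base, Nat.testBit, Nat.shiftRight_eq_div_pow]
  · simp [eU, w, Model.base, Nat.testBit, Nat.shiftRight_eq_div_pow, F.pairs.cocycle]
  · simp [eU, w, Model.base, Nat.testBit, Nat.shiftRight_eq_div_pow, F.pairs.cocycle]
  · simp [eU, w, Model.base, Nat.testBit, Nat.shiftRight_eq_div_pow, F.pairs.cocycle]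
  · have e : F.pairs.v 0 5 = F.pairs.v 0 1 + F.pairs.v 1 2 + F.pairs.v 2 3 + F.pairs.v 3 4 +
        (F.pairs.v 0 1 + F.pairs.v 2 3) := by
      rw [← h45, F.pairs.cocycle, F.pairs.cocycle, F.pairs.cocycle, F.pairs.cocycle]
    show F.eU 10 = F.pairs.v 0 5
    rw [e]
    simp [eU, w, Nat.testBit, Nat.shiftRight_eq_div_pow]
    abel_nf
    simp [z2_zsmul S.form, z2_nsmul S.form]

theorem eU_pair (i j : Fin 6) : F.eU (Model.pairCode i j) = F.pairs.v i j := by
  rw [Model.pairCode, F.eU_xor, F.eU_base, F.eU_base, F.v_symm 0 i, F.pairs.cocycle]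

theorem alpha_w (g : A6) (c k : Nat) (i j : Fin 6) :
    S.alpha.act g (F.w c k i j) = F.eU (Model.bitImg (g : Perm (Fin 6)) c k i j) := by
  unfold w Model.bitImg
  split
  · rw [F.pairs.equiv, F.eU_pair]
  · rw [map_zero, F.eU_zero]

theorem alpha_eU (g : A6) (c : Nat) :
    S.alpha.act g (F.eU c) = F.eU (Model.pU (g : Perm (Fin 6)) c) := by
  rw [Model.pU, F.eU_xor, F.eU_xor, F.eU_xor, eU, map_add, map_add, map_add, F.alpha_w, F.alpha_w,
    F.alpha_w, F.alpha_w]

theorem eU_five : F.eU 5 = F.pairs.v 4 5 := by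
  rw [← F.eU_pair, show Model.pairCode 4 5 = 5 by decide]

theorem eU_eq_zero {c : Nat} (hc : c < 16) (h : F.eU c = 0) : c = 0 := by
  by_contra h0
  obtain ⟨g, hg⟩ := pU_transitive ⟨c, hc⟩ h0
  apply F.pairs.ne
  rw [← F.eU_five, ← hg, ← F.alpha_eU, h, map_zero]

theorem eU_inj {a b : Nat} (ha : a < 16) (hb : b < 16) (h : F.eU a = F.eU b) : a = b := by
  have h0 : F.eU (a ^^^ b) = 0 := by rw [F.eU_xor, h, S.two]
  have hz := F.eU_eq_zero (Nat.xor_lt_two_pow (n := 4) ha hb) h0
  calc a = (a ^^^ b) ^^^ b := by rw [Nat.xor_assoc, Nat.xor_self, Nat.xor_zero]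
    _ = b := by rw [hz, Nat.zero_xor]

theorem stab_values : Model.pU kOne 5 = 5 ∧ Model.pU kTwo 5 = 5 ∧ Model.pU cA 5 = 5 ∧
    Model.pU tPair 5 = 5 := by decide +kernel

theorem sig_eU_ne {a b : Nat} (ha : a < 16) (hb : b < 16) (h : F.eU a = S.sig (F.eU b)) :
    a = 0 ∧ b = 0 := by
  suffices hb0 : b = 0 by
    subst hb0
    rw [F.eU_zero, map_zero] at h
    exact ⟨F.eU_eq_zero ha h, rfl⟩
  by_contra hb0
  obtain ⟨g, hg⟩ := pU_transitive ⟨b, hb⟩ hb0
  have h' : F.eU (Model.pU (g : Perm (Fin 6)) a) = S.sig (F.eU 5) := by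
    rw [← F.alpha_eU, h, ← S.sig_comm, F.alpha_eU, show Model.pU (g : Perm (Fin 6)) b = 5 from hg]
  have hlt := pU_lt' (g : Perm (Fin 6)) a
  set a' := Model.pU (g : Perm (Fin 6)) a
  have hfix : ∀ k : A6, Model.pU (k : Perm (Fin 6)) 5 = 5 → Model.pU (k : Perm (Fin 6)) a' = a' := by
    intro k hk
    refine F.eU_inj (pU_lt' _ _) hlt ?_
    rw [← F.alpha_eU, h', ← S.sig_comm, F.alpha_eU, hk]
  obtain ⟨e1, e2, e3, e4⟩ := stab_values
  rcases Model.stab_fix ⟨a', hlt⟩ (hfix _ e1) (hfix _ e2) (hfix _ e3) (hfix _ e4) with e | e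
  · rw [show a' = 0 from e, F.eU_zero] at h'
    refine F.pairs.ne ?_
    rw [← F.eU_five, ← S.sig_three (F.eU 5), ← h', map_zero, map_zero]
  · rw [show a' = 5 from e.trans (by decide)] at h'
    exact F.pairs.ne (by rw [← F.eU_five]; exact F.fpf _ h'.symm)

/-- The coordinates. -/
noncomputable def e (v : Nat) : S.V := F.eU (v % 16) + S.sig (F.eU (v / 16))

theorem e_xor (a b : Nat) : F.e (a ^^^ b) = F.e a + F.e b := by
  have h1 : (a ^^^ b) % 16 = (a % 16) ^^^ (b % 16) := Nat.xor_mod_two_pow (n := 4)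
  have h2 : (a ^^^ b) / 16 = (a / 16) ^^^ (b / 16) := Nat.xor_div_two_pow (n := 4)
  rw [e, h1, h2, F.eU_xor, F.eU_xor, map_add, e, e]
  abel

theorem e_zero : F.e 0 = 0 := by simp [e, F.eU_zero]

theorem e_small {c : Nat} (hc : c < 16) : F.e c = F.eU c := by
  rw [e, Nat.mod_eq_of_lt hc, Nat.div_eq_of_lt hc, F.eU_zero, map_zero, add_zero]

theorem e_inj {a b : Nat} (ha : a < 256) (hb : b < 256) (h : F.e a = F.e b) : a = b := by
  have h0 : F.e (a ^^^ b) = 0 := by rw [F.e_xor, h, S.two]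
  have hlt : a ^^^ b < 256 := Nat.xor_lt_two_pow (n := 8) ha hb
  set c := a ^^^ b with hc
  rw [e] at h0
  obtain ⟨e1, e2⟩ := F.sig_eU_ne (Nat.mod_lt _ (by norm_num)) (by omega)
    ((eq_neg_of_add_eq_zero_left h0).trans (S.form.neg_eq _))
  have hz : c = 0 := by omega
  calc a = (a ^^^ b) ^^^ b := by rw [Nat.xor_assoc, Nat.xor_self, Nat.xor_zero]
    _ = b := by rw [← hc, hz, Nat.zero_xor]

/-- The form on the natural module. -/
noncomputable def om (a b : Nat) : ZMod 2 := S.form.B (F.eU a) (S.sig (F.eU b))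

theorem om_xor_left (a b c : Nat) : F.om (a ^^^ b) c = F.om a c + F.om b c := by
  rw [om, F.eU_xor, S.form.add_left]; rfl

theorem om_xor_right (a b c : Nat) : F.om c (a ^^^ b) = F.om c a + F.om c b := by
  rw [om, F.eU_xor, map_add, S.form.add_right]; rfl

theorem om_move (g : A6) (a b : Nat) :
    F.om (Model.pU (g : Perm (Fin 6)) a) (Model.pU (g : Perm (Fin 6)) b) = F.om a b := by
  rw [om, om, ← F.alpha_eU, ← F.alpha_eU, S.sig_comm, S.form.isom_B (S.alpha_q g)]

variable [Finite G]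

theorem e_surj (x : S.V) : ∃ v, v < 256 ∧ F.e v = x := by
  have hbij : Function.Bijective (fun v : Fin 256 => F.e v) := by
    refine Function.Injective.bijective_of_nat_card_le (fun a b h => Fin.ext (F.e_inj a.2 b.2 h)) ?_
    rw [S.card_V, Nat.card_eq_fintype_card, Fintype.card_fin]
  obtain ⟨v, hv⟩ := hbij.2 x
  exact ⟨v, v.2, hv⟩

theorem q_eU (c : Nat) : S.form.q (F.eU c) = 0 := by
  classical
  let U : AddSubgroup S.V :=
    { carrier := {x | ∃ c, c < 16 ∧ F.eU c = x}
      zero_mem' := ⟨0, by norm_num, F.eU_zero⟩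
      add_mem' := by
        rintro _ _ ⟨a, ha, rfl⟩ ⟨b, hb, rfl⟩
        exact ⟨a ^^^ b, Nat.xor_lt_two_pow (n := 4) ha hb, F.eU_xor a b⟩
      neg_mem' := fun {x} hx => by rwa [S.form.neg_eq] }
  have hU : Nat.card U = 16 := by
    rw [← Nat.card_congr (Equiv.ofBijective (fun c : Fin 16 => (⟨F.eU c, c, c.2, rfl⟩ : U))
      ⟨fun a b h => Fin.ext (F.eU_inj a.2 b.2 (congrArg Subtype.val h)), fun x => by
        obtain ⟨c, hc, e⟩ := x.2
        exact ⟨⟨c, hc⟩, Subtype.ext e⟩⟩), Nat.card_eq_fintype_card, Fintype.card_fin]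
  have hinv : S.alpha.Inv U := by
    rintro g _ ⟨a, ha, rfl⟩
    exact ⟨_, pU_lt' _ _, (F.alpha_eU g a).symm⟩
  obtain ⟨g, hg⟩ : ∃ g : A6, Model.pU g 5 ≠ 5 := by decide +kernel
  have hne : S.alpha.act g (F.eU 5) ≠ F.eU 5 := fun e =>
    hg (F.eU_inj (pU_lt' _ _) (by norm_num) ((F.alpha_eU g 5).symm.trans e))
  refine S.alpha.zero_of_invariant S.form hinv hU ⟨5, by norm_num, rfl⟩ hne
    (fun a x _ => S.alpha_q a x) _ ?_
  rw [eU]
  refine U.add_mem (U.add_mem (U.add_mem ?_ ?_) ?_) ?_ <;>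
    · unfold w; split
      exacts [⟨_, pU_lt _ _, F.eU_pair _ _⟩, U.zero_mem]

theorem B_eU (a b : Nat) : S.form.B (F.eU a) (F.eU b) = 0 := by
  have h := S.form.polar (F.eU a) (F.eU b)
  rw [← F.eU_xor, F.q_eU, F.q_eU, F.q_eU, zero_add, zero_add] at h
  exact h.symm

theorem q_e (v : Nat) : S.form.q (F.e v) = F.om (v % 16) (v / 16) := by
  rw [e, S.form.polar, F.q_eU, S.sig_q, F.q_eU, zero_add, zero_add]; rfl

theorem om_self (a : Nat) : F.om a a = 0 := by
  have h : S.form.q (S.sig (S.sig (F.eU a))) = 0 := by rw [S.sig_q, S.sig_q, F.q_eU]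
  rw [F.sig_sq, S.form.polar, F.q_eU, S.sig_q, F.q_eU, zero_add, zero_add] at h
  exact h

theorem om_symm (a b : Nat) : F.om a b = F.om b a := by
  have h := F.om_self (a ^^^ b)
  rw [F.om_xor_left, F.om_xor_right, F.om_xor_right, F.om_self, F.om_self, zero_add, add_zero] at h
  linear_combination h - (F.om b a) * (by decide : (1 : ZMod 2) + 1 = 0)

theorem moves_exist :
    (∃ g : A6, Model.pU g 1 = 1 ∧ Model.pU g 8 = 4) ∧ (∃ g : A6, Model.pU g 2 = 1 ∧ Model.pU g 8 = 4) ∧
    (∃ g : A6, Model.pU g 3 = 1 ∧ Model.pU g 8 = 4) ∧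
    (∃ g : A6, Model.pU g 2 = 1 ∧ Model.pU g 4 = 2) ∧ (∃ g : A6, Model.pU g 4 = 1 ∧ Model.pU g 8 = 2) := by
  decide +kernel

theorem om_eq {a b : Nat} (ha : a < 16) (hb : b < 16) : F.om a b = bz (Model.omU a b) := by
  obtain ⟨⟨g1, p1, p2⟩, ⟨g2, p3, p4⟩, ⟨g3, p5, p6⟩, ⟨g4, p7, p8⟩, ⟨g5, p9, p10⟩⟩ := moves_exist
  have a18 : F.om 1 8 = F.om 1 4 := by rw [← F.om_move g1, p1, p2]
  have a28 : F.om 2 8 = F.om 1 4 := by rw [← F.om_move g2, p3, p4]
  have a38 : F.om 3 8 = F.om 1 4 := by rw [← F.om_move g3, p5, p6]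
  have a24 : F.om 2 4 = F.om 1 2 := by rw [← F.om_move g4, p7, p8]
  have a48 : F.om 4 8 = F.om 1 2 := by rw [← F.om_move g5, p9, p10]
  have c0 : F.om 1 4 = 0 := by
    have h : F.om 3 8 = F.om 1 8 + F.om 2 8 := by rw [← F.om_xor_left]; rfl
    rw [a38, a18, a28, z2_add_self] at h
    exact h
  rw [c0] at a18 a28
  have z0 : ∀ x, F.om x 0 = 0 ∧ F.om 0 x = 0 := fun x => by
    simp [om, F.eU_zero, S.form.zero_left, S.form.zero_right]
  have c1 : F.om 1 2 = 1 := by
    refine (z2_cases _).resolve_left fun hz => ?_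
    have hall : ∀ b, b < 16 → F.om 1 b = 0 := fun b hb =>
      ext_bits (f := F.om 1) (h := fun _ => (0 : ZMod 2)) (fun x y => F.om_xor_right x y 1)
        (fun _ _ => (add_zero (0 : ZMod 2)).symm) (F.om_self 1) hz c0 a18 hb
    have h0 := S.form.nondeg (F.eU 1) fun y => by
      obtain ⟨v, hv, rfl⟩ := F.e_surj y
      rw [e, S.form.add_right, F.B_eU, zero_add]
      exact hall _ (by omega)
    exact absurd (F.eU_eq_zero (by norm_num) h0) (by norm_num)
  rw [c1] at a24 a48
  have key : ∀ x : Nat, (x = 1 ∨ x = 2 ∨ x = 4 ∨ x = 8) → ∀ y, y < 16 → F.om x y = bz (Model.omU x y) := by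
    intro x hx y hy
    refine ext_bits (f := F.om x) (h := fun y => bz (Model.omU x y))
      (fun u v => F.om_xor_right u v x) (fun u v => by rw [(omU_xor u v x).2, bz_xor]) ?_ ?_ ?_ ?_ hy
    all_goals rcases hx with rfl | rfl | rfl | rfl
    · rw [F.om_self]; decide
    · rw [F.om_symm, c1]; decide
    · rw [F.om_symm, c0]; decide
    · rw [F.om_symm, a18]; decide
    · rw [c1]; decide
    · rw [F.om_self]; decide
    · rw [F.om_symm, a24]; decide
    · rw [F.om_symm, a28]; decide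
    · rw [c0]; decide
    · rw [a24]; decide
    · rw [F.om_self]; decide
    · rw [F.om_symm, a48]; decide
    · rw [a18]; decide
    · rw [a28]; decide
    · rw [a48]; decide
    · rw [F.om_self]; decide
  exact ext_bits (f := fun x => F.om x b) (h := fun x => bz (Model.omU x b))
    (fun u v => F.om_xor_left u v b) (fun u v => by rw [(omU_xor u v b).1, bz_xor])
    (key 1 (by tauto) b hb) (key 2 (by tauto) b hb) (key 4 (by tauto) b hb) (key 8 (by tauto) b hb) ha

theorem q_model {v : Nat} (hv : v < 256) : S.form.q (F.e v) = bz (Model.qM v) := by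
  rw [F.q_e, F.om_eq (Nat.mod_lt _ (by norm_num)) (by omega)]; rfl

theorem q_zero_iff {v : Nat} (hv : v < 256) : S.form.q (F.e v) = 0 ↔ Model.qM v = false := by
  rw [F.q_model hv]; cases Model.qM v <;> simp [bz]

theorem B_zero_iff {a b : Nat} (ha : a < 256) (hb : b < 256) :
    S.form.B (F.e a) (F.e b) = 0 ↔ Model.perp a b = true := by
  have h := S.form.polar (F.e a) (F.e b)
  rw [← F.e_xor, F.q_model ha, F.q_model hb, F.q_model (Nat.xor_lt_two_pow (n := 8) ha hb)] at h
  have h' : S.form.B (F.e a) (F.e b) = bz (Model.qM (a ^^^ b) ^^ Model.qM a ^^ Model.qM b) := by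
    rw [bz_xor, bz_xor]
    linear_combination -h - (bz (Model.qM a) + bz (Model.qM b)) * (by decide : (1 : ZMod 2) + 1 = 0)
  rw [h', Model.perp]
  cases Model.qM (a ^^^ b) ^^ Model.qM a ^^ Model.qM b <;> simp [bz]

omit [Finite G] in
/-- The action on the plane factor. -/
noncomputable def comb (m : Nat) (u : S.V) : S.V :=
  (if m.testBit 0 then u else 0) + (if m.testBit 1 then S.sig u else 0)

omit [Finite G] in
theorem comb_zero (m : Nat) : comb (S := S) m 0 = 0 := by simp [comb]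

omit [Finite G] in
theorem comb_add (m : Nat) (x y : S.V) : comb m (x + y) = comb m x + comb m y := by
  unfold comb
  split_ifs <;> simp only [map_add, add_zero, zero_add] <;> abel

omit [Finite G] in
theorem e_tens {w m : Nat} (hw : w < 16) (hm : m < 4) : F.e (Model.tens w m) = comb m (F.eU w) := by
  obtain ⟨-, h1, h2⟩ := tens_parts ⟨w, hw⟩ ⟨m, hm⟩
  simp only at h1 h2
  rw [e, h1, h2, comb]
  congr 1
  · split_ifs <;> simp [F.eU_zero]
  · split_ifs <;> simp [F.eU_zero]

omit [Finite G] in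
/-- An element with known images of both halves acts as a model element. -/
theorem act_of (c : S.H) (t : Fin 6) (b : Perm (Fin 6))
    (h1 : ∀ a, a < 16 → S.rho c (F.eU a) = comb (Model.glTab t).1 (F.eU (Model.pU b a)))
    (h2 : ∀ a, a < 16 → S.rho c (S.sig (F.eU a)) = comb (Model.glTab t).2 (F.eU (Model.pU b a)))
    {v : Nat} (hv : v < 256) : S.rho c (F.e v) = F.e (Model.act t b v) := by
  have ht : ∀ t : Fin 6, (Model.glTab t).1 < 4 ∧ (Model.glTab t).2 < 4 := by decide
  rw [Model.act, F.e_xor, F.e_tens (pU_lt' _ _) (ht t).1, F.e_tens (pU_lt' _ _) (ht t).2,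
    ← h1 _ (Nat.mod_lt _ (by norm_num)), ← h2 _ (by omega), ← map_add]
  rfl

omit [Finite G] in
include F in
theorem comb_sig (u : S.V) : comb 1 (S.sig u) = comb 2 u ∧ comb 2 (S.sig u) = comb 3 u ∧
    comb 3 (S.sig u) = comb 1 u := by
  simp only [comb, Nat.testBit, Nat.shiftRight_eq_div_pow]
  norm_num [F.sig_sq]
  abel_nf
  simp [z2_zsmul S.form, z2_nsmul S.form]

/-- An even element acts as its model. -/
theorem coord_even (i : Fin 3) (g : A6) :
    ∃ c : S.H, ∀ v, v < 256 →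
      S.rho c (F.e v) = F.e (Model.act (i.castLE (by decide)) (g : Perm (Fin 6)) v) := by
  have hg := F.alpha_eU g
  have sigcomb : ∀ a, S.sig (F.eU a) = comb 2 (F.eU a) := fun a => by
    simp [comb, Nat.testBit, Nat.shiftRight_eq_div_pow]
  have one : ∀ u : S.V, comb 1 u = u := fun u => by
    simp [comb, Nat.testBit, Nat.shiftRight_eq_div_pow]
  have three : ∀ u : S.V, comb 3 u = u + S.sig u := fun u => by
    simp [comb, Nat.testBit, Nat.shiftRight_eq_div_pow]
  fin_cases i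
  · refine ⟨S.liftA g, fun v hv => F.act_of _ _ _ (fun a _ => ?_) (fun a _ => ?_) hv⟩
    · exact (hg a).trans (one _).symm
    · show S.alpha.act g _ = _
      rw [← S.sig_comm, hg]; exact sigcomb _
  · refine ⟨S.liftS * S.liftA g, fun v hv => F.act_of _ _ _ (fun a _ => ?_) (fun a _ => ?_) hv⟩
    · rw [S.rho_mul]; show S.sig (S.alpha.act g _) = _
      rw [hg]; exact sigcomb _
    · rw [S.rho_mul]; show S.sig (S.alpha.act g _) = _
      rw [← S.sig_comm, hg, F.sig_sq]; exact (three _).symm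
  · refine ⟨S.liftS * (S.liftS * S.liftA g), fun v hv => F.act_of _ _ _ (fun a _ => ?_) (fun a _ => ?_) hv⟩
    · rw [S.rho_mul, S.rho_mul]; show S.sig (S.sig (S.alpha.act g _)) = _
      rw [hg, F.sig_sq]; exact (three _).symm
    · rw [S.rho_mul, S.rho_mul]; show S.sig (S.sig (S.alpha.act g _)) = _
      rw [← S.sig_comm, hg, S.sig_three]; exact (one _).symm

omit [Finite G] in
theorem exists_g0 : ∀ i j : Fin 6, i ≠ j → ∃ g : A6,
    (g : Perm (Fin 6)) 4 = i ∧ (g : Perm (Fin 6)) 5 = j := exists_rep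

/-- Every element acts as a model element with the same permutation of the six letters. -/
theorem coord (c : S.H) :
    ∃ t : Fin 6, ∀ v, v < 256 → S.rho c (F.e v) = F.e (Model.act t (S.pr c).2 v) := by
  set b := (S.pr c).2 with hb
  have conjA : ∀ g : A6, ∃ g' : A6, (g' : Perm (Fin 6)) = b * (g : Perm (Fin 6)) * b⁻¹ :=
    fun g => ⟨⟨b * g * b⁻¹, by
      rw [Perm.mem_alternatingGroup, map_mul, map_mul, Perm.mem_alternatingGroup.mp g.2, map_inv,
        mul_one, mul_inv_cancel]⟩, rfl⟩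
  have hcomm : ∀ g g' : A6, (g' : Perm (Fin 6)) = b * (g : Perm (Fin 6)) * b⁻¹ →
      ∀ x, S.rho c (S.alpha.act g x) = S.alpha.act g' (S.rho c x) := by
    intro g g' hg x
    show S.rho c (S.rho _ x) = S.rho _ (S.rho c x)
    rw [← S.rho_mul, ← S.rho_mul]
    refine S.rho_congr ?_ x
    rw [map_mul, map_mul, S.pr_liftA, S.pr_liftA, hg, hb]
    exact Prod.ext (by simp) (by simp)
  have h45 : b 4 ≠ b 5 := fun e => absurd (b.injective e) (by decide)
  obtain ⟨g0, hg4, hg5⟩ := exists_rep (b 4) (b 5) h45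
  set x := S.alpha.act g0⁻¹ (S.rho c (F.pairs.v 4 5)) with hx
  have hxfix : ∀ k : A6, (k : Perm (Fin 6)) 4 = 4 ∧ (k : Perm (Fin 6)) 5 = 5 ∨
      (k : Perm (Fin 6)) 4 = 5 ∧ (k : Perm (Fin 6)) 5 = 4 → S.alpha.act k x = x := by
    intro k hk
    let k' : A6 := ⟨b⁻¹ * ((g0 * k * g0⁻¹ : A6) : Perm (Fin 6)) * b, by
      rw [Perm.mem_alternatingGroup, map_mul, map_mul,
        Perm.mem_alternatingGroup.mp (g0 * k * g0⁻¹).2, map_inv, mul_one, inv_mul_cancel]⟩
    have hk' : ((g0 * k * g0⁻¹ : A6) : Perm (Fin 6)) = b * (k' : Perm (Fin 6)) * b⁻¹ := by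
      show _ = b * (b⁻¹ * ((g0 * k * g0⁻¹ : A6) : Perm (Fin 6)) * b) * b⁻¹
      group
    have happ : ∀ i : Fin 6, (k' : Perm (Fin 6)) i =
        b.symm ((g0 : Perm (Fin 6)) ((k : Perm (Fin 6)) ((g0 : Perm (Fin 6)).symm (b i)))) := fun i => rfl
    have hv : S.alpha.act k' (F.pairs.v 4 5) = F.pairs.v 4 5 := by
      rw [F.pairs.equiv, happ, happ, ← hg4, ← hg5, Equiv.symm_apply_apply, Equiv.symm_apply_apply]
      rcases hk with h | h <;> rw [h.1, h.2, hg4, hg5, Equiv.symm_apply_apply, Equiv.symm_apply_apply]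
      exact F.v_symm _ _
    have := hcomm k' _ hk' (F.pairs.v 4 5)
    rw [hv] at this
    rw [hx]
    conv_rhs => rw [this, ← S.alpha.mul']
    rw [← S.alpha.mul']
    congr 2
    group
  -- its two components
  obtain ⟨n, hn, hne⟩ := F.e_surj x
  have hparts : ∀ k : A6, S.alpha.act k x = x →
      Model.pU (k : Perm (Fin 6)) (n % 16) = n % 16 ∧ Model.pU (k : Perm (Fin 6)) (n / 16) = n / 16 := by
    intro k hk
    have h : F.eU (Model.pU (k : Perm (Fin 6)) (n % 16) ^^^ (n % 16)) =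
        S.sig (F.eU (Model.pU (k : Perm (Fin 6)) (n / 16) ^^^ (n / 16))) := by
      rw [← hne, e, map_add, F.alpha_eU, ← S.sig_comm, F.alpha_eU] at hk
      have h1 := congrArg (fun y => y + (F.eU (n % 16) + S.sig (F.eU (n / 16)))) hk
      simp only [S.two] at h1
      rw [F.eU_xor, F.eU_xor, map_add]
      rw [add_add_add_comm] at h1
      exact (eq_neg_of_add_eq_zero_left h1).trans (S.form.neg_eq _)
    obtain ⟨e1, e2⟩ := F.sig_eU_ne (Nat.xor_lt_two_pow (n := 4) (pU_lt' _ _) (Nat.mod_lt _ (by norm_num)))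
      (Nat.xor_lt_two_pow (n := 4) (pU_lt' _ _) (by omega)) h
    exact ⟨Nat.xor_eq_zero_iff.mp e1, Nat.xor_eq_zero_iff.mp e2⟩
  have hfixk := fun k hk => hparts k (hxfix k hk)
  have k1 := hfixk kOne (by decide +kernel)
  have k2 := hfixk kTwo (by decide +kernel)
  have k3 := hfixk cA (by decide +kernel)
  have k4 := hfixk tPair (by decide +kernel)
  have p45 : Model.pairCode 4 5 = 5 := by decide
  have hlo := Model.stab_fix ⟨n % 16, Nat.mod_lt _ (by norm_num)⟩ k1.1 k2.1 k3.1 k4.1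
  have hhi := Model.stab_fix ⟨n / 16, by omega⟩ k1.2 k2.2 k3.2 k4.2
  rw [p45] at hlo hhi
  simp only at hlo hhi
  -- the plane vector
  obtain ⟨m, hm1, hm4, hxm⟩ : ∃ m, 1 ≤ m ∧ m < 4 ∧ x = comb m (F.pairs.v 4 5) := by
    have hx0 : x ≠ 0 := fun h0 => F.pairs.ne (by
      have h1 : S.rho c (F.pairs.v 4 5) = 0 :=
        S.alpha.act_injective g0⁻¹ ((hx ▸ h0).trans (map_zero _).symm)
      have := congrArg (S.rho c⁻¹) h1
      rwa [← S.rho_mul, inv_mul_cancel, S.rho_one, map_zero] at this)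
    rw [← hne] at hx0 ⊢
    rw [e] at hx0 ⊢
    rcases hlo with h1 | h1 <;> rcases hhi with h2 | h2 <;>
      rw [h1, h2] at hx0 ⊢ <;> simp only [F.eU_zero, F.eU_five] at hx0 ⊢
    · exact absurd (by rw [map_zero, add_zero]) hx0
    · exact ⟨2, by norm_num, by norm_num, by simp [comb, Nat.testBit, Nat.shiftRight_eq_div_pow]⟩
    · exact ⟨1, by norm_num, by norm_num, by simp [comb, Nat.testBit, Nat.shiftRight_eq_div_pow]⟩
    · exact ⟨3, by norm_num, by norm_num, by simp [comb, Nat.testBit, Nat.shiftRight_eq_div_pow]⟩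
  have combA : ∀ (g : A6) (m : Nat) (u : S.V),
      S.alpha.act g (comb m u) = comb m (S.alpha.act g u) := fun g m u => by
    unfold comb
    split_ifs <;> simp [map_add, ← S.sig_comm]
  have himg : ∀ i j : Fin 6, S.rho c (F.pairs.v i j) = comb m (F.pairs.v (b i) (b j)) := by
    intro i j
    by_cases hij : i = j
    · rw [hij, F.pairs.diag, F.pairs.diag, map_zero, comb_zero]
    obtain ⟨g, g4, g5⟩ := exists_rep i j hij
    obtain ⟨g', hg'⟩ := conjA g
    have h0 : S.rho c (F.pairs.v 4 5) = comb m (F.pairs.v (b 4) (b 5)) := by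
      rw [← hg4, ← hg5, ← F.pairs.equiv, ← combA, ← hxm, hx, ← S.alpha.mul', mul_inv_cancel,
        S.alpha.one']
    have h := hcomm g g' hg' (F.pairs.v 4 5)
    rw [F.pairs.equiv, g4, g5, h0, combA, F.pairs.equiv, hg'] at h
    simpa [g4, g5] using h
  have hlow : ∀ a, S.rho c (F.eU a) = comb m (F.eU (Model.pU b a)) := by
    intro a
    have hw : ∀ k i j, S.rho c (F.w a k i j) = comb m (F.eU (Model.bitImg b a k i j)) := by
      intro k i j
      unfold w Model.bitImg
      split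
      · rw [himg, F.eU_pair]
      · rw [map_zero, F.eU_zero, comb_zero]
    rw [Model.pU, F.eU_xor, F.eU_xor, F.eU_xor, comb_add, comb_add, comb_add, eU, map_add, map_add,
      map_add, hw, hw, hw, hw]
  have csig : ∀ (k : Nat) (u : S.V), S.sig (comb k u) = comb k (S.sig u) := fun k u => by
    unfold comb
    split_ifs <;> simp [map_add]
  obtain ⟨s1, s2, s3⟩ : (∀ u : S.V, comb 1 (S.sig u) = comb 2 u) ∧
      (∀ u : S.V, comb 2 (S.sig u) = comb 3 u) ∧ (∀ u : S.V, comb 3 (S.sig u) = comb 1 u) :=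
    ⟨fun u => (F.comb_sig u).1, fun u => (F.comb_sig u).2.1, fun u => (F.comb_sig u).2.2⟩
  have hrel : (∀ u, S.rho c (S.sig u) = S.sig (S.rho c u)) ∨
      (∀ u, S.rho c (S.sig u) = S.sig (S.sig (S.rho c u))) := by
    rcases rot_conj (S.pr c).1 with e | e
    · refine Or.inl fun v => ?_
      show S.rho c (S.rho _ v) = S.rho _ (S.rho c v)
      rw [← S.rho_mul, ← S.rho_mul]
      refine S.rho_congr ?_ v
      rw [map_mul, map_mul, S.pr_liftS]
      exact Prod.ext (mul_inv_eq_iff_eq_mul.mp e) (by simp)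
    · refine Or.inr fun v => ?_
      show S.rho c (S.rho _ v) = S.rho _ (S.rho _ (S.rho c v))
      rw [← S.rho_mul, ← S.rho_mul, ← S.rho_mul]
      refine S.rho_congr ?_ v
      rw [map_mul, map_mul, map_mul, S.pr_liftS]
      exact Prod.ext ((mul_inv_eq_iff_eq_mul.mp e).trans (mul_assoc _ _ _)) (by simp)
  rcases hrel with hr | hr <;> interval_cases m
  · exact ⟨0, fun v hv => F.act_of c 0 b (fun a _ => hlow a) (fun a _ => by
      rw [hr, hlow, csig, s1]; rfl) hv⟩
  · exact ⟨1, fun v hv => F.act_of c 1 b (fun a _ => hlow a) (fun a _ => by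
      rw [hr, hlow, csig, s2]; rfl) hv⟩
  · exact ⟨2, fun v hv => F.act_of c 2 b (fun a _ => hlow a) (fun a _ => by
      rw [hr, hlow, csig, s3]; rfl) hv⟩
  · exact ⟨3, fun v hv => F.act_of c 3 b (fun a _ => hlow a) (fun a _ => by
      rw [hr, hlow, csig, csig, s1, s2]; rfl) hv⟩
  · exact ⟨5, fun v hv => F.act_of c 5 b (fun a _ => hlow a) (fun a _ => by
      rw [hr, hlow, csig, csig, s2, s3]; rfl) hv⟩
  · exact ⟨4, fun v hv => F.act_of c 4 b (fun a _ => hlow a) (fun a _ => by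
      rw [hr, hlow, csig, csig, s3, s1]; rfl) hv⟩

end Frame

end Setting

end Cfsg.Agent.WidthFour
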