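import Cfsg.Agent.Lib.WidthFour.Classify
import Mathlib.GroupTheory.Perm.Cycle.Type

/-!
# No conjugate of `z` induces a transvection of the plane factor

* `Frame.no_transvection`: a conjugate of `z` in the centraliser acting as `(transvection) ⊗ 1`
  with a second common element leads to a contradiction.
-/

set_option autoImplicit false
set_option maxRecDepth 100000

namespace Cfsg.Agent.WidthFour

open Subgroup LargeExtraspecial Equiv

namespace Setting.Frame

variable {G : Type*} [Group G] {S : Setting G} (F : S.Frame)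

/-- The elements of `Q` over the lower half. -/
def InS (a : G) : Prop := a ∈ S.Q ∧ ∃ u, u < 16 ∧ S.bar a = F.e u

theorem inS_mul {a b : G} (ha : F.InS a) (hb : F.InS b) : F.InS (a * b) := by
  obtain ⟨ha, u, hu, eu⟩ := ha
  obtain ⟨hb, w, hw, ew⟩ := hb
  exact ⟨mul_mem ha hb, u ^^^ w, Nat.xor_lt_two_pow (n := 4) hu hw,
    by rw [S.bar_mul ha hb, eu, ew, F.e_xor]⟩

variable [Finite G]

theorem inS_commute {a b : G} (ha : F.InS a) (hb : F.InS b) : Commute a b := by
  obtain ⟨ha, u, hu, eu⟩ := ha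
  obtain ⟨hb, w, hw, ew⟩ := hb
  refine (S.bf_bar_zero ha hb).mp ?_
  show S.form.B _ _ = 0
  rw [eu, ew, F.e_small hu, F.e_small hw]
  exact F.B_eU u w

theorem inS_sq {a : G} (ha : F.InS a) : a * a = 1 := by
  obtain ⟨ha, u, hu, eu⟩ := ha
  refine (S.qf_bar_zero ha).mp ?_
  show S.form.q _ = 0
  rw [eu, F.e_small hu]
  exact F.q_eU u

omit [Finite G] in
/-- A representative over the lower half. -/
noncomputable def low (u : Nat) : G := S.rep (F.e u)

theorem transitive_pU : ∀ u : Fin 16, u.val ≠ 0 → ∃ g : A6, Model.pU g u.val = 5 := pU_transitive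

/-- An additive invariant function on the natural module vanishes. -/
theorem const_nonzero {α : Type*} (f : Nat → α)
    (hinv : ∀ (g : A6) (u : Nat), u < 16 → f (Model.pU (g : Perm (Fin 6)) u) = f u)
    {u : Nat} (hu : u < 16) (h0 : u ≠ 0) : f u = f 5 := by
  obtain ⟨g, hg⟩ := pU_transitive ⟨u, hu⟩ h0
  rw [← hg, hinv g u hu]

/-- No conjugate of `z` acts as a transvection of the plane factor. -/
theorem no_transvection (r : S.H) (k : G) (hk : k * S.z * k⁻¹ = (r : G)) (hrQ : (r : G) ∉ S.Q)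
    (hr2 : (S.pr r).2 = 1)
    (hact : ∀ v, v < 256 → S.rho r (F.e v) = F.e (Model.act 3 1 v))
    {n0 : G} (hn0 : n0 ∈ S.Q) (hn0r : n0 ∈ S.Q.map (MulAut.conj k).toMonoidHom)
    (hn1 : n0 ≠ 1) (hnz : n0 ≠ S.z) : False := by
  classical
  set Qr := S.Q.map (MulAut.conj k).toMonoidHom with hQr
  have hub : Hub Qr (r : G) := hk ▸ S.hub.conj k
  have rz : Commute (r : G) S.z := S.comm_z r
  have rr : (r : G) * r = 1 := hub.sq
  have hzQr : S.z ∉ Qr := by
    intro hz
    have hcard : Nat.card Qr = 512 := by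
      rw [hQr, card_map_of_injective (MulAut.conj k).injective, S.card]
    have e : k⁻¹ * (r : G) * k⁻¹⁻¹ = S.z := by rw [← hk]; group
    have h := hub.self_mem_conj k⁻¹ (by rw [e]; exact hz)
      (by rw [e]; exact fun e' => hrQ (e' ▸ S.hub.mem))
      (hub.exists_noncommuting_pair (by rw [hcard]; norm_num) (by rw [e]; exact hz)
        (by rw [e]; exact S.hub.sq))
    rw [mem_conj_iff, inv_inv, hQr, mem_conj_iff] at h
    apply hrQ
    have : k⁻¹ * (k * (r : G) * k⁻¹) * k = (r : G) := by group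
    rwa [this] at h
  have hfix_code : ∀ {a : G}, a ∈ S.Q → Commute (r : G) a → F.InS a := by
    intro a ha hc
    obtain ⟨v, hv, e⟩ := F.e_surj (S.bar a)
    have h : S.rho r (S.bar a) = S.bar a := by rw [S.rho_bar r ha, hc.eq, mul_inv_cancel_right]
    rw [← e, hact v hv] at h
    exact ⟨ha, v, Model.fixed_small ⟨v, hv⟩ (F.e_inj (act_lt _ _ _) hv h), e.symm⟩
  have hr_low : ∀ a, F.InS a → (r : G) * a * (r : G)⁻¹ = a ∨ (r : G) * a * (r : G)⁻¹ = a * S.z := by
    rintro a ⟨ha, u, hu, e⟩
    refine (S.bar_eq (S.conj_mem r ha) ha).mp ?_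
    rw [← S.rho_bar r ha, e, hact u (by omega), (Model.transvection ⟨u, hu⟩).1]
  -- conjugates of `r` by elements commuting with it modulo `Q`
  have hconj : ∀ h : S.H, S.pr h * S.pr r = S.pr r * S.pr h →
      ∃ q, F.InS q ∧ (h : G) * r * (h : G)⁻¹ = q * r := by
    intro h hcomm
    have hq : ((h * r * h⁻¹ * r⁻¹ : S.H) : G) ∈ S.Q := (S.ker _).mp (by
      rw [map_mul, map_mul, map_mul, map_inv, map_inv, hcomm]; group)
    set q := ((h * r * h⁻¹ * r⁻¹ : S.H) : G) with hqdef
    have hq' : q = (h : G) * r * (h : G)⁻¹ * (r : G)⁻¹ := rfl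
    refine ⟨q, ?_, by rw [hq']; group⟩
    obtain ⟨v, hv, e⟩ := F.e_surj (S.bar q)
    have hqr : q * r * (q * r) = 1 := by
      rw [hq']
      calc _ = (h : G) * ((r : G) * r) * (h : G)⁻¹ := by group
        _ = 1 := by rw [rr]; group
    have hrq : (r : G) * q * (r : G)⁻¹ = q⁻¹ := by
      rw [inv_eq_of_mul_eq_one_right rr]
      exact eq_inv_of_mul_eq_one_right (by rw [← hqr]; group)
    have h' : S.rho r (S.bar q) = S.bar q := by
      rw [S.rho_bar r hq, hrq, S.bar_eq (inv_mem hq) hq]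
      rcases S.hub.sq_cases q hq with e' | e'
      · exact Or.inl (inv_eq_of_mul_eq_one_right e')
      · refine Or.inr (inv_eq_of_mul_eq_one_right ?_)
        rw [← mul_assoc, e', S.hub.sq]
    rw [← e, hact v hv] at h'
    exact ⟨hq, v, Model.fixed_small ⟨v, hv⟩ (F.e_inj (act_lt _ _ _) hv h'), e.symm⟩
  have hlowmem : ∀ u, u < 16 → F.InS (F.low u) := fun u hu =>
    ⟨S.rep_mem _, u, hu, S.bar_rep _⟩
  have hA6 : ∀ g : A6, S.pr (S.liftA g) * S.pr r = S.pr r * S.pr (S.liftA g) := fun g => by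
    rw [S.pr_liftA]
    exact Prod.ext (by simp) (by simp [hr2])
  have hcoord : ∀ (h : S.H) (g : A6), S.pr h = (1, (g : Perm (Fin 6))) → ∀ v, v < 256 →
      S.rho h (F.e v) = F.e (Model.act 0 (g : Perm (Fin 6)) v) := by
    intro h g hh v hv
    rw [S.rho_congr (d := S.liftA g) (hh.trans (S.pr_liftA g).symm)]
    refine F.act_of _ 0 _ (fun a _ => ?_) (fun a _ => ?_) hv
    · exact (F.alpha_eU g a).trans (by simp [comb, Model.glTab, Nat.testBit, Nat.shiftRight_eq_div_pow])
    · show S.alpha.act g _ = _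
      rw [← S.sig_comm, F.alpha_eU]
      simp [comb, Model.glTab, Nat.testBit, Nat.shiftRight_eq_div_pow]
  have hlow_move : ∀ (h : S.H) (g : A6), S.pr h = (1, (g : Perm (Fin 6))) → ∀ u, u < 16 →
      (h : G) * F.low u * (h : G)⁻¹ = F.low (Model.pU (g : Perm (Fin 6)) u) ∨
        (h : G) * F.low u * (h : G)⁻¹ = F.low (Model.pU (g : Perm (Fin 6)) u) * S.z := by
    intro h g hh u hu
    refine (S.bar_eq (S.conj_mem h (S.rep_mem _)) (S.rep_mem _)).mp ?_
    rw [← S.rho_bar h (S.rep_mem _), S.bar_rep, S.bar_rep, hcoord h g hh u (by omega),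
      (Model.low_perm ⟨u, hu⟩ g).2]
  -- `r` centralises the lower half
  have hzlow : ∀ {x : G}, Commute x S.z → ∀ a, Commute x (a * S.z) ↔ Commute x a := by
    intro x hxz a
    refine ⟨fun h => ?_, fun h => h.mul_right hxz⟩
    have := h.mul_right hxz
    rwa [mul_assoc, S.hub.sq, mul_one] at this
  have hlow_xor : ∀ u w, F.low (u ^^^ w) = F.low u * F.low w ∨
      F.low (u ^^^ w) = F.low u * F.low w * S.z := fun u w => by
    refine (S.bar_eq (S.rep_mem _) (mul_mem (S.rep_mem _) (S.rep_mem _))).mp ?_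
    rw [S.bar_mul (S.rep_mem _) (S.rep_mem _), S.bar_rep, S.bar_rep, S.bar_rep,
      F.e_xor]
  let f : Nat → ZMod 2 := fun u => if Commute (r : G) (F.low u) then 0 else 1
  have hfinv : ∀ (g : A6) (u : Nat), u < 16 → f (Model.pU (g : Perm (Fin 6)) u) = f u := by
    intro g u hu
    refine if_congr ?_ rfl rfl
    set h := S.liftA g
    obtain ⟨q, hq, e⟩ := hconj h⁻¹ (by
      have := hA6 g
      rw [map_inv]
      exact (Commute.inv_left this).eq)
    have hiff : Commute (r : G) (F.low (Model.pU (g : Perm (Fin 6)) u)) ↔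
        Commute (r : G) ((h : G) * F.low u * (h : G)⁻¹) := by
      rcases hlow_move h g (S.pr_liftA g) u hu with e' | e' <;> rw [e']
      exact (hzlow rz _).symm
    rw [hiff]
    rw [Subgroup.coe_inv, inv_inv] at e
    have hqc : Commute q (F.low u) := F.inS_commute hq (hlowmem u hu)
    constructor
    · intro hc
      have := hc.map (MulAut.conj (h : G)⁻¹).toMonoidHom
      simp only [MulEquiv.coe_toMonoidHom, MulAut.conj_apply, inv_inv] at this
      rw [e, show (h : G)⁻¹ * ((h : G) * F.low u * (h : G)⁻¹) * (h : G) = F.low u by group] at this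
      simpa using hqc.inv_left.mul_left this
    · intro hc
      have hcq : Commute ((h : G)⁻¹ * r * h) (F.low u) := by rw [e]; exact hqc.mul_left hc
      have := hcq.map (MulAut.conj (h : G)).toMonoidHom
      simp only [MulEquiv.coe_toMonoidHom, MulAut.conj_apply] at this
      rwa [show (h : G) * ((h : G)⁻¹ * r * h) * (h : G)⁻¹ = r by group] at this
  have hfadd : ∀ u w, u < 16 → w < 16 → f (u ^^^ w) = f u + f w := by
    intro u w hu hw
    have hiff : Commute (r : G) (F.low (u ^^^ w)) ↔ Commute (r : G) (F.low u * F.low w) := by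
      rcases hlow_xor u w with e | e <;> rw [e]
      exact hzlow rz _
    simp only [f, hiff]
    by_cases h1 : Commute (r : G) (F.low u) <;> by_cases h2 : Commute (r : G) (F.low w)
    · simp [h1, h2, h1.mul_right h2]
    · have : ¬ Commute (r : G) (F.low u * F.low w) := fun h => h2 (by
        simpa using h1.inv_right.mul_right h)
      simp [h1, h2, this]
    · have : ¬ Commute (r : G) (F.low u * F.low w) := fun h => h1 (by
        simpa using h.mul_right h2.inv_right)
      simp [h1, h2, this]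
    · have : Commute (r : G) (F.low u * F.low w) := by
        have e1 := (hr_low _ (hlowmem u hu)).resolve_left fun e => h1 (mul_inv_eq_iff_eq_mul.mp e)
        have e2 := (hr_low _ (hlowmem w hw)).resolve_left fun e => h2 (mul_inv_eq_iff_eq_mul.mp e)
        refine mul_inv_eq_iff_eq_mul.mp ?_
        calc (r : G) * (F.low u * F.low w) * (r : G)⁻¹
            = (r : G) * F.low u * (r : G)⁻¹ * ((r : G) * F.low w * (r : G)⁻¹) := by group
          _ = F.low u * (S.z * (F.low w * S.z)) := by rw [e1, e2]; group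
          _ = F.low u * F.low w := by
            rw [(S.hub.central _ (S.rep_mem _) : Commute (F.low w) S.z).eq, ← mul_assoc S.z,
              S.hub.sq, one_mul]
      rw [if_pos this, if_neg h1, if_neg h2, z2_add_self]
  have hconst := fun u (hu : u < 16) (h0 : u ≠ 0) => const_nonzero f hfinv hu h0
  have hf5 : f 5 = 0 := by
    have h := hfadd 1 2 (by norm_num) (by norm_num)
    rw [show (1 : Nat) ^^^ 2 = 3 from rfl, hconst 3 (by norm_num) (by norm_num),
      hconst 1 (by norm_num) (by norm_num), hconst 2 (by norm_num) (by norm_num), z2_add_self] at h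
    exact h
  have hf0 : ∀ u, u < 16 → Commute (r : G) (F.low u) := by
    intro u hu
    by_contra hc
    by_cases h0 : u = 0
    · subst h0
      apply hc
      have h := S.rep_bar (one_mem S.Q)
      rw [S.bar_one, one_mul, ← F.e_zero] at h
      rcases h with e | e <;> rw [low, e]
      exacts [Commute.one_right _, rz]
    · have h := hconst u hu h0
      rw [hf5] at h
      simp [f, hc] at h
  have hrS : ∀ a, F.InS a → Commute (r : G) a := by
    rintro a ⟨ha, u, hu, e⟩
    have hlow : F.low u = a ∨ F.low u = a * S.z := by rw [low, ← e]; exact S.rep_bar ha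
    have h := hf0 u hu
    rcases hlow with e' | e' <;> rw [e'] at h
    exacts [h, (hzlow rz a).mp h]
  -- upper half representatives
  let up : Nat → G := fun u => S.rep (F.e (16 * u))
  let cc : G → G := fun q => q * r * q⁻¹ * (r : G)⁻¹
  have hcc : ∀ u, u < 16 → cc (up u) ∈ S.Q ∧ S.bar (cc (up u)) = F.e u := by
    intro u hu
    have hQ : up u ∈ S.Q := S.rep_mem _
    have hinv : (r : G) * (up u)⁻¹ * (r : G)⁻¹ ∈ S.Q := S.conj_mem r (inv_mem hQ)
    have e : cc (up u) = up u * ((r : G) * (up u)⁻¹ * (r : G)⁻¹) := by simp only [cc]; group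
    rw [e]
    refine ⟨mul_mem hQ hinv, ?_⟩
    have hneg : S.bar (up u)⁻¹ = S.bar (up u) := by
      rw [S.bar_eq (inv_mem hQ) hQ]
      rcases S.hub.sq_cases _ hQ with e' | e'
      · exact Or.inl (inv_eq_of_mul_eq_one_right e')
      · exact Or.inr (inv_eq_of_mul_eq_one_right (by rw [← mul_assoc, e', S.hub.sq]))
    rw [S.bar_mul hQ hinv, ← S.rho_bar r (inv_mem hQ), hneg, show S.bar (up u) = F.e (16 * u) from
      S.bar_rep _, hact _ (by omega), ← F.e_xor, (Model.transvection ⟨u, hu⟩).2.1]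
  have hccS : ∀ u, u < 16 → F.InS (cc (up u)) := fun u hu => ⟨(hcc u hu).1, u, hu, (hcc u hu).2⟩
  -- the centraliser of `r` covers `A₆`
  have hnear : ∀ g : A6, ∃ h : S.H, S.pr h = (1, (g : Perm (Fin 6))) ∧
      ((h : G) * r * (h : G)⁻¹ = r ∨ (h : G) * r * (h : G)⁻¹ = r * S.z) := by
    intro g
    obtain ⟨q, ⟨hq, u, hu, eu⟩, e⟩ := hconj (S.liftA g) (hA6 g)
    let v : S.H := ⟨up u, S.le (S.rep_mem _)⟩
    refine ⟨v⁻¹ * S.liftA g, ?_, ?_⟩
    · rw [map_mul, map_inv, (S.ker v).mpr (S.rep_mem _), inv_one, one_mul, S.pr_liftA]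
    have e2 : ((v⁻¹ * S.liftA g : S.H) : G) * r * ((v⁻¹ * S.liftA g : S.H) : G)⁻¹ =
        (up u)⁻¹ * (q * r) * up u := by
      rw [← e]; simp [v, mul_assoc]
    rw [e2]
    rcases (S.bar_eq hq (hcc u hu).1).mp (eu.trans (hcc u hu).2.symm) with e3 | e3 <;> rw [e3]
    · left; simp only [cc]; group
    · right
      have hzq : Commute S.z (r : G) := rz.symm
      calc (up u)⁻¹ * (cc (up u) * S.z * r) * up u
          = (up u)⁻¹ * (cc (up u) * (r * S.z)) * up u := by rw [mul_assoc (cc (up u)), hzq.eq]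
        _ = r * ((up u)⁻¹ * S.z * up u) := by simp only [cc]; group
        _ = r * S.z := by
          rw [mul_assoc (up u)⁻¹, ← (S.hub.central _ (S.rep_mem _) : Commute (up u) S.z).eq,
            inv_mul_cancel_left]
  let L : Subgroup A6 :=
    { carrier := {g | ∃ h : S.H, S.pr h = (1, (g : Perm (Fin 6))) ∧ Commute (h : G) r}
      one_mem' := ⟨1, by rw [map_one]; rfl, Commute.one_left _⟩
      mul_mem' := by
        rintro a b ⟨h1, e1, c1⟩ ⟨h2, e2, c2⟩
        exact ⟨h1 * h2, by rw [map_mul, e1, e2]; rfl, c1.mul_left c2⟩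
      inv_mem' := by
        rintro a ⟨h1, e1, c1⟩
        exact ⟨h1⁻¹, by rw [map_inv, e1]; exact Prod.ext inv_one rfl, c1.inv_left⟩ }
  have hsqL : ∀ g : A6, g * g ∈ L := by
    intro g
    obtain ⟨h, eh, hcase⟩ := hnear g
    refine ⟨h * h, by rw [map_mul, eh]; rfl, mul_inv_eq_iff_eq_mul.mp ?_⟩
    have e : ((h * h : S.H) : G) * r * ((h * h : S.H) : G)⁻¹ =
        (h : G) * ((h : G) * r * (h : G)⁻¹) * (h : G)⁻¹ := by simp [mul_assoc]
    rw [e]
    rcases hcase with e1 | e1
    · rw [e1, e1]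
    · rw [e1]
      calc (h : G) * ((r : G) * S.z) * (h : G)⁻¹
          = (h : G) * r * (h : G)⁻¹ * ((h : G) * S.z * (h : G)⁻¹) := by group
        _ = r := by rw [e1, S.conj_z h, mul_assoc, S.hub.sq, mul_one]
  have hLtop : ∀ g : A6, g ∈ L := by
    have hle : Subgroup.closure {x : Perm (Fin 6) | x.IsThreeCycle} ≤
        L.map (alternatingGroup (Fin 6)).subtype := by
      rw [Subgroup.closure_le]
      intro x hx
      let xA : A6 := ⟨x, hx.mem_alternatingGroup⟩
      have h3 : x ^ 3 = 1 := by rw [← hx.orderOf]; exact pow_orderOf_eq_one x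
      refine ⟨(xA * xA) * (xA * xA), hsqL _, ?_⟩
      show x * x * (x * x) = x
      calc x * x * (x * x) = x ^ 3 * x := by simp [pow_succ, mul_assoc]
        _ = x := by rw [h3, one_mul]
    rw [Perm.closure_three_cycles_eq_alternating] at hle
    intro g
    obtain ⟨g', hg', e⟩ := hle g.2
    rwa [← Subtype.ext e]
  have hnormQr : ∀ {h : S.H}, Commute (h : G) r → ∀ {a : G}, a ∈ Qr →
      (h : G) * a * (h : G)⁻¹ ∈ Qr := fun hc a ha => hub.normalizes _ hc a ha
  -- over each element of the lower half exactly one element lies in `Q_r`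
  obtain ⟨-, u0, hu0, eu0⟩ := hfix_code hn0 (hub.central _ hn0r).symm
  have hu00 : u0 ≠ 0 := fun e => by
    rw [e, F.e_zero, S.bar_eq_zero hn0] at eu0
    exact eu0.elim hn1 hnz
  let P : Nat → Prop := fun u => ∃ a, a ∈ S.Q ∧ a ∈ Qr ∧ S.bar a = F.e u
  have hPinv : ∀ (g : A6) u, u < 16 → P u → P (Model.pU (g : Perm (Fin 6)) u) := by
    rintro g u hu ⟨a, ha, ha', e⟩
    obtain ⟨h, eh, hc⟩ := hLtop g
    exact ⟨_, S.conj_mem h ha, hnormQr hc ha', by
      rw [← S.rho_bar h ha, e, hcoord h g eh u (by omega), (Model.low_perm ⟨u, hu⟩ g).2]⟩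
  have hPall : ∀ u, u < 16 → P u := by
    intro u hu
    by_cases h0 : u = 0
    · exact ⟨1, one_mem _, one_mem _, by rw [h0, F.e_zero, S.bar_one]⟩
    obtain ⟨g, hg⟩ := pU_transitive ⟨u, hu⟩ h0
    obtain ⟨g', hg'⟩ := pU_transitive ⟨u0, hu0⟩ hu00
    have h5 : P 5 := hg' ▸ hPinv g' u0 hu0 ⟨n0, hn0, hn0r, eu0⟩
    obtain ⟨a, ha, ha', e⟩ := hPinv g⁻¹ 5 (by norm_num) h5
    refine ⟨a, ha, ha', e.trans ?_⟩
    congr 1
    refine F.eU_inj (pU_lt' _ _) hu ?_
    rw [← F.alpha_eU, ← show Model.pU (g : Perm (Fin 6)) u = 5 from hg, ← F.alpha_eU,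
      S.alpha.act_inv_act]
  have hone : ∀ a, F.InS a → (a ∈ Qr ↔ a * S.z ∉ Qr) := by
    rintro a ⟨ha, u, hu, e⟩
    refine ⟨fun h h' => hzQr ((Qr.mul_mem_cancel_left h).mp h'), fun h => ?_⟩
    obtain ⟨b, hb, hb', eb⟩ := hPall u hu
    rcases (S.bar_eq hb ha).mp (eb.trans e.symm) with e' | e' <;> rw [e'] at hb'
    exacts [hb', absurd hb' h]
  -- the function on the upper half
  let eps : Nat → ZMod 2 := fun u => if cc (up u) ∈ Qr then 0 else 1
  have hccz : ∀ q, cc (q * S.z) = cc q := fun q => by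
    simp only [cc]
    calc q * S.z * r * (q * S.z)⁻¹ * (r : G)⁻¹ = q * (S.z * r * S.z⁻¹) * q⁻¹ * (r : G)⁻¹ := by group
      _ = _ := by rw [rz.symm.eq, mul_inv_cancel_right]
  have hepsinv : ∀ (g : A6) (u : Nat), u < 16 → eps (Model.pU (g : Perm (Fin 6)) u) = eps u := by
    intro g u hu
    obtain ⟨h, eh, hc⟩ := hLtop g
    have hb : S.bar ((h : G) * up u * (h : G)⁻¹) = S.bar (up (Model.pU (g : Perm (Fin 6)) u)) := by
      rw [← S.rho_bar h (S.rep_mem _)]
      simp only [up, S.bar_rep]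
      rw [hcoord h g eh _ (by omega), (Model.low_perm ⟨u, hu⟩ g).1]
    have hcceq : cc (up (Model.pU (g : Perm (Fin 6)) u)) = (h : G) * cc (up u) * (h : G)⁻¹ := by
      have e1 : cc ((h : G) * up u * (h : G)⁻¹) = (h : G) * cc (up u) * (h : G)⁻¹ := by
        simp only [cc]
        have hri : (h : G)⁻¹ * r * h = r := by rw [mul_assoc, ← hc.eq, inv_mul_cancel_left]
        calc (h : G) * up u * (h : G)⁻¹ * r * ((h : G) * up u * (h : G)⁻¹)⁻¹ * (r : G)⁻¹
            = (h : G) * (up u * ((h : G)⁻¹ * r * h) * (up u)⁻¹ * ((h : G)⁻¹ * r * h)⁻¹) * (h : G)⁻¹ := by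
              group
          _ = _ := by rw [hri]
      rw [← e1]
      rcases (S.bar_eq (S.rep_mem _) (S.conj_mem h (S.rep_mem _))).mp hb.symm with e2 | e2
      · exact congrArg cc e2
      · exact (congrArg cc e2).trans (hccz _)
    refine if_congr ?_ rfl rfl
    rw [hcceq]
    refine ⟨fun hm => ?_, hnormQr hc⟩
    have := hnormQr (h := h⁻¹) hc.inv_left hm
    simpa [mul_assoc] using this
  have hmulQr : ∀ a b, F.InS a → F.InS b → (a * b ∈ Qr ↔ (a ∈ Qr ↔ b ∈ Qr)) := by
    intro a b ha hb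
    by_cases h1 : a ∈ Qr <;> by_cases h2 : b ∈ Qr
    · simp [h1, h2, mul_mem h1 h2]
    · have : a * b ∉ Qr := fun h => h2 ((Qr.mul_mem_cancel_left h1).mp h)
      simp [h1, h2, this]
    · have : a * b ∉ Qr := fun h => h1 ((Qr.mul_mem_cancel_right h2).mp h)
      simp [h1, h2, this]
    · have hz' : ∀ x, F.InS x → x ∉ Qr → x * S.z ∈ Qr := fun x hx h => by
        by_contra h'
        exact h ((hone x hx).mpr h')
      have hm := mul_mem (hz' a ha h1) (hz' b hb h2)
      rw [mul_assoc a S.z, ← mul_assoc S.z b, ← (S.hub.central b hb.1).eq, mul_assoc b S.z S.z,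
        S.hub.sq, mul_one] at hm
      simp [h1, h2, hm]
  have hepsadd : ∀ u w, u < 16 → w < 16 →
      eps (u ^^^ w) = eps u + eps w + bz (Model.omU w u) := by
    intro u w hu hw
    have hprod : cc (up u * up w) = (up u * cc (up w) * (up u)⁻¹) * cc (up u) := by
      simp only [cc]; group
    have hxor : cc (up (u ^^^ w)) = cc (up u * up w) := by
      have hb : S.bar (up (u ^^^ w)) = S.bar (up u * up w) := by
        rw [S.bar_mul (S.rep_mem _) (S.rep_mem _)]
        simp only [up, S.bar_rep]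
        rw [← F.e_xor]
        congr 1
        have h16 : ∀ x : Nat, 16 * x = x <<< 4 := fun x => by rw [Nat.shiftLeft_eq]; omega
        rw [h16, h16, h16, Nat.shiftLeft_xor_distrib]
      rcases (S.bar_eq (S.rep_mem _) (mul_mem (S.rep_mem _) (S.rep_mem _))).mp hb with e2 | e2
      · exact congrArg cc e2
      · exact (congrArg cc e2).trans (hccz _)
    have hB : S.form.B (S.bar (up u)) (S.bar (cc (up w))) = bz (Model.omU w u) := by
      rw [(hcc w hw).2]
      simp only [up, S.bar_rep]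
      rw [F.e_small hw, show 16 * u = 16 * u + 0 from rfl, e, show (16 * u + 0) % 16 = 0 by omega,
        show (16 * u + 0) / 16 = u by omega, F.eU_zero, zero_add, S.form.symm]
      exact F.om_eq hw hu
    have hiff : cc (up (u ^^^ w)) ∈ Qr ↔
        ((S.form.B (S.bar (up u)) (S.bar (cc (up w))) = 0) ↔ (cc (up w) * cc (up u) ∈ Qr)) := by
      rw [hxor, hprod]
      have hwu := F.inS_mul (hccS w hw) (hccS u hu)
      rcases z2_cases (S.form.B (S.bar (up u)) (S.bar (cc (up w)))) with e | e <;> rw [e]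
      · have h1 : Commute (up u) (cc (up w)) := (S.bf_bar_zero (S.rep_mem _) (hccS w hw).1).mp e
        rw [h1.eq, mul_inv_cancel_right]
        simp
      · have h1 : up u * cc (up w) * (up u)⁻¹ = cc (up w) * S.z :=
          (S.bf_bar_one (S.rep_mem _) (hccS w hw).1).mp e
        rw [h1, mul_assoc, ← (S.hub.central _ (hccS u hu).1).eq, ← mul_assoc]
        have h2 := hone _ hwu
        constructor
        · intro h; simpa using fun h' => (h2.mp h') h
        · intro h
          by_contra h'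
          have := h.mpr (h2.mpr h')
          exact absurd this (by decide)
    simp only [eps]
    rw [← hB]
    rcases z2_cases (S.form.B (S.bar (up u)) (S.bar (cc (up w)))) with eB | eB <;> rw [eB] at hiff ⊢
    · simp only [true_iff, hmulQr _ _ (hccS w hw) (hccS u hu)] at hiff
      by_cases h1 : cc (up u) ∈ Qr <;> by_cases h2 : cc (up w) ∈ Qr <;>
        simp [h1, h2, hiff, z2_add_self]
    · simp only [one_ne_zero, false_iff, hmulQr _ _ (hccS w hw) (hccS u hu)] at hiff
      by_cases h1 : cc (up u) ∈ Qr <;> by_cases h2 : cc (up w) ∈ Qr <;>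
        simp [h1, h2, hiff, z2_add_self]
  have hec := fun u (hu : u < 16) (h0 : u ≠ 0) => const_nonzero eps hepsinv hu h0
  have h12 := hepsadd 1 2 (by norm_num) (by norm_num)
  have h14 := hepsadd 1 4 (by norm_num) (by norm_num)
  rw [show (1 : Nat) ^^^ 2 = 3 from rfl, hec 3 (by norm_num) (by norm_num),
    hec 1 (by norm_num) (by norm_num), hec 2 (by norm_num) (by norm_num),
    show Model.omU 2 1 = true by decide, z2_add_self, zero_add] at h12
  rw [show (1 : Nat) ^^^ 4 = 5 from rfl, hec 1 (by norm_num) (by norm_num),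
    hec 4 (by norm_num) (by norm_num), show Model.omU 4 1 = false by decide, z2_add_self,
    zero_add] at h14
  rw [h14] at h12
  exact absurd h12 (by decide)

end Setting.Frame

end Cfsg.Agent.WidthFour
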