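import Cfsg.Agent.Lib.LargeExtraspecial.SmithMain
import Cfsg.Agent.Lib.WidthFour.Transvection

/-!
# No simple group in the setting of width four

* `Setting.exists_pt`: `z` is conjugate into `Q`.
* `Setting.not_simple`: the setting is impossible in a simple group.
-/

set_option autoImplicit false
set_option maxRecDepth 100000

namespace Cfsg.Agent.WidthFour

open Subgroup LargeExtraspecial Equiv

namespace Setting

variable {G : Type*} [Group G] [Finite G] {S : Setting G}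

/-- Every lift of the vector of a point is a conjugate of `z`. -/
theorem Pt.exists_lift (p : S.Pt) {a : G} (ha : a ∈ S.Q) (h : S.bar a = p.t) :
    ∃ p' : S.Pt, p'.y = a ∧ p'.t = p.t := by
  have key : ∀ q ∈ S.Q, q * p.y * q⁻¹ = a → ∃ p' : S.Pt, p'.y = a ∧ p'.t = p.t := by
    intro q _ e
    have e' : q * p.g * S.z * (q * p.g)⁻¹ = a := by rw [← e, Pt.y]; group
    refine ⟨⟨q * p.g, e'.symm ▸ ha, fun hz => p.t_ne ?_⟩, e', ?_⟩
    · rw [e'] at hz
      rw [← h, hz, S.bar_z]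
    · show S.bar (q * p.g * S.z * (q * p.g)⁻¹) = _
      rw [e', h]
  rcases (S.bar_eq ha p.y_mem).mp h with e | e
  · exact key 1 (one_mem _) (by rw [e]; group)
  · obtain ⟨q, hq, hn⟩ := S.hub.exists_not_commute p.hub'.ne_one p.ne
    refine key q hq ?_
    rw [e]
    exact (S.hub.comm q hq _ p.y_mem).resolve_left
      fun e' => hn (Commute.symm (mul_inv_eq_iff_eq_mul.mp e'))

namespace Frame

variable (F : S.Frame)

omit [Finite G] in
/-- An element of `A₆` acts through its permutation. -/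
theorem coord_alpha (g : A6) {v : Nat} (hv : v < 256) :
    S.alpha.act g (F.e v) = F.e (Model.act 0 (g : Perm (Fin 6)) v) := by
  refine F.act_of (S.liftA g) 0 _ (fun a _ => ?_) (fun a _ => ?_) hv
  · exact (F.alpha_eU g a).trans
      (by simp [comb, Model.glTab, Nat.testBit, Nat.shiftRight_eq_div_pow])
  · show S.alpha.act g _ = _
    rw [← S.sig_comm, F.alpha_eU]
    simp [comb, Model.glTab, Nat.testBit, Nat.shiftRight_eq_div_pow]

theorem t_back (p : S.Pt) {c : S.H} {v w : Nat} (hp : p.t = F.e v)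
    (hc : S.rho c (F.e w) = F.e v) : (p.move c⁻¹).t = F.e w := by
  rw [p.t_move, hp, ← hc, ← S.rho_mul, inv_mul_cancel, S.rho_one]

/-- Every point is an image of the point `1` or of the point `20`. -/
theorem point_cases (p : S.Pt) :
    (∃ i : Fin 3, ∃ b : A6, F.code p.t = Model.act (i.castLE (by decide)) b 1) ∨
      ∃ b : A6, F.code p.t = Model.act 0 b 20 := by
  have hv := F.code_lt p.t
  have h0 : F.code p.t ≠ 0 := fun e => p.t_ne (by rw [← F.e_code p.t, e, F.e_zero])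
  have hq : Model.qM (F.code p.t) = false := (F.q_zero_iff hv).mp (by rw [F.e_code]; exact p.t_sing)
  rcases Model.singular_cases ⟨_, hv⟩ h0 hq with ⟨i, b, e⟩ | ⟨b, e⟩
  exacts [Or.inl ⟨i, b, e.symm⟩, Or.inr ⟨b, e.symm⟩]

theorem no_two (p : S.Pt) : p.t ≠ F.e 20 := by
  intro h2
  obtain ⟨w1, w2, w3, w4⟩ := Model.two_witness
  suffices hex : ∃ p1 : S.Pt, p1.t = F.e 1 by
    obtain ⟨p1, h1⟩ := hex
    let h4 : A6 := ⟨swap 0 2 * swap 1 3, Perm.mem_alternatingGroup.mpr (by decide)⟩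
    have hc : S.rho (S.liftA h4) (F.e 1) = F.e 4 := by
      show S.alpha.act h4 _ = _
      rw [F.coord_alpha h4 (by norm_num)]
      exact congrArg F.e Model.point_images.2.1
    set p4 := p1.move (S.liftA h4) with hp4
    have ht4 : p4.t = F.e 4 := by rw [hp4, p1.t_move, h1, hc]
    have hrev : p.t ∈ p4.E := p.exists_reverse
      (by rw [ht4]; exact (F.mem_E_two h2 (by norm_num)).mpr w1)
      (by
        rw [ht4, h2]
        exact fun e => absurd (F.e_inj (by norm_num) (by norm_num) e) (by norm_num))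
    have hm := p4.mem_E_move (S.liftA h4)⁻¹ hrev
    rw [(p1.congr (show (p4.move (S.liftA h4)⁻¹).t = p1.t by
      rw [h1]; exact F.t_back p4 ht4 hc)).1] at hm
    obtain ⟨w, hw, ew⟩ := F.e_surj (S.rho (S.liftA h4)⁻¹ p.t)
    rw [← ew, F.mem_E_one h1 hw] at hm
    refine w2 (List.mem_map.mpr ⟨w, hm, ?_⟩)
    refine F.e_inj (act_lt _ _ _) (by norm_num) ?_
    rw [← h2, ← show S.alpha.act h4 (F.e w) = F.e (Model.act 0 (swap 0 2 * swap 1 3) w) from
      F.coord_alpha h4 hw]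
    show S.rho (S.liftA h4) (F.e w) = p.t
    rw [ew, ← S.rho_mul, mul_inv_cancel, S.rho_one]
  have hq21 : Model.qM 21 = false := (F.q_zero_iff (by norm_num)).mp
    (p.E_sing _ ((F.mem_E_two h2 (by norm_num)).mpr w3))
  rcases Model.singular_cases ⟨21, by norm_num⟩ (by norm_num) hq21 with ⟨i, b, e⟩ | ⟨b, e⟩
  · exact absurd e (Model.one_image i b).2
  set p21 := p.move (S.liftA b) with hp21
  have ht21 : p21.t = F.e 21 := by
    rw [hp21, p.t_move, h2]
    show S.alpha.act b _ = _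
    rw [F.coord_alpha b (by norm_num)]
    exact congrArg F.e e
  obtain ⟨p1, hp1⟩ := p.exists_sum (p' := p21)
    (by rw [ht21]; exact (F.mem_E_two h2 (by norm_num)).mpr w3)
    (by
      rw [ht21, h2]
      exact fun e => absurd (F.e_inj (by norm_num) (by norm_num) e) (by norm_num))
  exact ⟨p1, by rw [hp1, ht21, h2, ← F.e_xor]; exact congrArg F.e w4⟩

/-- Every point has rank one. -/
theorem point_one (p : S.Pt) :
    ∃ i : Fin 3, ∃ b : A6, F.code p.t = Model.act (i.castLE (by decide)) b 1 := by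
  rcases F.point_cases p with h | ⟨b, e⟩
  · exact h
  exfalso
  refine F.no_two (p.move (S.liftA b)⁻¹) (F.t_back p (F.e_code p.t).symm ?_)
  show S.alpha.act b _ = _
  rw [F.coord_alpha b (by norm_num), e]

theorem exists_at_one (p : S.Pt) : ∃ c : S.H, (p.move c⁻¹).t = F.e 1 := by
  obtain ⟨i, b, e⟩ := F.point_one p
  obtain ⟨c, hc⟩ := F.coord_even i b
  exact ⟨c, F.t_back p (F.e_code p.t).symm (by rw [hc 1 (by norm_num), e])⟩

theorem rankOne_code (p : S.Pt) : Model.rankOne (F.code p.t) = true := by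
  obtain ⟨i, b, e⟩ := F.point_one p
  rw [e]; exact (Model.one_image i b).1

/-- A normalised point. -/
theorem exists_normal (p : S.Pt) : ∃ p' : S.Pt, p'.t = F.e 1 ∧ p'.inv.t = F.e 1 := by
  obtain ⟨c0, h0⟩ := F.exists_at_one p
  set p0 := p.move c0⁻¹
  obtain ⟨c, hc⟩ := F.exists_at_one p0.inv
  have hy : p0.g * (c : G) * S.z * (p0.g * (c : G))⁻¹ = p0.g * S.z * p0.g⁻¹ := by
    calc p0.g * (c : G) * S.z * (p0.g * (c : G))⁻¹ = p0.g * ((c : G) * S.z * (c : G)⁻¹) * p0.g⁻¹ := by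
          group
      _ = _ := by rw [S.conj_z c]
  let p' : S.Pt := ⟨p0.g * (c : G), hy.symm ▸ p0.mem, hy.symm ▸ p0.ne⟩
  refine ⟨p', ?_, ?_⟩
  · rw [← h0]
    exact congrArg S.bar hy
  · rw [← hc]
    show S.bar ((p0.g * (c : G))⁻¹ * S.z * ((p0.g * (c : G))⁻¹)⁻¹) =
      S.bar (((c⁻¹ : S.H) : G) * p0.g⁻¹ * S.z * (((c⁻¹ : S.H) : G) * p0.g⁻¹)⁻¹)
    congr 1
    simp [mul_assoc]

include F in
/-- The setting with coordinates has no conjugate of `z` in `Q`. -/
theorem false_of_pt (p₀ : S.Pt) : False := by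
  obtain ⟨p, hp, hpinv⟩ := F.exists_normal p₀
  obtain ⟨w1, w2, w3, w58⟩ := Model.one_witness
  have moved : ∀ (h : A6) (d : Nat), Model.act 0 (h : Perm (Fin 6)) 1 = d →
      (p.move (S.liftA h)).t = F.e d := fun h d hd => by
    rw [p.t_move, hp]
    show S.alpha.act h _ = _
    rw [F.coord_alpha h (by norm_num), hd]
  obtain ⟨i2, i4, i5, i8, i13⟩ := Model.point_images
  let h2 : A6 := ⟨swap 0 1 * swap 1 2, Perm.mem_alternatingGroup.mpr (by decide)⟩
  set px := p.move (S.liftA h2) with hpx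
  have htx : px.t = F.e 2 := moved h2 2 i2
  set x := px.y with hx
  have hxQ : x ∈ S.Q := px.y_mem
  have hxQ' : x ∉ p.Q' := fun h => w2 ((F.mem_E_one hp (by norm_num)).mp (by
    rw [← htx]; exact ⟨x, hxQ, h, rfl⟩))
  have hxy : Commute x p.y := by
    refine ((S.bf_bar_zero p.y_mem hxQ).mp ?_).symm
    show S.form.B p.t px.t = 0
    rw [hp, htx]
    exact (F.B_zero_iff (by norm_num) (by norm_num)).mpr w1
  set g := p.g with hg
  have hyz : p.y = g * S.z * g⁻¹ := rfl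
  have hcz : g⁻¹ * x * g * S.z = S.z * (g⁻¹ * x * g) := by
    calc g⁻¹ * x * g * S.z = g⁻¹ * (x * p.y) * g := by rw [hyz]; group
      _ = g⁻¹ * (p.y * x) * g := by rw [hxy.eq]
      _ = _ := by rw [hyz]; group
  let c : S.H := ⟨g⁻¹ * x * g, mem_centralizer_singleton_iff.mpr hcz⟩
  have hcQ : (c : G) ∉ S.Q := fun h => hxQ' (LargeExtraspecial.mem_conj_iff.mpr h)
  have hcinv : (c : G) ∈ p.inv.Q' := by
    refine LargeExtraspecial.mem_conj_iff.mpr ?_
    show (g⁻¹)⁻¹ * (g⁻¹ * x * g) * g⁻¹ ∈ S.Q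
    rw [show (g⁻¹)⁻¹ * (g⁻¹ * x * g) * g⁻¹ = x by group]
    exact hxQ
  -- the elements of `Q ∩ Q'` over `0, 5, 8, 13`
  let Good : G → Prop := fun a => a ∈ S.Q ∧ a ∈ p.Q' ∧ ∃ d ∈ [0, 5, 8, 13], S.bar a = F.e d
  let wc : G → Nat := fun a => F.code (S.bar (g⁻¹ * a * g))
  have hback : ∀ a, a ∈ p.Q' → g⁻¹ * a * g ∈ S.Q := fun a ha => LargeExtraspecial.mem_conj_iff.mp ha
  have hgood : ∀ a, Good a → a ≠ 1 → wc a ∈ Model.survOne ∧ Model.rankOne (wc a) = true ∧
      ∃ r : S.Pt, r.t = F.e (wc a) ∧ (c : G) ∈ r.Q' := by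
    rintro a ⟨ha, ha', d, hd, hbar⟩ ha1
    have hmem : wc a ∈ Model.survOne := by
      rw [← F.mem_E_one hpinv (F.code_lt _), F.e_code]
      refine ⟨_, hback a ha', LargeExtraspecial.mem_conj_iff.mpr ?_, rfl⟩
      show (g⁻¹)⁻¹ * (g⁻¹ * a * g) * g⁻¹ ∈ S.Q
      rw [show (g⁻¹)⁻¹ * (g⁻¹ * a * g) * g⁻¹ = a by group]
      exact ha
    suffices hr : ∃ r : S.Pt, r.t = F.e (wc a) ∧ (c : G) ∈ r.Q' by
      refine ⟨hmem, ?_, hr⟩
      obtain ⟨r, hr, -⟩ := hr
      have := F.rankOne_code r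
      rwa [hr, F.code_e (F.code_lt _)] at this
    by_cases hd0 : d = 0
    · have haz : a = S.z :=
        ((S.bar_eq_zero ha).mp (by rw [hbar, hd0, F.e_zero])).resolve_left ha1
      refine ⟨p.inv, ?_, hcinv⟩
      rw [F.e_code, haz]
      show S.bar (g⁻¹ * S.z * (g⁻¹)⁻¹) = _
      rw [inv_inv]
    obtain ⟨hdS, hdm⟩ := w3 d (by simpa [hd0] using hd)
    obtain ⟨h5, hh5⟩ : ∃ h : A6, Model.act 0 (h : Perm (Fin 6)) 1 = d := by
      simp [hd0] at hd
      rcases hd with rfl | rfl | rfl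
      exacts [⟨⟨swap 0 4 * swap 1 5 * swap 2 4 * swap 3 5, Perm.mem_alternatingGroup.mpr (by decide)⟩, i5⟩,
        ⟨⟨swap 0 3 * swap 1 4 * swap 2 3 * swap 3 4, Perm.mem_alternatingGroup.mpr (by decide)⟩, i8⟩,
        ⟨⟨swap 0 3 * swap 1 5 * swap 2 3 * swap 3 5, Perm.mem_alternatingGroup.mpr (by decide)⟩, i13⟩]
    have hd256 : d < 256 := hh5 ▸ act_lt _ _ _
    have hd12 : d ≠ 2 ∧ d ≠ 1 := by
      simp [hd0] at hd
      omega
    obtain ⟨r0, hr0, hr0t⟩ := (p.move (S.liftA h5)).exists_lift ha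
      (by rw [hbar, moved h5 d hh5])
    rw [moved h5 d hh5] at hr0t
    have hdx : r0.t ∈ px.E := by
      obtain ⟨w, hw, ew⟩ := List.mem_map.mp hdm
      have hw256 : w < 256 := (by decide : ∀ w ∈ Model.survOne, w < 256) w hw
      have hm := p.mem_E_move (S.liftA h2) ((F.mem_E_one hp hw256).mpr hw)
      rw [hr0t, ← ew]
      rw [show S.rho (S.liftA h2) (F.e w) = F.e (Model.act 0 (h2 : Perm (Fin 6)) w) from
        F.coord_alpha h2 hw256] at hm
      exact hm
    have hxr : x ∈ r0.Q' := r0.mem_of_bar hxQ (px.exists_reverse hdx (by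
      rw [hr0t, htx]
      exact fun e => hd12.1 (F.e_inj hd256 (by norm_num) e)))
    have hy' : g⁻¹ * r0.g * S.z * (g⁻¹ * r0.g)⁻¹ = g⁻¹ * a * g := by
      rw [← hr0, Pt.y]; group
    refine ⟨⟨g⁻¹ * r0.g, hy'.symm ▸ hback a ha', ?_⟩, ?_, LargeExtraspecial.mem_conj_iff.mpr ?_⟩
    · rw [hy']
      intro e
      have hay : a = p.y := by rw [hyz, ← e]; group
      rw [hay, show S.bar p.y = p.t from rfl, hp] at hbar
      exact hd12.2 (F.e_inj (by norm_num) hd256 hbar).symm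
    · show S.bar (g⁻¹ * r0.g * S.z * (g⁻¹ * r0.g)⁻¹) = _
      rw [hy', F.e_code]
    · show (g⁻¹ * r0.g)⁻¹ * (g⁻¹ * x * g) * (g⁻¹ * r0.g) ∈ S.Q
      rw [show (g⁻¹ * r0.g)⁻¹ * (g⁻¹ * x * g) * (g⁻¹ * r0.g) = r0.g⁻¹ * x * r0.g by group]
      exact LargeExtraspecial.mem_conj_iff.mp hxr
  have hwc_mul : ∀ a b, a ∈ p.Q' → b ∈ p.Q' → wc (a * b) = wc a ^^^ wc b := by
    intro a b ha hb
    refine F.e_inj (F.code_lt _) (Nat.xor_lt_two_pow (n := 8) (F.code_lt _) (F.code_lt _)) ?_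
    simp only [wc]
    rw [F.e_xor, F.e_code, F.e_code, F.e_code, ← S.bar_mul (hback a ha) (hback b hb)]
    congr 1
    group
  let h5' : A6 := ⟨swap 0 4 * swap 1 5 * swap 2 4 * swap 3 5, Perm.mem_alternatingGroup.mpr (by decide)⟩
  let h8' : A6 := ⟨swap 0 3 * swap 1 4 * swap 2 3 * swap 3 4, Perm.mem_alternatingGroup.mpr (by decide)⟩
  set a5 := (p.move (S.liftA h5')).y with ha5
  set a8 := (p.move (S.liftA h8')).y with ha8
  have b5 : S.bar a5 = F.e 5 := moved h5' 5 i5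
  have b8 : S.bar a8 = F.e 8 := moved h8' 8 i8
  have m5 : a5 ∈ S.Q := Pt.y_mem _
  have m8 : a8 ∈ S.Q := Pt.y_mem _
  have n5 : a5 ∈ p.Q' := p.mem_of_bar m5 (by
    rw [b5]; exact (F.mem_E_one hp (by norm_num)).mpr (w3 5 (by simp)).1)
  have n8 : a8 ∈ p.Q' := p.mem_of_bar m8 (by
    rw [b8]; exact (F.mem_E_one hp (by norm_num)).mpr (w3 8 (by simp)).1)
  have mz : S.z ∈ S.Q := S.hub.mem
  have nz : S.z ∈ p.Q' := p.z_mem
  have b58 : S.bar (a5 * a8) = F.e 13 := by rw [S.bar_mul m5 m8, b5, b8, ← F.e_xor, w58]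
  have ne_of : ∀ {a : G} {d : Nat}, S.bar a = F.e d → d < 256 → d ≠ 0 → a ≠ 1 := by
    rintro a d h hd hd0 rfl
    rw [S.bar_one, ← F.e_zero] at h
    exact hd0 (F.e_inj (by norm_num) hd h).symm
  have zb : ∀ {a : G}, a ∈ S.Q → S.bar (S.z * a) = S.bar a := fun ha => by
    rw [S.bar_mul mz ha, S.bar_z, zero_add]
  have hwz : wc S.z = 1 := by
    refine F.e_inj (F.code_lt _) (by norm_num) ?_
    rw [F.e_code, ← hpinv]
    show _ = S.bar (g⁻¹ * S.z * (g⁻¹)⁻¹)
    rw [inv_inv]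
  set A := wc a5 with hA
  set C := wc a8 with hC
  have hseven : ∀ d ∈ Model.seven A C, ∃ a, Good a ∧ a ≠ 1 ∧ wc a = d := by
    intro d hd
    simp only [Model.seven, List.mem_cons, List.not_mem_nil, or_false] at hd
    rcases hd with rfl | rfl | rfl | rfl | rfl | rfl | rfl
    · exact ⟨S.z, ⟨mz, nz, 0, by simp, by rw [S.bar_z, F.e_zero]⟩, S.hub.ne_one, hwz⟩
    · exact ⟨a5, ⟨m5, n5, 5, by simp, b5⟩, ne_of b5 (by norm_num) (by norm_num), rfl⟩
    · exact ⟨a8, ⟨m8, n8, 8, by simp, b8⟩, ne_of b8 (by norm_num) (by norm_num), rfl⟩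
    · exact ⟨a5 * a8, ⟨mul_mem m5 m8, mul_mem n5 n8, 13, by simp, b58⟩,
        ne_of b58 (by norm_num) (by norm_num), hwc_mul _ _ n5 n8⟩
    · exact ⟨S.z * a5, ⟨mul_mem mz m5, mul_mem nz n5, 5, by simp, (zb m5).trans b5⟩,
        ne_of ((zb m5).trans b5) (by norm_num) (by norm_num), by rw [hwc_mul _ _ nz n5, hwz]⟩
    · exact ⟨S.z * a8, ⟨mul_mem mz m8, mul_mem nz n8, 8, by simp, (zb m8).trans b8⟩,
        ne_of ((zb m8).trans b8) (by norm_num) (by norm_num), by rw [hwc_mul _ _ nz n8, hwz]⟩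
    · have hb : S.bar (S.z * a5 * a8) = F.e 13 := by
        rw [mul_assoc, zb (mul_mem m5 m8), b58]
      exact ⟨S.z * a5 * a8, ⟨mul_mem (mul_mem mz m5) m8, mul_mem (mul_mem nz n5) n8, 13, by simp, hb⟩,
        ne_of hb (by norm_num) (by norm_num),
        by rw [hwc_mul _ _ (mul_mem nz n5) n8, hwc_mul _ _ nz n5, hwz]⟩
  have hall : (Model.seven A C).all Model.rankOne = true := by
    rw [List.all_eq_true]
    intro d hd
    obtain ⟨a, ha, ha1, e⟩ := hseven d hd
    exact e ▸ (hgood a ha ha1).2.1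
  have hmemA : A ∈ Model.survOne := (hgood a5 ⟨m5, n5, 5, by simp, b5⟩
    (ne_of b5 (by norm_num) (by norm_num))).1
  have hmemC : C ∈ Model.survOne := (hgood a8 ⟨m8, n8, 8, by simp, b8⟩
    (ne_of b8 (by norm_num) (by norm_num))).1
  obtain ⟨k4, k8⟩ := Model.seven_unique A hmemA C hmemC hall
  -- the model of `c`
  obtain ⟨t, ht⟩ := F.coord c
  set b := (S.pr c).2 with hb
  have cond1 : Model.condF (Model.act t b) = true :=
    F.condF_one hpinv hcinv (fun v _ => act_lt _ _ _) ht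
  have condh : ∀ (h : A6) (d : Nat), Model.act 0 (h : Perm (Fin 6)) 1 = d → d ∈ Model.seven A C →
      Model.condF (Model.conjF (h : Perm (Fin 6)) t b) = true := by
    intro h d hd hmem
    obtain ⟨a, ha, ha1, e⟩ := hseven d hmem
    obtain ⟨r, hr, hcr⟩ := (hgood a ha ha1).2.2
    rw [e] at hr
    have hc1 : S.rho (S.liftA h) (F.e 1) = F.e d := by
      show S.alpha.act h _ = _
      rw [F.coord_alpha h (by norm_num), hd]
    refine F.condF_one (c := (S.liftA h)⁻¹ * c * S.liftA h) (F.t_back r hr hc1) ?_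
      (fun v _ => act_lt _ _ _) (fun v hv => ?_)
    · rw [r.Q'_move]
      refine LargeExtraspecial.mem_conj_iff.mpr ?_
      simpa [mul_assoc] using hcr
    · rw [S.rho_mul, S.rho_mul, show S.rho (S.liftA h) (F.e v) =
        F.e (Model.act 0 (h : Perm (Fin 6)) v) from F.coord_alpha h hv, ht _ (act_lt _ _ _),
        S.rho_congr (c := (S.liftA h)⁻¹) (d := S.liftA h⁻¹) (by
          rw [map_inv, S.pr_liftA, S.pr_liftA]
          exact Prod.ext inv_one rfl)]
      exact F.coord_alpha h⁻¹ (act_lt _ _ _)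
  obtain ⟨hb1, hb2⟩ := Model.common_conj t b cond1
    (condh ⟨swap 0 2 * swap 1 3, Perm.mem_alternatingGroup.mpr (by decide)⟩ 4 i4 k4)
    (condh ⟨swap 0 3 * swap 1 4 * swap 2 3 * swap 3 4, Perm.mem_alternatingGroup.mpr (by decide)⟩
      8 i8 k8)
  rcases hb2 with rfl | rfl
  · refine hcQ ((S.rho_eq_one_iff c).mp fun v => ?_)
    obtain ⟨n, hn, rfl⟩ := F.e_surj v
    rw [ht n hn, hb1, Model.identity_zero ⟨n, hn⟩]
  · refine F.no_transvection c (g⁻¹ * px.g) ?_ hcQ hb1 (fun v hv => ?_)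
      (n0 := g⁻¹ * S.z * g) ?_ ?_ ?_ ?_
    · show g⁻¹ * px.g * S.z * (g⁻¹ * px.g)⁻¹ = g⁻¹ * x * g
      rw [hx, Pt.y]; group
    · rw [ht v hv, hb1]
    · exact hback _ nz
    · rw [LargeExtraspecial.mem_conj_iff]
      rw [show (g⁻¹ * px.g)⁻¹ * (g⁻¹ * S.z * g) * (g⁻¹ * px.g) = px.g⁻¹ * S.z * px.g by group]
      exact LargeExtraspecial.mem_conj_iff.mp px.z_mem
    · intro e
      exact S.hub.ne_one (by
        calc S.z = g * (g⁻¹ * S.z * g) * g⁻¹ := by group
          _ = 1 := by rw [e]; group)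
    · intro e
      exact p.ne (by
        calc g * S.z * g⁻¹ = g * (g⁻¹ * S.z * g) * g⁻¹ := by rw [e]
          _ = S.z := by group)

end Frame

variable (S)
include S

theorem orderOf_rot_dvd : 3 ∣ Nat.card G := by
  have h1 : orderOf (S.pr S.liftS) ∣ orderOf S.liftS := orderOf_map_dvd _ _
  have : Fact (Nat.Prime 3) := ⟨Nat.prime_three⟩
  have h3 : orderOf (S.pr S.liftS) = 3 := by
    refine orderOf_eq_prime ?_ ?_
    · rw [S.pr_liftS]; decide +kernel
    · rw [S.pr_liftS]; decide +kernel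
  rw [h3, ← Subgroup.orderOf_coe] at h1
  exact h1.trans (orderOf_dvd_natCard _)

theorem pResidual_top [IsSimpleGroup G] : Cfsg.pResidual 2 G = ⊤ := by
  have hn : (Cfsg.pResidual 2 G).Normal := by
    constructor
    intro x hx g
    have : (Cfsg.pResidual 2 G).map (MulAut.conj g).toMonoidHom ≤ Cfsg.pResidual 2 G := by
      rw [Cfsg.pResidual, MonoidHom.map_closure]
      refine closure_mono ?_
      rintro _ ⟨y, hy, rfl⟩
      show Nat.Coprime (orderOf ((MulAut.conj g).toMonoidHom y)) 2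
      rw [orderOf_injective (MulAut.conj g).toMonoidHom (MulAut.conj g).injective y]
      exact hy
    simpa using this (mem_map_of_mem _ hx)
  refine hn.eq_bot_or_eq_top.resolve_left fun hb => ?_
  have : Fact (Nat.Prime 3) := ⟨Nat.prime_three⟩
  obtain ⟨x, hx⟩ := exists_prime_orderOf_dvd_card' 3 S.orderOf_rot_dvd
  have hm : x ∈ Cfsg.pResidual 2 G := subset_closure (by
    show Nat.Coprime (orderOf x) 2
    rw [hx]
    norm_num)
  rw [hb, mem_bot] at hm
  rw [hm, orderOf_one] at hx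
  exact absurd hx (by norm_num)

/-- `z` is conjugate to an element of `Q` other than itself. -/
theorem exists_pt [IsSimpleGroup G] : Nonempty S.Pt := by
  by_contra hno
  obtain ⟨a, ha⟩ := S.odd
  let χ : ↥(centralizer ({S.z} : Set G)) →* ℤˣ :=
    Perm.sign.comp ((MonoidHom.fst (Perm (Fin 3)) (Perm (Fin 6))).comp S.pr)
  have hA : IsPGroup 2 ℤˣ := IsPGroup.of_card (n := 1) (by
    rw [Nat.card_eq_fintype_card, Fintype.card_units_int, pow_one])
  have h1 := S.hub.hom_eq_one_of_wc S.le (IsPGroup.of_card (n := 9) (by rw [S.card]; norm_num))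
    (by rw [S.card]; norm_num) S.pResidual_top
    (fun g hg => by_contra fun hne => hno ⟨⟨g, hg, hne⟩⟩) χ hA
    (fun c => Int.units_mul_self _)
    (fun c d hc hd => by
      rw [(Int.units_eq_one_or _).resolve_left hc, (Int.units_eq_one_or _).resolve_left hd]) a
  have : χ a = -1 := ha
  rw [h1] at this
  exact absurd this (by decide)

/-- There is no simple group in the setting. -/
theorem not_simple [IsSimpleGroup G] : False := by
  obtain ⟨p⟩ := S.exists_pt
  have hfpf := S.sig_fpf p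
  have main : ∀ T : Setting G, (∀ v, T.sig v = v → v = 0) → T.alpha.Split → False := by
    intro T hT hsplit
    obtain ⟨q⟩ := T.exists_pt
    have hne : ∃ x : T.V, x ≠ 0 := ⟨q.t, q.t_ne⟩
    obtain ⟨P⟩ := hsplit.exists_pairs T.form hne
    exact Frame.false_of_pt ⟨hT, P⟩ q
  rcases S.alpha.exists_split S.form S.sig S.card_V S.sig_iter hfpf S.sig_comm S.alpha_inj with h | h
  · exact main S hfpf h
  · obtain ⟨q⟩ := S.relabel.exists_pt
    exact main S.relabel (S.relabel.sig_fpf q) (S.relabel_split h)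

end Setting

end Cfsg.Agent.WidthFour
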