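import Cfsg.Agent.Lib.WidthFour.AltSixModule

/-!
# The natural module inside a split module of 256 elements

* `SixRep.Split.exists_pairs`: vectors indexed by the pairs of six letters, satisfying the relations
  of the natural four-dimensional module and permuted by the action.
-/

set_option autoImplicit false
set_option maxRecDepth 100000

namespace Cfsg.Agent.WidthFour

open Equiv

/-- `(0 1)(2 3)` -/
def kOne : A6 := ⟨swap 0 1 * swap 2 3, Perm.mem_alternatingGroup.2 (by decide)⟩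
/-- `(0 2)(1 3)` -/
def kTwo : A6 := ⟨swap 0 2 * swap 1 3, Perm.mem_alternatingGroup.2 (by decide)⟩
/-- `(0 1)(4 5)` -/
def tPair : A6 := ⟨swap 0 1 * swap 4 5, Perm.mem_alternatingGroup.2 (by decide)⟩

theorem kRel : kOne * kOne = 1 ∧ kTwo * kTwo = 1 ∧ kOne * kTwo = kTwo * kOne ∧ tPair * tPair = 1 := by
  decide +kernel

theorem cA_word : kOne * (cB * (kTwo * (cB * (cB * (kOne * (kTwo * (cB * (kOne * (cB * cB))))))))) =
    cA := by
  decide +kernel

theorem kNorm_cA :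
    (kOne * cA = cA * kOne ∨ kOne * cA = cA * kTwo ∨ kOne * cA = cA * (kOne * kTwo)) ∧
    (kTwo * cA = cA * kOne ∨ kTwo * cA = cA * kTwo ∨ kTwo * cA = cA * (kOne * kTwo)) := by
  decide +kernel

theorem kNorm_tPair :
    kOne * tPair = tPair * kOne ∧
    (kTwo * tPair = tPair * kTwo ∨ kTwo * tPair = tPair * (kOne * kTwo)) ∧
    (cA * tPair = tPair * (cA * cA) ∨ cA * tPair = tPair * (kOne * (cA * cA)) ∨
      cA * tPair = tPair * (kTwo * (cA * cA)) ∨
      cA * tPair = tPair * (kOne * (kTwo * (cA * cA)))) := by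
  decide +kernel

/-- The elements fixing `{4, 5}`. -/
theorem stab_pair : ∀ g : A6,
    (((g : Perm (Fin 6)) 4 = 4 ∧ (g : Perm (Fin 6)) 5 = 5) ∨
      ((g : Perm (Fin 6)) 4 = 5 ∧ (g : Perm (Fin 6)) 5 = 4)) →
    ∃ i : Fin 2, ∃ j : Fin 2, ∃ l : Fin 3, ∃ m : Fin 2,
      g = kOne ^ (i : ℕ) * (kTwo ^ (j : ℕ) * (cA ^ (l : ℕ) * tPair ^ (m : ℕ))) := by
  decide +kernel

theorem exists_rep : ∀ i j : Fin 6, i ≠ j → ∃ g : A6,
    (g : Perm (Fin 6)) 4 = i ∧ (g : Perm (Fin 6)) 5 = j := by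
  decide +kernel

theorem exists_triangle : ∀ i j k : Fin 6, i ≠ j → j ≠ k → i ≠ k → ∃ g : A6,
    (g : Perm (Fin 6)) 0 = i ∧ (g : Perm (Fin 6)) 1 = j ∧ (g : Perm (Fin 6)) 2 = k := by
  decide +kernel

/-- Vectors indexed by pairs with the relations of the natural module. -/
structure Pairs {V : Type*} [AddCommGroup V] (ρ : SixRep V) where
  /-- the vector of a pair -/
  v : Fin 6 → Fin 6 → V
  diag : ∀ i, v i i = 0
  cocycle : ∀ i j k, v i j + v j k = v i k
  total : v 0 1 + v 2 3 + v 4 5 = 0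
  equiv : ∀ g : A6, ∀ i j, ρ.act g (v i j) = v ((g : Perm (Fin 6)) i) ((g : Perm (Fin 6)) j)
  ne : v 4 5 ≠ 0

variable {V : Type*} [AddCommGroup V] {ρ : SixRep V}

theorem exists_fixed_step (two : ∀ x : V, x + x = 0) {g : A6} (hg : g * g = 1) {x : V}
    (hx : x ≠ 0) : ∃ y, y ≠ 0 ∧ ρ.act g y = y ∧
      ∀ h : A6, ρ.act h x = x → ρ.act h (ρ.act g x) = ρ.act g x → ρ.act h y = y := by
  by_cases h : ρ.act g x = x
  · exact ⟨x, hx, h, fun _ e _ => e⟩
  · refine ⟨x + ρ.act g x, fun e => h ?_, ?_, fun k e e' => by rw [map_add, e, e']⟩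
    · exact add_left_cancel (e.trans (two x).symm)
    · rw [map_add, ← ρ.mul', hg, ρ.one', add_comm]

/-- The natural module. -/
theorem SixRep.Split.exists_pairs (hS : ρ.Split) (F : Form V) (hne : ∃ x : V, x ≠ 0) :
    Nonempty (Pairs ρ) := by
  classical
  have two := F.two
  have fix2 : ∀ {a b : A6} {x : V}, ρ.act a x = x → ρ.act b x = x → ρ.act (a * b) x = x :=
    fun ha hb => by rw [ρ.mul', hb, ha]
  -- fixed by `K`
  obtain ⟨x0, hx0⟩ := hne
  obtain ⟨x1, hx1, hk1, -⟩ := exists_fixed_step (ρ := ρ) two kRel.1 hx0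
  obtain ⟨x2, hx2, hk2, hk2'⟩ := exists_fixed_step (ρ := ρ) two kRel.2.1 hx1
  have hk12 : ρ.act kOne x2 = x2 := hk2' _ hk1 (by rw [← ρ.mul', kRel.2.2.1, ρ.mul', hk1])
  -- fixed by `K` and `(0 1 2)`
  set a := ρ.act cA with ha
  set b := ρ.act cB with hb
  have a3 : ∀ x, a (a (a x)) = x := ρ.act_cA_three
  have b3 : ∀ x, b (b (b x)) = x := ρ.act_cB_three
  have ab : ∀ x, b (a x) = a (b x) := ρ.act_comm
  set w := avgThree a x2 with hw
  have hwa : a w = w := by
    simp only [hw, avgThree_apply, map_add, a3]; abel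
  have hw0 : w ≠ 0 := by
    intro hzero
    rw [hw, avgThree_apply] at hzero
    set y := x2 + b x2 + b (b x2) with hy
    have hby : b y = y := by simp only [hy, map_add, b3]; abel
    have hC : x2 + a (b x2) + a (a (b (b x2))) = 0 := hS.no_AB _ (by
      simp only [← ha, ← hb, map_add, ab, a3, b3]; abel)
    have hD : x2 + a (b (b x2)) + a (a (b x2)) = 0 := hS.no_AB' _ (by
      simp only [← ha, ← hb, map_add, ab, a3, b3]; abel)
    have hP : x2 + a x2 + a (a x2) + (b x2 + a (b x2) + a (a (b x2))) +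
        (b (b x2) + a (b (b x2)) + a (a (b (b x2)))) = 0 := hS.no_P _
      (by simp only [← ha, map_add, a3]; abel) (by simp only [← hb, map_add, ab, b3]; abel)
    have hxy : x2 = y := by
      have h : (x2 + a x2 + a (a x2)) + y + (x2 + a (b x2) + a (a (b (b x2)))) +
          (x2 + a (b (b x2)) + a (a (b x2))) +
          (x2 + a x2 + a (a x2) + (b x2 + a (b x2) + a (a (b x2))) +
            (b (b x2) + a (b (b x2)) + a (a (b (b x2))))) = x2 := by
        rw [hy]
        abel_nf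
        simp [z2_zsmul F, z2_nsmul F]
      rw [hP, hC, hD, hzero, zero_add, add_zero, add_zero, add_zero] at h
      exact h.symm
    have hxb : ρ.act cB x2 = x2 := by rw [hxy]; exact hby
    have hxa : ρ.act cA x2 = x2 := by
      rw [← cA_word]
      exact fix2 hk12 (fix2 hxb (fix2 hk2 (fix2 hxb (fix2 hxb (fix2 hk12 (fix2 hk2 (fix2 hxb
        (fix2 hk12 (fix2 hxb hxb)))))))))
    exact hx2 (hS.no_P x2 hxa hxb)
  have hkw : ρ.act kOne w = w ∧ ρ.act kTwo w = w := by
    have hk3 : ρ.act (kOne * kTwo) x2 = x2 := fix2 hk12 hk2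
    have hstep : ∀ k : A6, (k = kOne ∨ k = kTwo ∨ k = kOne * kTwo) → ρ.act k (a x2) = a x2 := by
      have h1 : ρ.act kOne (a x2) = a x2 := by
        rw [ha, ← ρ.mul']
        rcases kNorm_cA.1 with e | e | e <;> rw [e, ρ.mul']
        exacts [by rw [hk12], by rw [hk2], by rw [hk3]]
      have h2 : ρ.act kTwo (a x2) = a x2 := by
        rw [ha, ← ρ.mul']
        rcases kNorm_cA.2 with e | e | e <;> rw [e, ρ.mul']
        exacts [by rw [hk12], by rw [hk2], by rw [hk3]]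
      rintro k (rfl | rfl | rfl)
      exacts [h1, h2, fix2 h1 h2]
    have h2a : ∀ k : A6, (k = kOne ∨ k = kTwo) → ρ.act k (a (a x2)) = a (a x2) := by
      rintro k (rfl | rfl)
      · rw [ha, ← ρ.mul']
        rcases kNorm_cA.1 with e | e | e <;> rw [e, ρ.mul', hstep _ (by tauto)]
      · rw [ha, ← ρ.mul']
        rcases kNorm_cA.2 with e | e | e <;> rw [e, ρ.mul', hstep _ (by tauto)]
    constructor
    · rw [hw, avgThree_apply, map_add, map_add, hk12, hstep _ (by tauto), h2a _ (by tauto)]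
    · rw [hw, avgThree_apply, map_add, map_add, hk2, hstep _ (by tauto), h2a _ (by tauto)]
  obtain ⟨v0, hv0, htv, hrest⟩ := exists_fixed_step (ρ := ρ) two kRel.2.2.2 hw0
  have hwaa : ρ.act (cA * cA) w = w := fix2 hwa hwa
  have hk1v : ρ.act kOne v0 = v0 := hrest _ hkw.1 (by
    rw [← ρ.mul', kNorm_tPair.1, ρ.mul', hkw.1])
  have hk2v : ρ.act kTwo v0 = v0 := hrest _ hkw.2 (by
    rw [← ρ.mul']
    rcases kNorm_tPair.2.1 with e | e <;> rw [e, ρ.mul']
    exacts [by rw [hkw.2], by rw [fix2 hkw.1 hkw.2]])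
  have hav : ρ.act cA v0 = v0 := hrest _ hwa (by
    rw [← ρ.mul']
    rcases kNorm_tPair.2.2 with e | e | e | e <;> rw [e, ρ.mul']
    exacts [by rw [hwaa], by rw [fix2 hkw.1 hwaa], by rw [fix2 hkw.2 hwaa],
      by rw [fix2 hkw.1 (fix2 hkw.2 hwaa)]])
  have hpow : ∀ (g : A6) (n : ℕ), ρ.act g v0 = v0 → ρ.act (g ^ n) v0 = v0 := fun g n hg => by
    induction n with
    | zero => rw [pow_zero, ρ.one']
    | succ n ih => rw [pow_succ]; exact fix2 ih hg
  have hstab : ∀ g : A6, (((g : Perm (Fin 6)) 4 = 4 ∧ (g : Perm (Fin 6)) 5 = 5) ∨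
      ((g : Perm (Fin 6)) 4 = 5 ∧ (g : Perm (Fin 6)) 5 = 4)) → ρ.act g v0 = v0 := fun g hg => by
    obtain ⟨i, j, l, m, rfl⟩ := stab_pair g hg
    exact fix2 (hpow _ _ hk1v) (fix2 (hpow _ _ hk2v) (fix2 (hpow _ _ hav) (hpow _ _ htv)))
  -- the vectors
  let v : Fin 6 → Fin 6 → V := fun i j =>
    if h : i = j then 0 else ρ.act (exists_rep i j h).choose v0
  have hv : ∀ (g : A6) (i j : Fin 6),
      (((g : Perm (Fin 6)) 4 = i ∧ (g : Perm (Fin 6)) 5 = j) ∨
        ((g : Perm (Fin 6)) 4 = j ∧ (g : Perm (Fin 6)) 5 = i)) → ρ.act g v0 = v i j := by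
    intro g i j hg
    have hij : i ≠ j := by
      rintro rfl
      have : (g : Perm (Fin 6)) 4 = (g : Perm (Fin 6)) 5 := by
        rcases hg with h | h <;> rw [h.1, h.2]
      exact absurd ((g : Perm (Fin 6)).injective this) (by decide)
    simp only [v, dif_neg hij]
    set r := (exists_rep i j hij).choose
    obtain ⟨r4, r5⟩ := (exists_rep i j hij).choose_spec
    have h : ρ.act (r⁻¹ * g) v0 = v0 := by
      refine hstab _ ?_
      rcases hg with h | h
      · exact Or.inl ⟨by rw [Subgroup.coe_mul, Subgroup.coe_inv, Perm.mul_apply, h.1, Perm.inv_eq_iff_eq, r4],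
          by rw [Subgroup.coe_mul, Subgroup.coe_inv, Perm.mul_apply, h.2, Perm.inv_eq_iff_eq, r5]⟩
      · exact Or.inr ⟨by rw [Subgroup.coe_mul, Subgroup.coe_inv, Perm.mul_apply, h.1, Perm.inv_eq_iff_eq, r5],
          by rw [Subgroup.coe_mul, Subgroup.coe_inv, Perm.mul_apply, h.2, Perm.inv_eq_iff_eq, r4]⟩
    calc ρ.act g v0 = ρ.act (r * (r⁻¹ * g)) v0 := by rw [mul_inv_cancel_left]
      _ = ρ.act r v0 := by rw [ρ.mul', h]
  have hdiag : ∀ i, v i i = 0 := fun i => dif_pos rfl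
  have hsymm : ∀ i j, v i j = v j i := fun i j => by
    by_cases h : i = j
    · rw [h]
    · obtain ⟨g, g4, g5⟩ := exists_rep i j h
      rw [← hv g i j (Or.inl ⟨g4, g5⟩), hv g j i (Or.inr ⟨g4, g5⟩)]
  have hequiv : ∀ g : A6, ∀ i j,
      ρ.act g (v i j) = v ((g : Perm (Fin 6)) i) ((g : Perm (Fin 6)) j) := fun g i j => by
    by_cases h : i = j
    · rw [h, hdiag, hdiag, map_zero]
    · obtain ⟨r, r4, r5⟩ := exists_rep i j h
      rw [← hv r i j (Or.inl ⟨r4, r5⟩), ← ρ.mul']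
      exact hv _ _ _ (Or.inl ⟨by rw [Subgroup.coe_mul, Perm.mul_apply, r4],
        by rw [Subgroup.coe_mul, Perm.mul_apply, r5]⟩)
  have htri0 : v 0 1 + v 1 2 + v 2 0 = 0 := by
    refine hS.no_P _ ?_ ?_
    · rw [map_add, map_add, hequiv, hequiv, hequiv]
      show v 1 2 + v 2 0 + v 0 1 = _
      abel
    · rw [map_add, map_add, hequiv, hequiv, hequiv]
      rfl
  have hcoc : ∀ i j k, v i j + v j k = v i k := fun i j k => by
    by_cases hij : i = j
    · rw [hij, hdiag, zero_add]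
    by_cases hjk : j = k
    · rw [hjk, hdiag, add_zero]
    by_cases hik : i = k
    · rw [hik, hdiag, hsymm j k, two]
    obtain ⟨g, g0, g1, g2⟩ := exists_triangle i j k hij hjk hik
    have h := congrArg (ρ.act g) htri0
    rw [map_add, map_add, hequiv, hequiv, hequiv, g0, g1, g2, map_zero, hsymm k i] at h
    exact add_right_cancel (h.trans (two _).symm)
  -- the matching
  have hexp : ∀ i j, v i j = v 0 i + v 0 j := fun i j => by
    rw [hsymm 0 i, hcoc]
  have hmatch : ∀ p : Equiv.Perm (Fin 6),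
      v (p 0) (p 1) + v (p 2) (p 3) + v (p 4) (p 5) = ∑ i : Fin 6, v 0 i := fun p => by
    rw [hexp (p 0), hexp (p 2), hexp (p 4), ← Equiv.sum_comp p (fun i => v 0 i)]
    simp only [Fin.sum_univ_six]
    abel
  have htot : v 0 1 + v 2 3 + v 4 5 = 0 := by
    have h1 : ∀ g : A6, ρ.act g (v 0 1 + v 2 3 + v 4 5) = v 0 1 + v 2 3 + v 4 5 := fun g => by
      rw [map_add, map_add, hequiv, hequiv, hequiv, hmatch]
      exact (hmatch 1).symm
    exact hS.no_P _ (h1 _) (h1 _)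
  exact ⟨⟨v, hdiag, hcoc, htot, hequiv, by
    rw [← hv 1 4 5 (Or.inl ⟨rfl, rfl⟩), ρ.one']; exact hv0⟩⟩

end Cfsg.Agent.WidthFour
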